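import Mathlib
import Cfsg.Agent.Coprime.Generation
import Cfsg.Agent.PLocal.Cores
import Cfsg.Agent.PrimeGraph.Lucido

/-! Groups all of whose elements have prime power order. -/

namespace CfsgLib.FgsSix

variable {G : Type*} [Group G] [Finite G]

/-- In a group all of whose elements have prime power order, commuting non-identity elements of
coprime orders do not exist. -/
theorem not_commute_of_ne (hpp : ∀ g : G, g ≠ 1 → IsPrimePow (orderOf g)) {a b : G} {r s : ℕ}
    (hr : r.Prime) (hs : s.Prime) (hrs : r ≠ s) (ha : orderOf a = r) (hb : orderOf b = s)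
    (h : Commute a b) : False := by
  have hab : orderOf (a * b) = r * s := by
    rw [h.orderOf_mul_eq_mul_orderOf_of_coprime (by rw [ha, hb]; exact (Nat.coprime_primes hr hs).2 hrs),
      ha, hb]
  have hne : a * b ≠ 1 := by
    intro h1
    rw [h1, orderOf_one] at hab
    exact hr.ne_one (Nat.eq_one_of_mul_eq_one_right hab.symm)
  obtain ⟨t, k, ht, hk, htk⟩ := (isPrimePow_nat_iff _).1 (hpp _ hne)
  rw [hab] at htk
  have h1 : r = t := (Nat.prime_dvd_prime_iff_eq hr ht).1
    (hr.dvd_of_dvd_pow (htk.symm ▸ dvd_mul_right r s))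
  have h2 : s = t := (Nat.prime_dvd_prime_iff_eq hs ht).1
    (hs.dvd_of_dvd_pow (htk.symm ▸ dvd_mul_left s r))
  exact hrs (h1.trans h2.symm)

/-- The hypothesis passes to quotients. -/
theorem isPrimePow_quotient (hpp : ∀ g : G, g ≠ 1 → IsPrimePow (orderOf g)) (N : Subgroup G)
    [N.Normal] : ∀ g : G ⧸ N, g ≠ 1 → IsPrimePow (orderOf g) := by
  intro g hg
  obtain ⟨x, rfl⟩ := QuotientGroup.mk'_surjective N g
  have hx : x ≠ 1 := fun h => hg (by rw [h, map_one])
  exact (hpp x hx).dvd (orderOf_map_dvd _ x) (fun h => hg (orderOf_eq_one_iff.1 h))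

/-- A solvable subgroup has order divisible by at most two primes. -/
theorem card_primeFactors_le_two (hpp : ∀ g : G, g ≠ 1 → IsPrimePow (orderOf g)) (H : Subgroup G)
    (hH : Group.IsSolvable ↥H) : (Nat.card ↥H).primeFactors.card ≤ 2 := by
  by_contra hc
  push_neg at hc
  obtain ⟨p, q, r, hp, hq, hr, hpq, hpr, hqr⟩ := Finset.two_lt_card_iff.1 hc
  simp only [Nat.mem_primeFactors] at hp hq hr
  have key : ∀ {a b : ℕ}, a.Prime → b.Prime → a ≠ b → ¬ ∃ g : ↥H, orderOf g = a * b := by
    rintro a b ha hb hab ⟨g, hg⟩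
    have hne : (g : G) ≠ 1 := by
      intro h1
      rw [← Subgroup.orderOf_coe, h1, orderOf_one] at hg
      exact ha.ne_one (Nat.eq_one_of_mul_eq_one_right hg.symm)
    obtain ⟨t, k, ht, hk, htk⟩ := (isPrimePow_nat_iff _).1 (hpp _ hne)
    rw [Subgroup.orderOf_coe, hg] at htk
    exact hab (((Nat.prime_dvd_prime_iff_eq ha ht).1 (ha.dvd_of_dvd_pow (htk.symm ▸ dvd_mul_right a b))).trans
      ((Nat.prime_dvd_prime_iff_eq hb ht).1 (hb.dvd_of_dvd_pow (htk.symm ▸ dvd_mul_left b a))).symm)
  rcases CfsgLib.PrimeGraph.exists_edge_of_isSolvable hH hp.1 hq.1 hr.1 hpq hpr hqr hp.2.1 hq.2.1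
    hr.2.1 with h | h | h
  · exact key hp.1 hq.1 hpq h
  · exact key hp.1 hr.1 hpr h
  · exact key hq.1 hr.1 hqr h

/-- An extension of groups with solvable ends is solvable. -/
theorem isSolvable_of_quotient (N : Subgroup G) [N.Normal] (hN : Group.IsSolvable ↥N)
    (hQ : Group.IsSolvable (G ⧸ N)) : Group.IsSolvable G :=
  Group.isSolvable_of_ker_le_range N.subtype (QuotientGroup.mk' N)
    (by rw [QuotientGroup.ker_mk', Subgroup.range_subtype])

/-- In a non-solvable group with elements of prime power order, the solvable radical is a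
`p`-group. -/
theorem radical_isPGroup (hpp : ∀ g : G, g ≠ 1 → IsPrimePow (orderOf g))
    (hns : ¬ Group.IsSolvable G) (R : Subgroup G) [R.Normal] (hR : Group.IsSolvable ↥R) :
    ∃ p : ℕ, p.Prime ∧ IsPGroup p ↥R := by
  classical
  rcases eq_or_ne R ⊥ with rfl | hR1
  · exact ⟨2, Nat.prime_two, IsPGroup.of_bot⟩
  haveI : Nontrivial ↥R := (Subgroup.nontrivial_iff_ne_bot R).2 hR1
  obtain ⟨V, p, hp, hV, hV1, -, hVp⟩ := CfsgLib.PrimeGraph.exists_normal_elementary hR
  haveI := Fact.mk hp
  haveI := hV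
  refine ⟨p, hp, ?_⟩
  set P : Subgroup G := (Cfsg.pCore p ↥R).map R.subtype with hP
  haveI hPn : P.Normal := CfsgLib.PLocal.normal_map_subtype R _
  have hPp : IsPGroup p ↥P := (CfsgLib.PLocal.isPGroup_pCore p ↥R).map _
  have hP1 : P ≠ ⊥ := by
    intro h
    apply hV1
    have hVP : IsPGroup p ↥V := fun v => ⟨1, Subtype.ext (by simpa using hVp v.1 v.2)⟩
    rw [hP, Subgroup.map_eq_bot_iff_of_injective _ R.subtype_injective] at h
    exact le_bot_iff.1 (h ▸ CfsgLib.PLocal.le_pCore hVP)
  by_contra hcon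
  have hPR : P ≤ R := Subgroup.map_subtype_le _
  have hne : R.map (QuotientGroup.mk' P) ≠ ⊥ := by
    intro h
    apply hcon
    rw [Subgroup.map_eq_bot_iff, QuotientGroup.ker_mk'] at h
    exact hPp.to_le h
  set Rb := R.map (QuotientGroup.mk' P) with hRb
  haveI : Rb.Normal := Subgroup.Normal.map inferInstance _ (QuotientGroup.mk'_surjective P)
  haveI : Nontrivial ↥Rb := (Subgroup.nontrivial_iff_ne_bot Rb).2 hne
  have hRbs : Group.IsSolvable ↥Rb :=
    Group.isSolvable_of_surjective ((QuotientGroup.mk' P).subgroupMap_surjective R)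
  obtain ⟨W, q, hq, hW, hW1, -, hWq⟩ := CfsgLib.PrimeGraph.exists_normal_elementary hRbs
  haveI := Fact.mk hq
  haveI := hW
  set Q : Subgroup (G ⧸ P) := (Cfsg.pCore q ↥Rb).map Rb.subtype with hQ
  haveI hQn : Q.Normal := CfsgLib.PLocal.normal_map_subtype Rb _
  have hQq : IsPGroup q ↥Q := (CfsgLib.PLocal.isPGroup_pCore q ↥Rb).map _
  have hQ1 : Q ≠ ⊥ := by
    intro h
    apply hW1
    have hWQ : IsPGroup q ↥W := fun v => ⟨1, Subtype.ext (by simpa using hWq v.1 v.2)⟩
    rw [hQ, Subgroup.map_eq_bot_iff_of_injective _ Rb.subtype_injective] at h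
    exact le_bot_iff.1 (h ▸ CfsgLib.PLocal.le_pCore hWQ)
  set K : Subgroup G := Q.comap (QuotientGroup.mk' P) with hK
  haveI hKn : K.Normal := hQn.comap _
  have hPK : P ≤ K := (QuotientGroup.ker_mk' P).ge.trans (MonoidHom.ker_le_comap _ Q)
  have hKR : K ≤ R := by
    intro x hx
    have h1 : QuotientGroup.mk' P x ∈ Rb := Subgroup.map_subtype_le _ hx
    obtain ⟨y, hy, hxy⟩ := h1
    have h2 : y⁻¹ * x ∈ P := by
      rw [← QuotientGroup.eq_one_iff]
      change QuotientGroup.mk' P (y⁻¹ * x) = 1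
      rw [map_mul, map_inv, hxy, inv_mul_cancel]
    simpa using R.mul_mem hy (hPR h2)
  have hKs : Group.IsSolvable ↥K :=
    Group.isSolvable_of_isSolvable_injective (Subgroup.inclusion_injective hKR)
  have hKmap : K.map (QuotientGroup.mk' P) = Q :=
    Subgroup.map_comap_eq_self_of_surjective (QuotientGroup.mk'_surjective P) Q
  -- the two primes differ
  have hqp : q ≠ p := by
    rintro rfl
    apply hQ1
    rw [← hKmap, Subgroup.map_eq_bot_iff, QuotientGroup.ker_mk']
    have hKp : IsPGroup q ↥K :=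
      hQq.comap_of_ker_isPGroup (QuotientGroup.mk' P) (by rw [QuotientGroup.ker_mk']; exact hPp)
    have h1 : K.subgroupOf R ≤ Cfsg.pCore q ↥R := by
      haveI : (K.subgroupOf R).Normal := Subgroup.normal_subgroupOf
      exact CfsgLib.PLocal.le_pCore hKp.comap_subtype
    intro x hx
    exact ⟨⟨x, hKR hx⟩, h1 (Subgroup.mem_subgroupOf.2 hx), rfl⟩
  obtain ⟨S⟩ : Nonempty (Sylow q ↥K) := inferInstance
  set S0 : Subgroup G := (S : Subgroup ↥K).map K.subtype with hS0
  have hS0q : IsPGroup q ↥S0 := S.isPGroup'.map _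
  have hS01 : S0 ≠ ⊥ := by
    rw [hS0, Ne, Subgroup.map_eq_bot_iff_of_injective _ K.subtype_injective]
    intro h
    have hd : q ∣ Nat.card ↥K := by
      refine dvd_trans ?_ (Subgroup.card_map_dvd (H := K) (QuotientGroup.mk' P))
      rw [hKmap]
      obtain ⟨x, hx⟩ := (Subgroup.nontrivial_iff_ne_bot Q).2 hQ1
      exact (IsPGroup.card_eq_or_dvd hQq).resolve_left (Finite.one_lt_card_iff_nontrivial.2 ⟨x, hx⟩).ne'
    exact S.ne_bot_of_dvd_card hd h
  have hfrat : Subgroup.normalizer (S0 : Set G) ⊔ K = ⊤ := Sylow.normalizer_sup_eq_top S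
  haveI : Nontrivial ↥P := (Subgroup.nontrivial_iff_ne_bot P).2 hP1
  haveI := hPp.center_nontrivial
  set Z : Subgroup G := (Subgroup.center ↥P).map P.subtype with hZ
  haveI hZn : Z.Normal := CfsgLib.PLocal.normal_map_subtype P _
  obtain ⟨⟨c, hc⟩, hcne⟩ := exists_ne (1 : ↥(Subgroup.center ↥P))
  have hZp : IsPGroup p ↥Z := hPp.to_le (Subgroup.map_subtype_le _)
  have hfpf : ∀ s ∈ S0, s ≠ 1 → ∀ a ∈ Z, a ≠ 1 → ¬ Commute s a := by
    intro s hs hs1 a ha ha1 hsa
    obtain ⟨i, hi⟩ := IsPGroup.iff_orderOf.1 hS0q ⟨s, hs⟩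
    obtain ⟨j, hj⟩ := IsPGroup.iff_orderOf.1 hZp ⟨a, ha⟩
    rw [Subgroup.orderOf_mk] at hi hj
    have hi0 : q ∣ orderOf s := by
      rcases i with _ | i
      · exact absurd (orderOf_eq_one_iff.1 (by rw [hi, pow_zero])) hs1
      · exact hi ▸ dvd_pow_self q i.succ_ne_zero
    have hj0 : p ∣ orderOf a := by
      rcases j with _ | j
      · exact absurd (orderOf_eq_one_iff.1 (by rw [hj, pow_zero])) ha1
      · exact hj ▸ dvd_pow_self p j.succ_ne_zero
    exact not_commute_of_ne hpp hq hp hqp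
      (orderOf_pow_orderOf_div (orderOf_pos s).ne' hi0)
      (orderOf_pow_orderOf_div (orderOf_pos a).ne' hj0) (hsa.pow_pow _ _)
  -- `S0` has a unique subgroup of order `q`
  haveI : Nontrivial ↥S0 := (Subgroup.nontrivial_iff_ne_bot S0).2 hS01
  haveI := hS0q.center_nontrivial
  obtain ⟨z, hz⟩ := exists_prime_orderOf_dvd_card' (G := ↥(Subgroup.center ↥S0)) q
    ((IsPGroup.card_eq_or_dvd (hS0q.to_subgroup _)).resolve_left Finite.one_lt_card.ne')
  have hzo : orderOf ((z : ↥S0) : G) = q := by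
    rw [Subgroup.orderOf_coe, Subgroup.orderOf_coe, hz]
  set z0 : G := ((z : ↥S0) : G) with hz0
  have hzS : z0 ∈ S0 := (z : ↥S0).2
  have huniq : ∀ x ∈ S0, orderOf x = q → x ∈ Subgroup.zpowers z0 := by
    intro x hx hxo
    by_contra hxz
    have hcomm : Commute x z0 :=
      congrArg Subtype.val (Subgroup.mem_center_iff.1 z.2 ⟨x, hx⟩)
    set E : Subgroup G := Subgroup.closure ({x, z0} : Set G) with hE
    haveI hEc : IsMulCommutative ↥E :=
      Subgroup.isMulCommutative_closure (by
        intro a ha b hb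
        rcases ha with rfl | rfl <;> rcases hb with rfl | rfl
        · rfl
        · exact hcomm.eq
        · exact hcomm.symm.eq
        · rfl)
    have hES : E ≤ S0 := (Subgroup.closure_le _).2 (by
      rintro a (rfl | rfl)
      · exact hx
      · exact hzS)
    have hncyc : ¬ IsCyclic ↥E := by
      intro hcyc
      apply hxz
      haveI := Fintype.ofFinite ↥E
      haveI := hcyc
      have hxE : x ∈ E := Subgroup.subset_closure (by simp)
      have hzE : z0 ∈ E := Subgroup.subset_closure (by simp)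
      classical
      by_contra hnot
      let T : Finset ↥E := insert ⟨x, hxE⟩ ((Finset.range q).image fun i => (⟨z0, hzE⟩ : ↥E) ^ i)
      have hTsub : T ⊆ Finset.univ.filter (fun e : ↥E => e ^ q = 1) := by
        intro e he
        simp only [T, Finset.mem_insert, Finset.mem_image] at he
        simp only [Finset.mem_filter, Finset.mem_univ, true_and]
        rcases he with rfl | ⟨i, -, rfl⟩
        · exact Subtype.ext (by push_cast; rw [← hxo, pow_orderOf_eq_one])
        · refine Subtype.ext ?_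
          push_cast
          rw [← pow_mul, mul_comm, pow_mul, ← hzo, pow_orderOf_eq_one, one_pow]
      have hTcard : T.card = q + 1 := by
        rw [Finset.card_insert_of_notMem, Finset.card_image_of_injOn, Finset.card_range]
        · intro i hi j hj hij
          have h2 : z0 ^ i = z0 ^ j := by simpa using congrArg Subtype.val hij
          simp only [Finset.coe_range, Set.mem_Iio] at hi hj
          exact pow_injOn_Iio_orderOf (by rw [Set.mem_Iio, hzo]; exact hi) (by rw [Set.mem_Iio, hzo]; exact hj) h2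
        · simp only [Finset.mem_image]
          rintro ⟨i, -, hi⟩
          apply hxz
          exact ⟨i, by simpa using congrArg Subtype.val hi⟩
      have h3 := (Finset.card_le_card hTsub).trans (IsCyclic.card_pow_eq_one_le hq.pos)
      omega
    have hZE : E ≤ Subgroup.normalizer (Z : Set G) := by
      rw [Subgroup.normalizer_eq_top]; exact le_top
    have hcop : (Nat.card ↥E).Coprime (Nat.card ↥Z) :=
      IsPGroup.coprime_card_of_ne q p hqp E Z (hS0q.to_le hES) hZp
    have hle := CfsgLib.Coprime.le_of_forall_inf_centralizer_le hncyc hZE hcop (W := ⊥) (by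
      intro e he he1 a ha
      rw [Subgroup.mem_bot]
      by_contra ha1
      exact hfpf e (hES he) he1 a ha.1 ha1 (Subgroup.mem_centralizer_singleton_iff.1 ha.2).symm)
    have hcG : ((c : ↥P) : G) ∈ Z := ⟨c, hc, rfl⟩
    apply hcne
    refine Subtype.ext (Subtype.ext ?_)
    exact Subgroup.mem_bot.1 (hle hcG)
  -- so the normalizer of `S0` is solvable
  set N := Subgroup.normalizer (S0 : Set G) with hN
  set Zq := Subgroup.zpowers z0 with hZq
  have hzN : ∀ n ∈ N, ∀ w ∈ Zq, n * w * n⁻¹ ∈ Zq := by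
    intro n hn w hw
    obtain ⟨i, rfl⟩ := Subgroup.mem_zpowers_iff.1 hw
    rw [← conj_zpow]
    refine Subgroup.zpow_mem _ (huniq _ ((Subgroup.mem_normalizer_iff.1 hn z0).1 hzS) ?_) i
    rw [← MulAut.conj_apply, MulEquiv.orderOf_eq, hzo]
  have hNle : N ≤ Subgroup.normalizer (Zq : Set G) := by
    intro n hn
    rw [Subgroup.mem_normalizer_iff]
    intro w
    refine ⟨hzN n hn w, fun h => ?_⟩
    have := hzN n⁻¹ (N.inv_mem hn) _ h
    simpa [mul_assoc] using this
  haveI : (Zq.subgroupOf (Subgroup.normalizer (Zq : Set G))).Normal :=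
    Subgroup.normal_subgroupOf_of_le_normalizer le_rfl
  let φ : ↥N →* MulAut ↥(Zq.subgroupOf (Subgroup.normalizer (Zq : Set G))) :=
    MulAut.conjNormal.comp (Subgroup.inclusion hNle)
  have hker : IsPGroup q ↥φ.ker := by
    rintro ⟨⟨g, hg⟩, hgk⟩
    have hgz : Commute g z0 := by
      have h1 := congrArg (fun ψ : MulAut _ =>
        (((ψ ⟨⟨z0, Subgroup.le_normalizer (Subgroup.mem_zpowers z0)⟩,
          Subgroup.mem_subgroupOf.2 (Subgroup.mem_zpowers z0)⟩ :
          ↥(Zq.subgroupOf (Subgroup.normalizer (Zq : Set G)))) :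
          ↥(Subgroup.normalizer (Zq : Set G))) : G)) (MonoidHom.mem_ker.1 hgk)
      exact mul_inv_eq_iff_eq_mul.1 (by simpa [φ] using h1)
    by_cases hg1 : g = 1
    · exact ⟨0, Subtype.ext (Subtype.ext (by simpa using hg1))⟩
    obtain ⟨r, k, hr, hk, hrk⟩ := (isPrimePow_nat_iff _).1 (hpp g hg1)
    have hrq : r = q := by
      by_contra hrq
      exact not_commute_of_ne hpp hr hq hrq
        (orderOf_pow_orderOf_div (orderOf_pos g).ne' (hrk ▸ dvd_pow_self r hk.ne'))
        hzo (hgz.pow_left _)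
    refine ⟨k, Subtype.ext (Subtype.ext ?_)⟩
    push_cast
    rw [← hrq, hrk, pow_orderOf_eq_one]
  have hkers : Group.IsSolvable ↥φ.ker := by
    haveI := hker.isNilpotent
    infer_instance
  have hrange : Group.IsSolvable ↥φ.range := by
    refine Group.isSolvable_of_comm fun a b => ?_
    haveI : IsCyclic ↥(Zq.subgroupOf (Subgroup.normalizer (Zq : Set G))) :=
      (MulEquiv.isCyclic (Subgroup.subgroupOfEquivOfLe Subgroup.le_normalizer)).2
        (Subgroup.isCyclic_zpowers z0)
    refine Subtype.ext ?_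
    apply (IsCyclic.mulAutMulEquiv _).injective
    push_cast
    rw [map_mul, map_mul, mul_comm]
  have hNs : Group.IsSolvable ↥N :=
    Group.isSolvable_of_ker_le_range φ.ker.subtype φ.rangeRestrict
      (by rw [MonoidHom.ker_rangeRestrict, Subgroup.range_subtype])
  apply hns
  refine isSolvable_of_quotient K hKs ?_
  refine Group.isSolvable_of_surjective (f := (QuotientGroup.mk' K).comp N.subtype) fun x => ?_
  obtain ⟨g, rfl⟩ := QuotientGroup.mk'_surjective K x
  have hg : g ∈ N ⊔ K := hfrat ▸ Subgroup.mem_top g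
  obtain ⟨a, ha, b, hb, rfl⟩ := Subgroup.mem_sup_of_normal_right.1 hg
  refine ⟨⟨a, ha⟩, ?_⟩
  simp [hb]

/-- Without nontrivial solvable normal subgroups, a group with elements of prime power order has a
simple socle. -/
theorem exists_simple_socle (hpp : ∀ g : G, g ≠ 1 → IsPrimePow (orderOf g)) [Nontrivial G]
    (hrad : ∀ N : Subgroup G, N.Normal → Group.IsSolvable ↥N → N = ⊥) :
    ∃ M : Subgroup G, M.Normal ∧ IsSimpleGroup ↥M ∧ ¬ IsMulCommutative ↥M ∧
      ∀ N : Subgroup G, N.Normal → N ≠ ⊥ → M ≤ N := by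
  classical
  obtain ⟨M, ⟨hMn, hM1⟩, hMmin⟩ := Set.Finite.exists_minimal
    (s := {N : Subgroup G | N.Normal ∧ N ≠ ⊥}) (Set.toFinite _) ⟨⊤, inferInstance, top_ne_bot⟩
  haveI := hMn
  have hMns : ¬ Group.IsSolvable ↥M := fun h => hM1 (hrad M hMn h)
  -- two commuting normal subgroups of `M` cannot both be nontrivial
  have key : ∀ S T : Subgroup ↥M, S.Normal → T.Normal → Disjoint S T → S ≠ ⊥ → T = ⊥ := by
    intro S T hS hT hd hS1
    by_contra hT1
    obtain ⟨⟨b, hb⟩, hbne⟩ := (Subgroup.ne_bot_iff_exists_ne_one.1 hT1 : ∃ b : ↥T, b ≠ 1)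
    obtain ⟨s, hs, hsd⟩ := Nat.exists_prime_and_dvd (n := orderOf b)
      (fun h => hbne (Subtype.ext (orderOf_eq_one_iff.1 h)))
    haveI := Fact.mk hs
    have hb' := orderOf_pow_orderOf_div (orderOf_pos b).ne' hsd
    have hSp : IsPGroup s ↥S := by
      rintro ⟨a, ha⟩
      by_cases ha1 : a = 1
      · exact ⟨0, Subtype.ext (by simpa using ha1)⟩
      have hab : Commute a b := Subgroup.commute_of_normal_of_disjoint S T hS hT hd a b ha hb
      obtain ⟨r, k, hr, hk, hrk⟩ := (isPrimePow_nat_iff _).1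
        (hpp (a : G) (fun h => ha1 (Subtype.ext h)))
      rw [Subgroup.orderOf_coe] at hrk
      have hrs : r = s := by
        by_contra hrs
        refine not_commute_of_ne hpp hr hs hrs
          (a := ((a ^ (orderOf a / r) : ↥M) : G)) (b := ((b ^ (orderOf b / s) : ↥M) : G))
          ?_ ?_ ?_
        · rw [Subgroup.orderOf_coe]
          exact orderOf_pow_orderOf_div (orderOf_pos a).ne' (hrk ▸ dvd_pow_self r hk.ne')
        · rw [Subgroup.orderOf_coe]; exact hb'
        · exact congrArg Subtype.val (hab.pow_pow _ _).eq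
      exact ⟨k, Subtype.ext (by push_cast; rw [← hrs, hrk, pow_orderOf_eq_one])⟩
    have hle := CfsgLib.PLocal.le_pCore hSp
    have hpn : ((Cfsg.pCore s ↥M).map M.subtype).Normal := CfsgLib.PLocal.normal_map_subtype M _
    have hps : Group.IsSolvable ↥((Cfsg.pCore s ↥M).map M.subtype) := by
      haveI := ((CfsgLib.PLocal.isPGroup_pCore s ↥M).map M.subtype).isNilpotent
      infer_instance
    have h0 := hrad _ hpn hps
    rw [Subgroup.map_eq_bot_iff_of_injective _ M.subtype_injective] at h0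
    exact hS1 (le_bot_iff.1 (h0 ▸ hle))
  haveI : Nontrivial ↥M := (Subgroup.nontrivial_iff_ne_bot M).2 hM1
  obtain ⟨S, ⟨hSn, hS1⟩, hSmin⟩ := Set.Finite.exists_minimal
    (s := {S : Subgroup ↥M | S.Normal ∧ S ≠ ⊥}) (Set.toFinite _) ⟨⊤, inferInstance, top_ne_bot⟩
  -- every conjugate of `S` equals `S`
  have hconj : ∀ g : G, S.map (MulAut.conjNormal g).toMonoidHom = S := by
    intro g
    set T := S.map (MulAut.conjNormal g).toMonoidHom with hT
    have hTn : T.Normal := hSn.map _ (MulAut.conjNormal g).surjective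
    have hT1 : T ≠ ⊥ := by
      intro h
      apply hS1
      exact (Subgroup.map_eq_bot_iff_of_injective (f := (MulAut.conjNormal g : MulAut ↥M).toMonoidHom) S
        (MulAut.conjNormal g : MulAut ↥M).injective).1 h
    by_cases hd : S ⊓ T = ⊥
    · exact absurd (key S T hSn hTn (disjoint_iff.2 hd) hS1) hT1
    · haveI := hSn; haveI := hTn
      have h1 : S ≤ S ⊓ T := hSmin ⟨Subgroup.normal_inf_normal S T, hd⟩ inf_le_left
      refine (Subgroup.eq_of_le_of_card_ge (h1.trans inf_le_right) ?_).symm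
      exact (Subgroup.card_map_of_injective (f := (MulAut.conjNormal g : MulAut ↥M).toMonoidHom)
        (MulAut.conjNormal g : MulAut ↥M).injective).le
  have hStop : S = ⊤ := by
    have hn : (S.map M.subtype).Normal := by
      refine ⟨fun x hx g => ?_⟩
      obtain ⟨y, hy, rfl⟩ := hx
      exact ⟨MulAut.conjNormal g y, (hconj g) ▸ Subgroup.mem_map_of_mem _ hy, rfl⟩
    have hne : S.map M.subtype ≠ ⊥ := by
      rw [Ne, Subgroup.map_eq_bot_iff_of_injective _ M.subtype_injective]; exact hS1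
    have h1 := hMmin ⟨hn, hne⟩ (Subgroup.map_subtype_le S)
    rw [eq_top_iff]
    intro y _
    obtain ⟨w, hw, hwy⟩ := h1 y.2
    exact Subtype.ext hwy ▸ hw
  refine ⟨M, hMn, ?_, ?_, ?_⟩
  · refine ⟨fun T hT => ?_⟩
    by_cases hT1 : T = ⊥
    · exact Or.inl hT1
    · exact Or.inr (top_le_iff.1 (hStop ▸ hSmin ⟨hT, hT1⟩ (hStop ▸ le_top)))
  · intro h
    exact hMns (Group.isSolvable_of_comm fun a b => h.is_comm.comm a b)
  · intro N hN hN1
    haveI := hN
    by_cases hd : M ⊓ N = ⊥
    · exfalso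
      -- `N` and `M` commute, forcing `M` to be a `p`-group
      obtain ⟨⟨b, hb⟩, hbne⟩ := (Subgroup.ne_bot_iff_exists_ne_one.1 hN1 : ∃ b : ↥N, b ≠ 1)
      obtain ⟨s, hs, hsd⟩ := Nat.exists_prime_and_dvd (n := orderOf b)
        (fun h => hbne (Subtype.ext (orderOf_eq_one_iff.1 h)))
      haveI := Fact.mk hs
      have hMp : IsPGroup s ↥M := by
        rintro ⟨a, ha⟩
        by_cases ha1 : a = 1
        · exact ⟨0, Subtype.ext (by simpa using ha1)⟩
        have hab : Commute a b :=
          Subgroup.commute_of_normal_of_disjoint M N hMn hN (disjoint_iff.2 hd) a b ha hb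
        obtain ⟨r, k, hr, hk, hrk⟩ := (isPrimePow_nat_iff _).1 (hpp a ha1)
        have hrs : r = s := by
          by_contra hrs
          exact not_commute_of_ne hpp hr hs hrs
            (orderOf_pow_orderOf_div (orderOf_pos a).ne' (hrk ▸ dvd_pow_self r hk.ne'))
            (orderOf_pow_orderOf_div (orderOf_pos b).ne' hsd) (hab.pow_pow _ _)
        exact ⟨k, Subtype.ext (by push_cast; rw [← hrs, hrk, pow_orderOf_eq_one])⟩
      haveI := hMp.isNilpotent
      exact hMns inferInstance
    · exact (hMmin ⟨Subgroup.normal_inf_normal M N, hd⟩ inf_le_left).trans inf_le_right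

end CfsgLib.FgsSix
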