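import Mathlib

/-!
# Fixed-point-free actions of elements of order three

* `mul_conj_eq_one_of_fpf_three`: `x * x^e * x^(e^2) = 1` and `x` commutes with `x^e` (Neumann).
* `commutator_central_of_commute_conj`: if every element commutes with its conjugates and there is
  no `3`-torsion then commutators are central (Levi).
* `sq_eq_one_of_two_involutions`: the exponent of a `2`-group with such an action of the
  symmetric group of degree three, under a condition on orders, is two.
-/

namespace CfsgLib.FgsSix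

open scoped commutatorElement

/-- Neumann's identities for a fixed-point-free automorphism of order three. -/
theorem mul_map_eq_one_of_fpf_three {K : Type*} [Group K] [Finite K] (φ : K ≃* K)
    (h3 : ∀ x, φ (φ (φ x)) = x) (hfix : ∀ x, φ x = x → x = 1) (x : K) :
    x * φ x * φ (φ x) = 1 ∧ Commute x (φ x) := by
  have hinj : Function.Injective fun a : K => a⁻¹ * φ a := by
    intro a b hab
    simp only at hab
    have : φ (b * a⁻¹) = b * a⁻¹ := by
      rw [map_mul, map_inv, mul_inv_eq_iff_eq_mul, mul_assoc, hab, mul_inv_cancel_left]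
    exact (mul_inv_eq_one.1 (hfix _ this)).symm
  have hinj' : Function.Injective fun a : K => φ a * a⁻¹ := by
    intro a b hab
    simp only at hab
    have : φ (a⁻¹ * b) = a⁻¹ * b := by
      rw [map_mul, map_inv, inv_mul_eq_iff_eq_mul, ← mul_assoc, hab, inv_mul_cancel_right]
    exact inv_mul_eq_one.1 (hfix _ this)
  obtain ⟨a, ha⟩ := (Finite.injective_iff_surjective.1 hinj) x
  obtain ⟨b, hb⟩ := (Finite.injective_iff_surjective.1 hinj') x
  simp only at ha hb
  have h1 : x * φ x * φ (φ x) = 1 := by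
    rw [← ha]
    simp only [map_mul, map_inv, h3]
    group
  have h2 : φ (φ x) * φ x * x = 1 := by
    rw [← hb]
    simp only [map_mul, map_inv, h3]
    group
  refine ⟨h1, ?_⟩
  have e1 : φ (φ x) = (x * φ x)⁻¹ := eq_inv_of_mul_eq_one_right h1
  have e2 : φ (φ x) = (φ x * x)⁻¹ := eq_inv_of_mul_eq_one_left (by rw [← mul_assoc]; exact h2)
  exact inv_injective (e1.symm.trans e2)

/-- The conjugation version of Neumann's identities. -/
theorem mul_conj_eq_one_of_fpf_three {G : Type*} [Group G] [Finite G] (K : Subgroup G) [K.Normal]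
    (e : G) (h3 : e ^ 3 = 1) (hfix : ∀ v ∈ K, Commute e v → v = 1) {x : G} (hx : x ∈ K) :
    x * (e * x * e⁻¹) * (e * (e * x * e⁻¹) * e⁻¹) = 1 ∧ Commute x (e * x * e⁻¹) := by
  let φ : ↥K ≃* ↥K := MulAut.conjNormal e
  have hφ : ∀ y : ↥K, (φ y : G) = e * y * e⁻¹ := fun y => MulAut.conjNormal_apply e y
  obtain ⟨h1, h2⟩ := mul_map_eq_one_of_fpf_three φ (fun y => by
    refine Subtype.ext ?_
    rw [hφ, hφ, hφ]
    calc e * (e * (e * y * e⁻¹) * e⁻¹) * e⁻¹ = e ^ 3 * y * (e ^ 3)⁻¹ := by
          simp [pow_succ, mul_assoc]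
      _ = y := by rw [h3, one_mul, inv_one, mul_one]) (fun y hy => by
    refine Subtype.ext (hfix y y.2 ?_)
    have := congrArg Subtype.val hy
    rw [hφ] at this
    exact mul_inv_eq_iff_eq_mul.1 this) ⟨x, hx⟩
  refine ⟨?_, ?_⟩
  · have := congrArg Subtype.val h1
    simpa [Subgroup.coe_mul, hφ] using this
  · have := congrArg Subtype.val h2.eq
    simp only [Subgroup.coe_mul, hφ] at this
    exact this

/-- In a ring, two square-zero elements whose product of `1 +` gives a square-zero increment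
anticommute. -/
theorem add_eq_zero_of_sq_zero {R : Type*} [Ring R] {a b : R} (ha : a * a = 0) (hb : b * b = 0)
    (hab : (a + b + a * b) * (a + b + a * b) = 0) : a * b + b * a = 0 := by
  have za : ∀ c : R, a * (a * c) = 0 := fun c => by rw [← mul_assoc, ha, zero_mul]
  have zb : ∀ c : R, b * (b * c) = 0 := fun c => by rw [← mul_assoc, hb, zero_mul]
  have h0 : a * b + b * a + b * (a * b) + a * (b * a) + a * (b * (a * b)) = 0 := by
    rw [← hab]
    simp only [add_mul, mul_add, mul_assoc, ha, hb, za, zb, mul_zero]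
    abel
  have h1 : a * (b * a) + a * (b * (a * b)) = 0 := by
    have := congrArg (a * ·) h0
    simpa only [mul_add, za, mul_zero, add_zero, zero_add] using this
  have h5 : a * (b * (a * b)) = 0 := by
    have := congrArg (· * b) h1
    simpa only [add_mul, mul_assoc, hb, mul_zero, add_zero, zero_mul] using this
  have h4 : a * (b * a) = 0 := by simpa [h5] using h1
  have h6 : b * (a * b) = 0 := by
    have := congrArg (· * b) h0
    simpa only [add_mul, mul_assoc, hb, mul_zero, add_zero, zero_add, zero_mul, h5] using this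
  simpa [h4, h5, h6] using h0

/-- Every element commutes with its conjugates: the triple commutator is antisymmetric in the
last two arguments. -/
theorem commutator_swap_of_commute_conj {G : Type*} [Group G]
    (hE : ∀ x g : G, Commute x (g * x * g⁻¹)) (x g h : G) :
    ⁅⁅x, g⁆, h⁆ = (⁅⁅x, h⁆, g⁆)⁻¹ := by
  let N : Subgroup G := Subgroup.normalClosure {x}
  have hab : IsMulCommutative ↥N := by
    refine Subgroup.isMulCommutative_closure ?_
    intro a ha b hb
    have hconj : ∀ t, t ∈ Group.conjugatesOfSet ({x} : Set G) → ∃ c : G, c * x * c⁻¹ = t := by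
      intro t ht
      simpa [Group.conjugatesOfSet, conjugatesOf, isConj_iff] using ht
    obtain ⟨u, rfl⟩ := hconj a ha
    obtain ⟨v, rfl⟩ := hconj b hb
    have h1 := (hE (u * x * u⁻¹) (v * u⁻¹)).eq
    rw [show v * u⁻¹ * (u * x * u⁻¹) * (v * u⁻¹)⁻¹ = v * x * v⁻¹ by group] at h1
    exact h1
  letI : CommGroup ↥N := { (inferInstance : Group ↥N) with mul_comm := fun a b => hab.is_comm.comm a b }
  let R : G → AddMonoid.End (Additive ↥N) := fun k =>
    MonoidHom.toAdditive (MulAut.conjNormal (H := N) k).toMonoidHom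
  let D : G → AddMonoid.End (Additive ↥N) := fun k => R k - 1
  have hD : ∀ (k : G) (m : Additive ↥N), ((D k m).toMul : G) = ⁅k, (m.toMul : G)⁆ := by
    intro k m
    have e1 : (D k m).toMul = MulAut.conjNormal (H := N) k m.toMul * (m.toMul)⁻¹ := by
      show (R k m).toMul / m.toMul = _
      exact div_eq_mul_inv _ _
    rw [e1, Subgroup.coe_mul, Subgroup.coe_inv, MulAut.conjNormal_apply, commutatorElement_def]
  have hDsq : ∀ k : G, D k * D k = 0 := by
    intro k
    refine AddMonoidHom.ext fun m => ?_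
    refine Additive.toMul.injective (Subtype.ext ?_)
    show ((D k (D k m)).toMul : G) = 1
    rw [hD, hD, commutatorElement_eq_one_iff_commute]
    have h2 : Commute k ((m.toMul : G) * k⁻¹ * (m.toMul : G)⁻¹) := by
      have := (hE k (m.toMul : G)).inv_right
      simpa [mul_assoc] using this
    have h3 := (Commute.refl k).mul_right h2
    rw [show ⁅k, (m.toMul : G)⁆ = k * ((m.toMul : G) * k⁻¹ * (m.toMul : G)⁻¹) by
      rw [commutatorElement_def]; group]
    exact h3
  have hR : R (g * h) = R g * R h := by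
    refine AddMonoidHom.ext fun m => ?_
    show Additive.ofMul (MulAut.conjNormal (H := N) (g * h) m.toMul) =
      Additive.ofMul (MulAut.conjNormal (H := N) g (MulAut.conjNormal (H := N) h m.toMul))
    rw [map_mul]
    rfl
  have hDmul : D (g * h) = D g + D h + D g * D h := by
    show R (g * h) - 1 = (R g - 1) + (R h - 1) + (R g - 1) * (R h - 1)
    rw [hR, sub_mul, mul_sub, one_mul, mul_one]
    abel
  have key := add_eq_zero_of_sq_zero (hDsq g) (hDsq h) (hDmul ▸ hDsq (g * h))
  -- apply to `x`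
  let x₀ : Additive ↥N := Additive.ofMul ⟨x, Subgroup.subset_normalClosure rfl⟩
  have key' : D g (D h x₀) + D h (D g x₀) = 0 := DFunLike.congr_fun key x₀
  have hk : ((D g (D h x₀)).toMul : G) * ((D h (D g x₀)).toMul : G) = 1 :=
    congrArg (fun t : Additive ↥N => (t.toMul : G)) key'
  rw [hD, hD, hD, hD] at hk
  have conv : ∀ a b : G, ⁅⁅x, a⁆, b⁆ = ⁅b, ⁅a, x⁆⁆ := by
    intro a b
    rw [← commutatorElement_inv a x, commutatorElement_inv_left]
    have hc : Commute ⁅a, x⁆ ⁅b, ⁅a, x⁆⁆ := by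
      have h1 := hE ⁅a, x⁆ b
      rw [commutatorElement_def b]
      exact h1.mul_right (Commute.refl _).inv_right
    rw [mul_assoc, ← hc.eq, inv_mul_cancel_left]
  rw [conv, conv, eq_inv_iff_mul_eq_one]
  exact mul_eq_one_comm.1 hk

/-- Levi's theorem: every element commutes with its conjugates and no `3`-torsion. -/
theorem commutator_central_of_commute_conj {G : Type*} [Group G]
    (hE : ∀ x g : G, Commute x (g * x * g⁻¹)) (h3 : ∀ t : G, t ^ 3 = 1 → t = 1) (a b c : G) :
    Commute ⁅a, b⁆ c := by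
  have hcy : ∀ u v : G, Commute v ⁅u, v⁆ := fun u v => by
    rw [commutatorElement_def]
    have h1 := hE v u
    exact h1.mul_right (Commute.refl v).inv_right
  have swap1 : ∀ u v w : G, ⁅⁅v, u⁆, w⁆ = ⁅⁅u, v⁆, w⁆⁻¹ := by
    intro u v w
    rw [← commutatorElement_inv u v, commutatorElement_inv_left]
    have hc : Commute ⁅u, v⁆ ⁅w, ⁅u, v⁆⁆ := by
      rw [commutatorElement_def w]
      exact (hE ⁅u, v⁆ w).mul_right (Commute.refl _).inv_right
    rw [mul_assoc, ← hc.eq, inv_mul_cancel_left, commutatorElement_inv]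
  have cyc : ∀ u v w : G, ⁅⁅u, v⁆, w⁆ = ⁅⁅v, w⁆, u⁆ := by
    intro u v w
    rw [← inv_inj, ← swap1 u v w]
    exact commutator_swap_of_commute_conj hE v u w
  have hterm : ∀ u v w : G, ⁅⁅u, v⁆, v * w * v⁻¹⁆ = ⁅⁅u, v⁆, w⁆ := by
    intro u v w
    have h2 : Commute v ⁅⁅u, v⁆, w⁆ := by
      rw [cyc u v w, cyc v w u]
      exact hcy _ v
    have h4 : ∀ d : G, v * d * v⁻¹ = d → ⁅d, v * w * v⁻¹⁆ = v * ⁅d, w⁆ * v⁻¹ := by
      intro d hd
      conv_lhs => rw [← hd]
      simp [commutatorElement_def, mul_assoc]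
    rw [h4 _ (mul_inv_eq_iff_eq_mul.2 (hcy u v).eq)]
    exact mul_inv_eq_iff_eq_mul.2 h2.eq
  have hw := commutatorElement_commutatorElement_conj_mul a b c
  rw [hterm a b c, hterm b c a, hterm c a b, ← cyc a b c, cyc c a b] at hw
  rw [← commutatorElement_eq_one_iff_commute]
  exact h3 _ (by rw [pow_succ, pow_two]; exact hw)

/-- The exponent of a class two `2`-group with an action of the symmetric group of degree three,
fixed-point-free for the elements of order three, in which `v * σ v` has order at most two. -/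
theorem sq_eq_one_of_two_involutions {K : Type*} [Group K] (φ σ : K ≃* K)
    (hc : ∀ a b c : K, Commute ⁅a, b⁆ c) (h4 : ∀ v : K, v ^ 4 = 1)
    (hid : ∀ x, x * φ x * φ (φ x) = 1 ∧ Commute x (φ x)) (hfix : ∀ x, φ x = x → x = 1)
    (hrel : ∀ x, σ (φ (φ x)) = φ (σ x)) (hs : ∀ v, (v * σ v) ^ 2 = 1)
    (hsd : ∀ v, (v * σ (φ v)) ^ 2 = 1) (v : K) : v ^ 2 = 1 := by
  have hcm : ∀ a b : K, a * b = ⁅a, b⁆ * (b * a) := fun a b => by rw [commutatorElement_def]; group
  have bl : ∀ a b c : K, ⁅a * b, c⁆ = ⁅a, c⁆ * ⁅b, c⁆ := by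
    intro a b c
    have h : ⁅a * b, c⁆ = a * ⁅b, c⁆ * a⁻¹ * ⁅a, c⁆ := by simp only [commutatorElement_def]; group
    rw [h, ← (hc b c a).eq, mul_inv_cancel_right, (hc b c ⁅a, c⁆).eq]
  have br : ∀ a b c : K, ⁅a, b * c⁆ = ⁅a, b⁆ * ⁅a, c⁆ := by
    intro a b c
    have h : ⁅a, b * c⁆ = ⁅a, b⁆ * (b * ⁅a, c⁆ * b⁻¹) := by simp only [commutatorElement_def]; group
    rw [h, ← (hc a c b).eq, mul_inv_cancel_right]
  -- squares of central elements are trivial
  have hcen : ∀ z : K, (∀ k, Commute z k) → z ^ 2 = 1 := by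
    intro z hz
    have key : ∀ y : K, (z * y) ^ 2 = 1 → y ^ 2 = z ^ 2 := by
      intro y hy
      rw [(hz y).mul_pow] at hy
      rw [← mul_right_inj (z ^ 2), hy, ← pow_add]
      exact (h4 z).symm
    have h1 := key _ (hs z)
    have h2 := key _ (hsd z)
    rw [← map_pow] at h1
    rw [← map_pow, ← map_pow] at h2
    exact hfix _ (σ.injective (h2.trans h1.symm))
  have hc2 : ∀ a b : K, ⁅a, b⁆ ^ 2 = 1 := fun a b => hcen _ (hc a b)
  have hci : ∀ a b : K, ⁅a, b⁆⁻¹ = ⁅a, b⁆ := fun a b =>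
    inv_eq_of_mul_eq_one_right (by rw [← pow_two]; exact hc2 a b)
  have hsqc : ∀ a b : K, Commute (a ^ 2) b := by
    intro a b
    rw [← commutatorElement_eq_one_iff_commute, pow_two, bl, ← pow_two]
    exact hc2 a b
  have hmulsq : ∀ p z : K, (∀ k, Commute z k) → (p * z) ^ 2 = p ^ 2 := by
    intro p z hz
    rw [(hz p).symm.mul_pow, hcen z hz, mul_one]
  set f : K → K := fun v => v * σ v with hf
  have hfc : ∀ a b : K, Commute (f a) (f b) := by
    intro a b
    have h1 : f (a * b) = f a * f b * ⁅b⁻¹, (σ a)⁻¹⁆ := by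
      have h3 : b * σ a = σ a * b * ⁅b⁻¹, (σ a)⁻¹⁆ := by
        rw [commutatorElement_def]; group
      calc a * b * σ (a * b) = a * (b * σ a) * σ b := by rw [map_mul]; group
        _ = a * σ a * b * (⁅b⁻¹, (σ a)⁻¹⁆ * σ b) := by rw [h3]; group
        _ = _ := by rw [(hc b⁻¹ (σ a)⁻¹ (σ b)).eq]; simp only [hf]; group
    have h2 : (f a * f b) ^ 2 = 1 := by
      rw [← hmulsq _ _ (hc b⁻¹ (σ a)⁻¹), ← h1]
      exact hs (a * b)
    have ha : (f a)⁻¹ = f a := inv_eq_of_mul_eq_one_right (by rw [← pow_two]; exact hs a)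
    have hb : (f b)⁻¹ = f b := inv_eq_of_mul_eq_one_right (by rw [← pow_two]; exact hs b)
    have h4 : (f a * f b)⁻¹ = f a * f b := inv_eq_of_mul_eq_one_right (by rw [← pow_two]; exact h2)
    rw [mul_inv_rev, ha, hb] at h4
    exact h4.symm
  have hinv : ∀ a b : K, ⁅a, b⁻¹⁆ = ⁅a, b⁆ := by
    intro a b
    have h1 := br a b b⁻¹
    rw [mul_inv_cancel, commutatorElement_one_right] at h1
    rw [eq_inv_of_mul_eq_one_right h1.symm, hci]
  have hone : ∀ a b : K, Commute a b → ⁅a, b⁆ = 1 := fun a b h =>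
    commutatorElement_eq_one_iff_commute.2 h
  have hsym : ∀ a b : K, Commute a b → ⁅a, φ b⁆ = ⁅b, φ a⁆ := by
    intro a b _
    have h1 := hone _ _ (hid (a * b)).2
    rw [map_mul, bl, br, br, hone _ _ (hid a).2, hone _ _ (hid b).2, one_mul, mul_one] at h1
    rw [eq_inv_of_mul_eq_one_left h1, hci]
  have hcf : ∀ p q : K, Commute (f p) (φ (f q)) := by
    intro p q
    rw [← commutatorElement_eq_one_iff_commute]
    refine hfix _ ?_
    have e1 : φ (φ (f q)) = (f q * φ (f q))⁻¹ := eq_inv_of_mul_eq_one_right (hid (f q)).1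
    calc φ ⁅f p, φ (f q)⁆ = ⁅φ (f p), φ (φ (f q))⁆ := map_commutatorElement φ _ _
      _ = ⁅φ (f p), f q⁆ * φ ⁅f p, f q⁆ := by rw [e1, hinv, br, map_commutatorElement]
      _ = ⁅φ (f p), f q⁆ := by rw [hone _ _ (hfc p q), map_one, mul_one]
      _ = ⁅f q, φ (f p)⁆ := by rw [← commutatorElement_inv (f q) (φ (f p)), hci]
      _ = ⁅f p, φ (f q)⁆ := (hsym _ _ (hfc p q)).symm
  set w := φ (σ v) with hw
  have ha0 : f (φ (φ v)) = φ (φ v) * w := by simp only [hf, hrel, hw]
  have hb0 : φ (f v) = φ v * w := by simp only [hf, hw, map_mul]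
  have hvinv : φ (φ v) * φ v = v⁻¹ := by
    obtain ⟨e1, e2⟩ := hid v
    rw [eq_inv_of_mul_eq_one_right e1, mul_inv_rev, mul_assoc]
    rw [e2.inv_left.eq, inv_mul_cancel_left]
  have hprod : f (φ (φ v)) * φ (f v) = v⁻¹ * (⁅(φ v)⁻¹, w⁆ * w ^ 2) := by
    rw [ha0, hb0, ← hvinv, commutatorElement_def, pow_two]
    group
  have hsq : (f (φ (φ v)) * φ (f v)) ^ 2 = 1 := by
    rw [(hcf _ _).mul_pow, ← map_pow, hs, show f v ^ 2 = 1 from hs v, map_one, mul_one]
  rw [hprod, hmulsq _ _ fun k => (hc _ _ k).mul_left (hsqc w k), inv_pow, inv_eq_one] at hsq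
  exact hsq

end CfsgLib.FgsSix
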