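import Mathlib
import Cfsg.Prelude.Def_Transfer
import Cfsg.Agent.FgsSix.FpfThree
import Cfsg.Agent.Characters.Burnside
import Cfsg.Agent.PrimeGraph.Lucido
import Cfsg.Agent.PLocal.Cores
import Cfsg.Agent.Solvable.FixedPointFree

/-!
# Groups in which every element has order at most four

If also the orders two and three occur, the group is one of three types (`structure_of_orders_le_four`).
-/

namespace CfsgLib.FgsSix

open scoped commutatorElement

variable {G : Type*} [Group G] [Finite G]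

/-- Commuting elements of orders divisible by two and by three do not exist. -/
theorem not_commute_two_three (hord : ∀ g : G, orderOf g ≤ 4) {a b : G} (ha : 3 ∣ orderOf a)
    (hb : 2 ∣ orderOf b) (h : Commute a b) : False := by
  have h1 := orderOf_pow_orderOf_div (orderOf_pos a).ne' ha
  have h2 := orderOf_pow_orderOf_div (orderOf_pos b).ne' hb
  have h3 := (h.pow_pow (orderOf a / 3) (orderOf b / 2)).orderOf_mul_eq_mul_orderOf_of_coprime
    (by rw [h1, h2]; norm_num)
  have := hord (a ^ (orderOf a / 3) * b ^ (orderOf b / 2))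
  rw [h3, h1, h2] at this
  omega

/-- The order of an element of such a group in terms of the order of an image. -/
theorem orderOf_eq_three (hord : ∀ g : G, orderOf g ≤ 4) {g : G} (h : 3 ∣ orderOf g) :
    orderOf g = 3 := by
  have := hord g
  have := orderOf_pos g
  omega

theorem orders_quotient (hord : ∀ g : G, orderOf g ≤ 4) (N : Subgroup G) [N.Normal]
    (x : G ⧸ N) : orderOf x ≤ 4 := by
  obtain ⟨g, rfl⟩ := QuotientGroup.mk'_surjective N x
  exact (Nat.le_of_dvd (orderOf_pos g) (orderOf_map_dvd _ g)).trans (hord g)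

theorem prime_eq_two_or_three (hord : ∀ g : G, orderOf g ≤ 4) {q : ℕ} (hq : q.Prime)
    (hd : q ∣ Nat.card G) : q = 2 ∨ q = 3 := by
  haveI := Fact.mk hq
  obtain ⟨x, hx⟩ := exists_prime_orderOf_dvd_card' (G := G) q hd
  have h4 := hord x
  rw [hx] at h4
  interval_cases q <;> first | omega | norm_num at hq

/-- A subgroup is a `p`-group if no element has order the other prime. -/
theorem isPGroup_of_no_order (hord : ∀ g : G, orderOf g ≤ 4) {p q : ℕ}
    (hpq : p = 2 ∧ q = 3 ∨ p = 3 ∧ q = 2) (H : Subgroup G) (h : ∀ g ∈ H, orderOf g ≠ q) :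
    IsPGroup p ↥H := by
  refine IsPGroup.of_card (n := (Nat.card ↥H).primeFactorsList.length)
    (Nat.eq_prime_pow_of_unique_prime_dvd Nat.card_pos.ne' fun {r} hr hrd => ?_)
  haveI := Fact.mk hr
  obtain ⟨x, hx⟩ := exists_prime_orderOf_dvd_card' (G := ↥H) r hrd
  have h1 := h x x.2
  rw [Subgroup.orderOf_coe, hx] at h1
  rcases prime_eq_two_or_three hord hr (hrd.trans (Subgroup.card_subgroup_dvd_card H)) with h2 | h2 <;>
    omega

theorem isSolvable_of_orders_le_four (hord : ∀ g : G, orderOf g ≤ 4) : Group.IsSolvable G := by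
  refine CfsgLib.Characters.isSolvable_of_card_eq_primePow_mul 2 3
    ((Nat.card G).factorization 2) ((Nat.card G).factorization 3) Nat.prime_two Nat.prime_three ?_
  rw [Nat.dvd_iff_prime_pow_dvd_dvd]
  intro p k hp hk
  rcases Nat.eq_zero_or_pos k with rfl | hk0
  · exact one_dvd _
  · have hk' := (hp.pow_dvd_iff_le_factorization Nat.card_pos.ne').1 hk
    rcases prime_eq_two_or_three hord hp ((dvd_pow_self p hk0.ne').trans hk) with rfl | rfl
    · exact (pow_dvd_pow 2 hk').mul_right _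
    · exact (pow_dvd_pow 3 hk').mul_left _

/-- The case of a normal `3`-subgroup. -/
theorem structure_three (hord : ∀ g : G, orderOf g ≤ 4) {t : G} (ht : orderOf t = 2)
    (V : Subgroup G) [V.Normal] (hV : V ≠ ⊥) (hVc : ∀ a ∈ V, ∀ b ∈ V, a * b = b * a)
    (hV3 : ∀ v ∈ V, v ^ 3 = 1) :
    ∃ (N : Subgroup G) (_ : N.Normal), Cfsg.IsElementaryAbelian 3 N ∧ IsPGroup 2 (G ⧸ N) ∧
      CfsgLib.TwoGroupsQ.HasUniqueOrderP (G ⧸ N) 2 ∧
      ∀ g : G, (orderOf g = 2 ∨ orderOf g = 4) → orderOf (QuotientGroup.mk g : G ⧸ N) = orderOf g := by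
  set C := Subgroup.centralizer (V : Set G) with hC
  have hVC : V ≤ C := fun a ha => Subgroup.mem_centralizer_iff.2 fun b hb => hVc b hb a ha
  obtain ⟨v, hv, hv1⟩ : ∃ v ∈ V, v ≠ 1 := V.bot_or_exists_ne_one.resolve_left hV
  have hvo : orderOf v = 3 := by
    haveI := Fact.mk Nat.prime_three
    exact orderOf_eq_prime (hV3 v hv) hv1
  have hC3 : IsPGroup 3 ↥C := by
    refine isPGroup_of_no_order hord (Or.inr ⟨rfl, rfl⟩) C fun g hg hgo => ?_
    exact not_commute_two_three hord (dvd_of_eq hvo.symm) (dvd_of_eq hgo.symm)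
      (Subgroup.mem_centralizer_iff.1 hg v hv)
  have hC1 : C ≠ ⊥ := fun h => hv1 (Subgroup.mem_bot.1 (h ▸ hVC hv))
  have hCodd : ∀ c ∈ C, ¬ 2 ∣ orderOf c := by
    intro c hc h2
    obtain ⟨k, hk⟩ := IsPGroup.iff_orderOf.1 hC3 ⟨c, hc⟩
    rw [← Subgroup.orderOf_coe] at hk
    rw [hk] at h2
    have := Nat.prime_two.dvd_of_dvd_pow h2
    norm_num at this
  have hinv : ∀ u : G, orderOf u = 2 → (∀ k ∈ C, u * k * u⁻¹ = k⁻¹) ∧ IsMulCommutative ↥C := by
    intro u hu
    refine CfsgLib.Solvable.inverts_of_fpf_involution (H := Subgroup.zpowers u) ?_ (Subgroup.mem_zpowers u)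
      (fun h => by rw [h, orderOf_one] at hu; omega) (by rw [← pow_two, ← hu, pow_orderOf_eq_one])
    intro h hh hh1
    rw [Subgroup.eq_bot_iff_forall]
    intro c hc
    by_contra hc1
    have h3 : 3 ∣ orderOf c := by
      obtain ⟨k, hk⟩ := IsPGroup.iff_orderOf.1 hC3 ⟨c, hc.1⟩
      rw [← Subgroup.orderOf_coe] at hk
      rw [hk]
      refine dvd_pow_self 3 fun h0 => hc1 ?_
      rw [← orderOf_eq_one_iff, hk, h0, pow_zero]
    have h2 : 2 ∣ orderOf h := by
      have h4 := orderOf_dvd_of_mem_zpowers hh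
      rw [hu] at h4
      rcases (Nat.dvd_prime Nat.prime_two).1 h4 with h5 | h5
      · exact absurd (orderOf_eq_one_iff.1 h5) hh1
      · rw [h5]
    exact not_commute_two_three hord h3 h2 (Subgroup.mem_centralizer_iff.1 hc.2 h rfl).symm
  have hinvV : ∀ u : G, orderOf u = 2 → ∀ w ∈ V, u * w * u⁻¹ = w⁻¹ := fun u hu w hw =>
    (hinv u hu).1 w (hVC hw)
  have hsame : ∀ u u' : G, (∀ w ∈ V, u * w * u⁻¹ = w⁻¹) → (∀ w ∈ V, u' * w * u'⁻¹ = w⁻¹) →
      (QuotientGroup.mk u : G ⧸ C) = QuotientGroup.mk u' := by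
    intro u u' hu hu'
    rw [QuotientGroup.eq]
    refine Subgroup.mem_centralizer_iff.2 fun w hw => ?_
    have h1 := hu w hw
    have h2 := hu' w hw
    rw [← h1] at h2
    calc w * (u⁻¹ * u') = u⁻¹ * (u * w * u⁻¹) * u' := by group
      _ = u⁻¹ * (u' * w * u'⁻¹) * u' := by rw [h2]
      _ = u⁻¹ * u' * w := by group
  have htC : (QuotientGroup.mk t : G ⧸ C) ≠ 1 := fun h =>
    hCodd t ((QuotientGroup.eq_one_iff t).1 h) (dvd_of_eq ht.symm)
  have ht' : orderOf (QuotientGroup.mk t : G ⧸ C) = 2 := by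
    haveI := Fact.mk Nat.prime_two
    refine orderOf_eq_prime ?_ htC
    rw [← QuotientGroup.mk_pow, ← ht, pow_orderOf_eq_one, QuotientGroup.mk_one]
  have hthree : ∀ g : G, orderOf g = 3 → g ∈ C := by
    intro g hg
    by_contra hgC
    have h1 : orderOf (QuotientGroup.mk g : G ⧸ C) = 3 := by
      have h2 : orderOf (QuotientGroup.mk' C g) ∣ 3 := hg ▸ orderOf_map_dvd _ g
      rcases (Nat.dvd_prime Nat.prime_three).1 h2 with h3 | h3
      · exact absurd ((QuotientGroup.eq_one_iff g).1 (orderOf_eq_one_iff.1 h3)) hgC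
      · exact h3
    refine not_commute_two_three (orders_quotient hord C) (dvd_of_eq h1.symm) (dvd_of_eq ht'.symm) ?_
    have h4 := hsame (g * t * g⁻¹) t (fun w hw => by
      have h5 := hinvV t ht _ ((inferInstance : V.Normal).conj_mem w hw g⁻¹)
      calc g * t * g⁻¹ * w * (g * t * g⁻¹)⁻¹ = g * (t * (g⁻¹ * w * g⁻¹⁻¹) * t⁻¹) * g⁻¹ := by group
        _ = g * (g⁻¹ * w * g⁻¹⁻¹)⁻¹ * g⁻¹ := by rw [h5]
        _ = w⁻¹ := by group) (hinvV t ht)
    rw [QuotientGroup.mk_mul, QuotientGroup.mk_mul, QuotientGroup.mk_inv] at h4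
    exact mul_inv_eq_iff_eq_mul.1 h4
  have hQ : IsPGroup 2 (G ⧸ C) := by
    rw [IsPGroup.iff_orderOf]
    intro x
    obtain ⟨g, rfl⟩ := QuotientGroup.mk_surjective x
    have h1 : orderOf (QuotientGroup.mk g : G ⧸ C) ∣ orderOf g := orderOf_map_dvd (QuotientGroup.mk' C) g
    by_cases h3 : orderOf g = 3
    · exact ⟨0, by rw [(QuotientGroup.eq_one_iff g).2 (hthree g h3), orderOf_one, pow_zero]⟩
    · have := hord g
      have := orderOf_pos g
      have h4 : orderOf g ∣ 2 ^ 2 := by interval_cases orderOf g <;> omega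
      obtain ⟨i, -, hi⟩ := (Nat.dvd_prime_pow Nat.prime_two).1 (h1.trans h4)
      exact ⟨i, hi⟩
  have hlift : ∀ g : G, (orderOf g = 2 ∨ orderOf g = 4) →
      orderOf (QuotientGroup.mk g : G ⧸ C) = orderOf g := by
    intro g hg
    have h1 : orderOf (QuotientGroup.mk g : G ⧸ C) ∣ orderOf g := orderOf_map_dvd (QuotientGroup.mk' C) g
    by_contra hne
    have hpow : g ^ (orderOf g / 2) ∈ C := by
      rw [← QuotientGroup.eq_one_iff, QuotientGroup.mk_pow, ← orderOf_dvd_iff_pow_eq_one]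
      have := orderOf_pos (QuotientGroup.mk g : G ⧸ C)
      rcases hg with hg | hg <;> rw [hg] at h1 hne ⊢
      · rcases (Nat.dvd_prime Nat.prime_two).1 h1 with h2 | h2
        · simp [h2]
        · exact absurd h2 hne
      · have h2 := Nat.le_of_dvd (by norm_num) h1
        interval_cases orderOf (QuotientGroup.mk g : G ⧸ C) <;> first | omega | norm_num
    refine hCodd _ hpow ?_
    rw [orderOf_pow' g (by omega)]
    rcases hg with hg | hg <;> rw [hg] <;> norm_num
  refine ⟨C, inferInstance, ⟨(hinv t ht).2, fun a ha => ?_⟩, hQ, ?_, hlift⟩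
  · obtain ⟨k, hk⟩ := IsPGroup.iff_orderOf.1 hC3 ⟨a, ha⟩
    replace hk : orderOf a = 3 ^ k := (Subgroup.orderOf_coe _).trans hk
    rw [← orderOf_dvd_iff_pow_eq_one, hk]
    rcases Nat.lt_or_ge k 2 with h1 | h1
    · interval_cases k <;> norm_num
    · exfalso
      have := hord a
      have := Nat.pow_le_pow_right (by norm_num : 0 < 3) h1
      omega
  · refine CfsgLib.TwoGroupsQ.hasUniqueOrderP_two ?_
    have key : ∀ x : G ⧸ C, x ^ 2 = 1 → x ≠ 1 → x = QuotientGroup.mk t := by
      intro x hx hx1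
      obtain ⟨g, rfl⟩ := QuotientGroup.mk_surjective x
      haveI := Fact.mk Nat.prime_two
      have h2 := orderOf_eq_prime hx hx1
      have h1 : orderOf (QuotientGroup.mk g : G ⧸ C) ∣ orderOf g := orderOf_map_dvd (QuotientGroup.mk' C) g
      rw [h2] at h1
      have hg : orderOf g = 2 := by
        have := hord g
        have := orderOf_pos g
        rcases (show orderOf g = 2 ∨ orderOf g = 4 by omega) with h3 | h3
        · exact h3
        · have h4 := hlift g (Or.inr h3)
          omega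
      exact hsame g t (hinvV g hg) (hinvV t ht)
    exact fun a b ha ha1 hb hb1 => (key a ha ha1).trans (key b hb hb1).symm

/-- A group of order six with an element inverting an element of order three. -/
theorem nonempty_mulEquiv_perm_three {Q : Type*} [Group Q] [Finite Q] (hQ : Nat.card Q = 6)
    {s d : Q} (hd : orderOf d = 3) (hs : orderOf s = 2) (hsd : s * d * s⁻¹ = d⁻¹) :
    Nonempty (Q ≃* Equiv.Perm (Fin 3)) := by
  classical
  haveI := Fintype.ofFinite Q
  let H := Subgroup.zpowers s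
  have hH : Nat.card ↥H = 2 := by rw [Nat.card_zpowers, hs]
  have hc : Nat.card (Q ⧸ H) = 3 := by
    have := Subgroup.card_eq_card_quotient_mul_card_subgroup H
    rw [hQ, hH] at this
    omega
  let e : Q ⧸ H ≃ Fin 3 := Finite.equivFinOfCardEq hc
  let f : Q →* Equiv.Perm (Fin 3) := e.permCongrHom.toMonoidHom.comp (MulAction.toPermHom Q (Q ⧸ H))
  have hker : ∀ q, f q = 1 → q = 1 := by
    intro q hq
    have h0 : MulAction.toPermHom Q (Q ⧸ H) q = 1 := e.permCongrHom.injective (by rw [map_one]; exact hq)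
    have h2 : q ∈ H.normalCore := by
      rw [Subgroup.normalCore_eq_ker]
      exact h0
    have h1 : q ∈ H := H.normalCore_le h2
    have hcases : ∀ x ∈ H, x = 1 ∨ x = s := by
      intro x hx
      have h4 : x ∈ (Finset.range (orderOf s)).image (s ^ ·) := mem_zpowers_iff_mem_range_orderOf.1 hx
      rw [hs] at h4
      simp only [Finset.mem_image, Finset.mem_range] at h4
      obtain ⟨i, hi, rfl⟩ := h4
      interval_cases i <;> simp
    rcases hcases q h1 with h4 | h4
    · exact h4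
    exfalso
    rcases hcases _ (h2 d) with h5 | h5
    · rw [mul_inv_eq_one, mul_eq_left] at h5
      rw [← h4, h5, orderOf_one] at hs
      omega
    · rw [h4] at h5
      have h6 : Commute s d := (mul_inv_eq_iff_eq_mul.1 h5).symm
      rw [h6.eq, mul_inv_cancel_right] at hsd
      have h7 : d ^ 2 = 1 := by rw [pow_two]; nth_rewrite 2 [hsd]; exact mul_inv_cancel d
      have h8 := orderOf_dvd_of_pow_eq_one h7
      rw [hd] at h8
      norm_num at h8
  have hinj : Function.Injective f := (injective_iff_map_eq_one f).2 hker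
  exact ⟨MulEquiv.ofBijective f ((Fintype.bijective_iff_injective_and_card f).2 ⟨hinj, by
    rw [Fintype.card_perm, Fintype.card_fin, ← Nat.card_eq_fintype_card, hQ]; rfl⟩)⟩

/-- The case of a normal `2`-subgroup. -/
theorem structure_two (hord : ∀ g : G, orderOf g ≤ 4) {d₀ : G} (hd₀ : orderOf d₀ = 3)
    (V : Subgroup G) [V.Normal] (hV : V ≠ ⊥) (hV2 : ∀ v ∈ V, v ^ 2 = 1) :
    ∃ (N : Subgroup G) (_ : N.Normal),
      (IsPGroup 2 ↥N ∧ N.index = 3 ∧ Group.nilpotencyClass ↥N ≤ 2 ∧ ∀ g, g ∉ N → orderOf g = 3) ∨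
      (Cfsg.IsElementaryAbelian 2 N ∧ Nonempty (G ⧸ N ≃* Equiv.Perm (Fin 3)) ∧
        ∃ g : G, orderOf g = 4) := by
  classical
  haveI := Fintype.ofFinite G
  haveI : Fact (Nat.Prime 2) := ⟨Nat.prime_two⟩
  haveI : Fact (Nat.Prime 3) := ⟨Nat.prime_three⟩
  have hsolv := isSolvable_of_orders_le_four hord
  obtain ⟨v, hv, hv1⟩ : ∃ v ∈ V, v ≠ 1 := V.bot_or_exists_ne_one.resolve_left hV
  have hvo : orderOf v = 2 := orderOf_eq_prime (hV2 v hv) hv1
  set K := Cfsg.pCore 2 G with hKdef
  have hK2 : IsPGroup 2 ↥K := CfsgLib.PLocal.isPGroup_pCore 2 G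
  haveI hKn : K.Normal := by
    rw [hKdef]
    infer_instance
  have hVK : V ≤ K := CfsgLib.PLocal.le_pCore fun x => ⟨1, Subtype.ext (by simpa using hV2 x x.2)⟩
  have hKo : ∀ k ∈ K, k ≠ 1 → 2 ∣ orderOf k := by
    intro k hk hk1
    obtain ⟨i, hi⟩ := IsPGroup.iff_orderOf.1 hK2 ⟨k, hk⟩
    rw [← Subgroup.orderOf_coe] at hi
    rw [hi]
    refine dvd_pow_self 2 fun h0 => hk1 ?_
    rw [← orderOf_eq_one_iff, hi, h0, pow_zero]
  have hK3 : ∀ k ∈ K, orderOf k ≠ 3 := by
    intro k hk h
    have h1 := hKo k hk fun e => by rw [e, orderOf_one] at h; omega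
    omega
  -- Sylow `3`-subgroups have order three
  have h9 : ¬ 3 ^ 2 ∣ Nat.card G := by
    intro h9
    obtain ⟨T⟩ : Nonempty (Sylow 3 G) := inferInstance
    have hfpf : ∀ h ∈ (T : Subgroup G), h ≠ 1 → V ⊓ Subgroup.centralizer {h} = ⊥ := by
      intro h hh hh1
      rw [Subgroup.eq_bot_iff_forall]
      intro c hc
      by_contra hc1
      obtain ⟨k, hk⟩ := IsPGroup.iff_orderOf.1 T.isPGroup' ⟨h, hh⟩
      rw [← Subgroup.orderOf_coe] at hk
      refine not_commute_two_three hord (a := h) (b := c) ?_ (hKo c (hVK hc.1) hc1)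
        (Subgroup.mem_centralizer_iff.1 hc.2 h rfl)
      rw [hk]
      refine dvd_pow_self 3 fun h0 => hh1 ?_
      rw [← orderOf_eq_one_iff, hk, h0, pow_zero]
    have hT9 : 9 ∣ Nat.card ↥(T : Subgroup G) := by
      rw [T.card_eq_multiplicity]
      exact pow_dvd_pow 3 ((Nat.prime_three.pow_dvd_iff_le_factorization Nat.card_pos.ne').1 h9)
    have hu := CfsgLib.Solvable.hasUniqueOrderP_of_fpf hV hfpf
      (P := (⊤ : Subgroup ↥(T : Subgroup G))) (p := 3) (T.isPGroup'.to_subgroup ⊤)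
    obtain ⟨y, hy⟩ := exists_prime_orderOf_dvd_card' (G := ↥(⊤ : Subgroup ↥(T : Subgroup G))) 3
      (by rw [Subgroup.card_top]; exact dvd_trans (by norm_num) hT9)
    have hall : ∀ x : ↥(⊤ : Subgroup ↥(T : Subgroup G)), x ∈ Subgroup.zpowers y := by
      intro x
      refine hu x y ?_ (orderOf_dvd_iff_pow_eq_one.1 (dvd_of_eq hy)) fun h => by rw [h, orderOf_one] at hy; omega
      have h2 : orderOf x = 1 ∨ orderOf x = 3 := by
        obtain ⟨k, hk⟩ := IsPGroup.iff_orderOf.1 (T.isPGroup'.to_subgroup ⊤) x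
        have h3 := hord ((x : ↥(T : Subgroup G)) : G)
        rw [Subgroup.orderOf_coe, Subgroup.orderOf_coe, hk] at h3
        rcases Nat.lt_or_ge k 2 with h1 | h1
        · interval_cases k
          · left; rw [hk]; norm_num
          · right; rw [hk]; norm_num
        · have := Nat.pow_le_pow_right (by norm_num : 0 < 3) h1
          omega
      rcases h2 with h2 | h2
      · rw [orderOf_eq_one_iff.1 h2, one_pow]
      · exact orderOf_dvd_iff_pow_eq_one.1 (dvd_of_eq h2)
    have h4 : Nat.card ↥(⊤ : Subgroup ↥(T : Subgroup G)) = 3 :=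
      ((Nat.card_congr (Equiv.subtypeUnivEquiv hall)).symm.trans (Nat.card_zpowers y)).trans hy
    rw [Subgroup.card_top] at h4
    rw [h4] at hT9
    norm_num at hT9
  -- the quotient
  have hordQ := orders_quotient hord K
  have hQcore : Cfsg.pCore 2 (G ⧸ K) = ⊥ := CfsgLib.PLocal.pCore_quotient_pCore_eq_bot 2 G
  have hd₀K : d₀ ∉ K := fun h => hK3 d₀ h hd₀
  haveI : Nontrivial (G ⧸ K) :=
    ⟨⟨QuotientGroup.mk d₀, 1, fun h => hd₀K ((QuotientGroup.eq_one_iff _).1 h)⟩⟩
  obtain ⟨W, r, hr, hW, hW1, -, hWr⟩ :=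
    CfsgLib.PrimeGraph.exists_normal_elementary (inferInstance : Group.IsSolvable (G ⧸ K))
  haveI := hW
  obtain ⟨w, hw, hw1⟩ : ∃ w ∈ W, w ≠ 1 := W.bot_or_exists_ne_one.resolve_left hW1
  haveI := Fact.mk hr
  have hwo : orderOf w = r := orderOf_eq_prime (hWr w hw) hw1
  have hr3 : r = 3 := by
    rcases prime_eq_two_or_three hordQ hr (hwo ▸ orderOf_dvd_natCard w) with h | h
    · exfalso
      apply hW1
      rw [← le_bot_iff, ← hQcore]
      exact CfsgLib.PLocal.le_pCore fun x => ⟨1, Subtype.ext (by subst h; simpa using hWr x x.2)⟩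
    · exact h
  subst hr3
  have hQdvd : Nat.card (G ⧸ K) ∣ Nat.card G := Subgroup.card_quotient_dvd_card K
  have hthree : ∀ H : Subgroup (G ⧸ K), IsPGroup 3 ↥H → w ∈ H → H = Subgroup.zpowers w := by
    intro H hH hwH
    refine (Subgroup.eq_of_le_of_card_ge (Subgroup.zpowers_le.2 hwH) ?_).symm
    obtain ⟨k, hk⟩ := IsPGroup.iff_card.1 hH
    rw [Nat.card_zpowers, hwo, hk]
    rcases Nat.lt_or_ge k 2 with h1 | h1
    · interval_cases k <;> norm_num
    · exact absurd ((pow_dvd_pow 3 h1).trans (hk ▸ (Subgroup.card_subgroup_dvd_card H).trans hQdvd)) h9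
  have hWz : W = Subgroup.zpowers w :=
    hthree W (fun x => ⟨1, Subtype.ext (by simpa using hWr x x.2)⟩) hw
  have hCw : Subgroup.centralizer ({w} : Set (G ⧸ K)) = Subgroup.zpowers w := by
    refine hthree _ ?_ (Subgroup.mem_centralizer_singleton_iff.2 rfl)
    refine isPGroup_of_no_order hordQ (Or.inr ⟨rfl, rfl⟩) _ fun g hg hgo => ?_
    exact not_commute_two_three hordQ (dvd_of_eq hwo.symm) (dvd_of_eq hgo.symm)
      (Subgroup.mem_centralizer_singleton_iff.1 hg).symm
  have hWmem : ∀ y ∈ W, y = 1 ∨ y = w ∨ y = w⁻¹ := by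
    intro y hy
    rw [hWz] at hy
    have h4 : y ∈ (Finset.range (orderOf w)).image (w ^ ·) := mem_zpowers_iff_mem_range_orderOf.1 hy
    rw [hwo] at h4
    simp only [Finset.mem_image, Finset.mem_range] at h4
    obtain ⟨i, hi, rfl⟩ := h4
    interval_cases i
    · left; simp
    · right; left; simp
    · right; right
      refine eq_inv_of_mul_eq_one_left ?_
      rw [← pow_succ]
      exact orderOf_dvd_iff_pow_eq_one.1 (dvd_of_eq hwo)
  have hwconj : ∀ x : G ⧸ K, x * w * x⁻¹ = w ∨ x * w * x⁻¹ = w⁻¹ := by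
    intro x
    rcases hWmem _ (hW.conj_mem w hw x) with h | h | h
    · exact absurd (conj_eq_one_iff.1 h) hw1
    · exact Or.inl h
    · exact Or.inr h
  -- an element of order three above `w`
  obtain ⟨d, hdw⟩ := QuotientGroup.mk_surjective w
  have hlift3 : ∀ e : G, orderOf (QuotientGroup.mk e : G ⧸ K) = 3 → orderOf e = 3 := fun e he =>
    orderOf_eq_three hord (he ▸ orderOf_map_dvd (QuotientGroup.mk' K) e)
  have hd : orderOf d = 3 := hlift3 d (by rw [hdw, hwo])
  have hcoset : ∀ k ∈ K, orderOf (k * d) = 3 ∧ orderOf (k * (d * d)) = 3 := by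
    intro k hk
    have hk' : (QuotientGroup.mk k : G ⧸ K) = 1 := (QuotientGroup.eq_one_iff k).2 hk
    constructor <;> refine hlift3 _ ?_
    · rw [QuotientGroup.mk_mul, hk', one_mul, hdw, hwo]
    · rw [QuotientGroup.mk_mul, hk', one_mul, QuotientGroup.mk_mul, hdw, ← pow_two,
        orderOf_pow, hwo]
      norm_num
  have hneu : ∀ e : G, orderOf e = 3 → ∀ x ∈ K,
      x * (e * x * e⁻¹) * (e * (e * x * e⁻¹) * e⁻¹) = 1 ∧ Commute x (e * x * e⁻¹) := by
    intro e he x hx
    refine mul_conj_eq_one_of_fpf_three K e (he ▸ pow_orderOf_eq_one e) (fun k hk hek => ?_) hx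
    by_contra hk1
    exact not_commute_two_three hord (dvd_of_eq he.symm) (hKo k hk hk1) hek
  have hE : ∀ x g : ↥K, Commute x (g * x * g⁻¹) := by
    intro x g
    obtain ⟨h1, -⟩ := hneu d hd x x.2
    have e1 := (hneu _ (hcoset g g.2).1 x x.2).2
    have e2 := (hneu _ (hcoset g g.2).2 x x.2).2
    have e3 := (e1.mul_right e2).inv_right
    refine Subtype.ext ?_
    show (x : G) * ((g : G) * x * (g : G)⁻¹) = (g : G) * x * (g : G)⁻¹ * x
    rw [mul_assoc] at h1
    rw [show ((g : G) * d * x * ((g : G) * d)⁻¹ * ((g : G) * (d * d) * x * ((g : G) * (d * d))⁻¹)) =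
      g * ((d * x * d⁻¹) * (d * (d * x * d⁻¹) * d⁻¹)) * (g : G)⁻¹ by group,
      eq_inv_of_mul_eq_one_right h1, ← conj_inv, inv_inv] at e3
    exact e3.eq
  have hcent : ∀ a b c : ↥K, Commute ⁅a, b⁆ c := by
    refine commutator_central_of_commute_conj hE fun t ht => ?_
    by_contra ht1
    exact hK3 t t.2 (by rw [Subgroup.orderOf_coe]; exact orderOf_eq_prime ht ht1)
  haveI : Group.IsNilpotent ↥K := hK2.isNilpotent
  have hclass : Group.nilpotencyClass ↥K ≤ 2 := by
    rw [← Subgroup.lowerCentralSeries_eq_bot_iff_nilpotencyClass_le]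
    refine Subgroup.lowerCentralSeries_succ_eq_bot _ ?_
    rw [Subgroup.lowerCentralSeries_succ, Subgroup.commutator_le]
    intro a _ b _
    exact Subgroup.mem_center_iff.2 fun c => (hcent a b c).symm.eq
  refine ⟨K, hKn, ?_⟩
  by_cases hall : ∀ x : G ⧸ K, x * w * x⁻¹ = w
  · -- index three
    left
    have hindex : K.index = 3 := by
      rw [Subgroup.index_eq_card, ← Subgroup.card_top (G := G ⧸ K), ← hwo, ← Nat.card_zpowers, ← hCw]
      congr 2
      ext x
      simp only [Subgroup.mem_top, true_iff, Subgroup.mem_centralizer_singleton_iff]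
      exact mul_inv_eq_iff_eq_mul.1 (hall x)
    refine ⟨hK2, hindex, hclass, fun g hg => hlift3 g ?_⟩
    rw [Subgroup.index_eq_card] at hindex
    have h1 := orderOf_dvd_natCard (QuotientGroup.mk g : G ⧸ K)
    rw [hindex] at h1
    rcases (Nat.dvd_prime Nat.prime_three).1 h1 with h2 | h2
    · exact absurd ((QuotientGroup.eq_one_iff g).1 (orderOf_eq_one_iff.1 h2)) hg
    · exact h2
  · -- index six
    right
    push_neg at hall
    obtain ⟨x, hx⟩ := hall
    have hxinv : x * w * x⁻¹ = w⁻¹ := (hwconj x).resolve_left hx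
    have hcard : Nat.card (G ⧸ K) = 6 := by
      have h1 : (Subgroup.centralizer ({w} : Set (G ⧸ K))).index = 2 := by
        rw [Subgroup.index_eq_two_iff']
        refine ⟨x, fun b => ?_⟩
        simp only [Subgroup.mem_centralizer_singleton_iff]
        have hiff : ∀ y : G ⧸ K, (y * w = w * y) ↔ y * w * y⁻¹ = w := fun y =>
          mul_inv_eq_iff_eq_mul.symm
        have hxb : x * b * w * (x * b)⁻¹ = x * (b * w * b⁻¹) * x⁻¹ := by group
        have hw2 : w⁻¹ ≠ w := fun h => hx (by rw [hxinv, h])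
        rw [hiff, hiff, hxb]
        rcases hwconj b with hb | hb
        · exact Or.inr ⟨hb, fun h => hx (by rwa [hb] at h)⟩
        · exact Or.inl ⟨by rw [hb, ← conj_inv, hxinv, inv_inv], fun h => hw2 (hb.symm.trans h)⟩
      have h2 := Subgroup.card_mul_index (Subgroup.centralizer ({w} : Set (G ⧸ K)))
      rw [h1, hCw, Nat.card_zpowers, hwo] at h2
      exact h2.symm
    obtain ⟨g, rfl⟩ := QuotientGroup.mk_surjective x
    have hk0 : g * d * g⁻¹ * d ∈ K := by
      rw [← QuotientGroup.eq_one_iff, QuotientGroup.mk_mul, QuotientGroup.mk_mul, QuotientGroup.mk_mul,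
        QuotientGroup.mk_inv, hdw, hxinv, inv_mul_cancel]
    have hinj : Function.Injective fun a : ↥K =>
        (a * MulAut.conjNormal (H := K) d⁻¹ a⁻¹ : ↥K) := by
      intro a b hab
      have h1 := congrArg Subtype.val hab
      simp only [Subgroup.coe_mul, MulAut.conjNormal_apply, Subgroup.coe_inv, inv_inv] at h1
      refine Subtype.ext (inv_mul_eq_one.1 ?_).symm
      by_contra hne
      refine not_commute_two_three hord (a := d⁻¹) (by rw [orderOf_inv, hd])
        (hKo _ (K.mul_mem (K.inv_mem b.2) a.2) hne) ?_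
      show d⁻¹ * ((b : G)⁻¹ * a) = (b : G)⁻¹ * a * d⁻¹
      calc d⁻¹ * ((b : G)⁻¹ * a) = (b : G)⁻¹ * ((b : G) * (d⁻¹ * (b : G)⁻¹ * d)) * d⁻¹ * a := by group
        _ = (b : G)⁻¹ * ((a : G) * (d⁻¹ * (a : G)⁻¹ * d)) * d⁻¹ * a := by rw [h1]
        _ = _ := by group
    obtain ⟨a, ha⟩ := (Finite.injective_iff_surjective.1 hinj) ⟨_, hk0⟩
    have ha' : (a : G) * (d⁻¹ * (a : G)⁻¹ * d) = g * d * g⁻¹ * d := by
      have h1 := congrArg Subtype.val ha
      simp only [Subgroup.coe_mul, MulAut.conjNormal_apply, Subgroup.coe_inv, inv_inv] at h1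
      exact h1
    obtain ⟨s, hsd⟩ : ∃ s : G, s * d * s⁻¹ = d⁻¹ := by
      refine ⟨(a : G)⁻¹ * g, ?_⟩
      calc (a : G)⁻¹ * g * d * ((a : G)⁻¹ * g)⁻¹ = (a : G)⁻¹ * (g * d * g⁻¹ * d) * d⁻¹ * a := by group
        _ = (a : G)⁻¹ * ((a : G) * (d⁻¹ * (a : G)⁻¹ * d)) * d⁻¹ * a := by rw [ha']
        _ = _ := by group
    have hd2 : d ≠ d⁻¹ := by
      intro h
      have h1 : d ^ 2 = 1 := by rw [pow_two]; nth_rewrite 2 [h]; exact mul_inv_cancel d
      have h2 := orderOf_dvd_of_pow_eq_one h1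
      rw [hd] at h2
      norm_num at h2
    have hs2c : Commute (s ^ 2) d := by
      show s ^ 2 * d = d * s ^ 2
      rw [← mul_inv_eq_iff_eq_mul]
      calc s ^ 2 * d * (s ^ 2)⁻¹ = s * (s * d * s⁻¹) * s⁻¹ := by rw [pow_two]; group
        _ = (s * d * s⁻¹)⁻¹ := by rw [hsd]; simp [mul_assoc, ← hsd]
        _ = d := by rw [hsd, inv_inv]
    have hso : orderOf s = 2 := by
      have h4 := hord s
      have h0 := orderOf_pos s
      rcases (show orderOf s = 1 ∨ orderOf s = 2 ∨ orderOf s = 3 ∨ orderOf s = 4 by omega) with h | h | h | h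
      · exfalso
        rw [orderOf_eq_one_iff.1 h, one_mul, inv_one, mul_one] at hsd
        exact hd2 hsd
      · exact h
      · exfalso
        have h1 : (s ^ 2) ^ 2 = s := by
          rw [← pow_mul, show 2 * 2 = orderOf s + 1 by omega, pow_succ, pow_orderOf_eq_one, one_mul]
        have h2 : Commute s d := h1 ▸ hs2c.pow_left 2
        rw [h2.eq, mul_inv_cancel_right] at hsd
        exact hd2 hsd
      · exfalso
        refine not_commute_two_three hord (dvd_of_eq hd.symm) ?_ hs2c.symm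
        rw [orderOf_pow' s two_ne_zero, h]
        norm_num
    have hss : s * s = 1 := by rw [← pow_two, ← hso, pow_orderOf_eq_one]
    have hsdo : (s * d) * (s * d) = 1 := by
      calc s * d * (s * d) = s * d * s⁻¹ * (s * s) * d := by group
        _ = 1 := by rw [hsd, hss, mul_one, inv_mul_cancel]
    have hsK : s ∉ K := by
      intro h
      have h1 : (QuotientGroup.mk (s * d * s⁻¹) : G ⧸ K) = QuotientGroup.mk d⁻¹ := by rw [hsd]
      rw [QuotientGroup.mk_mul, QuotientGroup.mk_mul, QuotientGroup.mk_inv, QuotientGroup.mk_inv] at h1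
      rw [(QuotientGroup.eq_one_iff s).2 h, one_mul, inv_one, mul_one, hdw] at h1
      have h2 : w ^ 2 = 1 := by rw [pow_two]; nth_rewrite 2 [h1]; exact mul_inv_cancel w
      have h3 := orderOf_dvd_of_pow_eq_one h2
      rw [hwo] at h3
      norm_num at h3
    have hsQ : orderOf (QuotientGroup.mk s : G ⧸ K) = 2 := by
      refine orderOf_eq_prime ?_ fun h => hsK ((QuotientGroup.eq_one_iff s).1 h)
      rw [pow_two, ← QuotientGroup.mk_mul, hss, QuotientGroup.mk_one]
    have hsdQ : orderOf (QuotientGroup.mk (s * d) : G ⧸ K) = 2 := by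
      refine orderOf_eq_prime (by rw [pow_two, ← QuotientGroup.mk_mul, hsdo, QuotientGroup.mk_one]) ?_
      intro h
      rw [QuotientGroup.mk_mul, mul_eq_one_iff_eq_inv, hdw] at h
      rw [h, orderOf_inv, hwo] at hsQ
      omega
    -- `(k u) ^ 4 = 1` for `u` above an involution
    have hfour : ∀ u : G, orderOf (QuotientGroup.mk u : G ⧸ K) = 2 → ∀ k ∈ K, (k * u) ^ 4 = 1 := by
      intro u hu k hk
      have h1 : 2 ∣ orderOf (k * u) := by
        have h2 : orderOf (QuotientGroup.mk' K (k * u)) ∣ orderOf (k * u) := orderOf_map_dvd _ _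
        rw [map_mul, show QuotientGroup.mk' K k = 1 from (QuotientGroup.eq_one_iff k).2 hk, one_mul] at h2
        exact hu ▸ h2
      rw [← orderOf_dvd_iff_pow_eq_one]
      have := hord (k * u)
      have := orderOf_pos (k * u)
      rcases (show orderOf (k * u) = 2 ∨ orderOf (k * u) = 4 by omega) with h | h <;> rw [h]
      norm_num
    let φ : ↥K ≃* ↥K := MulAut.conjNormal d
    let σ : ↥K ≃* ↥K := MulAut.conjNormal s
    have hφ : ∀ y : ↥K, (φ y : G) = d * y * d⁻¹ := fun y => MulAut.conjNormal_apply d y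
    have hσ : ∀ y : ↥K, (σ y : G) = s * y * s⁻¹ := fun y => MulAut.conjNormal_apply s y
    have hsinv : s⁻¹ = s := inv_eq_of_mul_eq_one_right hss
    have hsdinv : (s * d)⁻¹ = s * d := inv_eq_of_mul_eq_one_right hsdo
    have hexp : ∀ y : ↥K, y ^ 2 = 1 := by
      refine sq_eq_one_of_two_involutions φ σ hcent (fun y => ?_) (fun y => ?_) (fun y hy => ?_)
        (fun y => ?_) (fun y => ?_) (fun y => ?_)
      · refine Subtype.ext ?_
        rw [Subgroup.coe_pow, Subgroup.coe_one, ← orderOf_dvd_iff_pow_eq_one]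
        obtain ⟨i, hi⟩ := IsPGroup.iff_orderOf.1 hK2 y
        rw [Subgroup.orderOf_coe, hi, show (4 : ℕ) = 2 ^ 2 from rfl]
        refine pow_dvd_pow 2 ?_
        by_contra h
        have := hord (y : G)
        rw [Subgroup.orderOf_coe, hi] at this
        have := Nat.pow_le_pow_right two_pos (show 3 ≤ i by omega)
        omega
      · obtain ⟨h1, h2⟩ := hneu d hd y y.2
        refine ⟨Subtype.ext ?_, Subtype.ext ?_⟩
        · simp only [Subgroup.coe_mul, hφ, Subgroup.coe_one]; exact h1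
        · simp only [Subgroup.coe_mul, hφ]; exact h2.eq
      · refine Subtype.ext ?_
        by_contra hy1
        refine not_commute_two_three hord (dvd_of_eq hd.symm) (hKo y y.2 hy1) ?_
        have h1 := congrArg Subtype.val hy
        rw [hφ] at h1
        exact mul_inv_eq_iff_eq_mul.1 h1
      · refine Subtype.ext ?_
        rw [hσ, hφ, hφ, hφ, hσ]
        have h1 : s * d * d = d * s := by
          have e1 : s * d = d⁻¹ * s := mul_inv_eq_iff_eq_mul.1 hsd
          have e2 : d ^ 3 = 1 := hd ▸ pow_orderOf_eq_one d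
          calc s * d * d = d⁻¹ * (s * d) := by rw [e1, mul_assoc, e1]
            _ = (d ^ 3) * (d⁻¹ * (d⁻¹ * s)) := by rw [e1, e2, one_mul]
            _ = d * s := by group
        calc s * (d * (d * y * d⁻¹) * d⁻¹) * s⁻¹ = s * d * d * y * (s * d * d)⁻¹ := by group
          _ = _ := by rw [h1]; group
      · refine Subtype.ext ?_
        rw [Subgroup.coe_pow, Subgroup.coe_mul, hσ, Subgroup.coe_one]
        have h1 := hfour s hsQ y y.2
        rw [show (4 : ℕ) = 2 * 2 from rfl, pow_mul, pow_two ((y : G) * s)] at h1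
        rw [hsinv]
        rw [← h1]
        congr 1
        simp only [mul_assoc]
      · refine Subtype.ext ?_
        rw [Subgroup.coe_pow, Subgroup.coe_mul, hσ, hφ, Subgroup.coe_one]
        have h1 := hfour (s * d) hsdQ y y.2
        rw [show (4 : ℕ) = 2 * 2 from rfl, pow_mul, pow_two ((y : G) * (s * d))] at h1
        rw [show s * (d * (y : G) * d⁻¹) * s⁻¹ = s * d * y * (s * d)⁻¹ by group, hsdinv]
        rw [← h1]
        congr 1
        simp only [mul_assoc]
    have hKpow : ∀ k ∈ K, k ^ 2 = 1 := fun k hk => congrArg Subtype.val (hexp ⟨k, hk⟩)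
    refine ⟨⟨⟨⟨fun a b => ?_⟩⟩, hKpow⟩, ?_, ?_⟩
    · have ha2 : a⁻¹ = a := inv_eq_of_mul_eq_one_right (by rw [← pow_two]; exact hexp a)
      have hb2 : b⁻¹ = b := inv_eq_of_mul_eq_one_right (by rw [← pow_two]; exact hexp b)
      have hab2 : (a * b)⁻¹ = a * b := inv_eq_of_mul_eq_one_right (by rw [← pow_two]; exact hexp _)
      rw [mul_inv_rev, ha2, hb2] at hab2
      exact hab2.symm
    · refine nonempty_mulEquiv_perm_three hcard (s := QuotientGroup.mk s) (d := w) hwo hsQ ?_
      rw [← hdw]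
      have h6 := congrArg (QuotientGroup.mk' K) hsd
      rw [map_mul, map_mul, map_inv, map_inv] at h6
      exact h6
    · by_contra h4
      push_neg at h4
      have hfix : ∀ u : G, u * u = 1 → orderOf (QuotientGroup.mk u : G ⧸ K) = 2 → ∀ k ∈ K, Commute u k := by
        intro u huu hu k hk
        have h1 : (k * u) ^ 2 = 1 := by
          have h2 := orderOf_dvd_of_pow_eq_one (hfour u hu k hk)
          have h3 := h4 (k * u)
          have := Nat.le_of_dvd (by norm_num) h2
          have := orderOf_pos (k * u)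
          rw [← orderOf_dvd_iff_pow_eq_one]
          interval_cases orderOf (k * u) <;> omega
        have huinv : u⁻¹ = u := inv_eq_of_mul_eq_one_right huu
        have hkinv : k⁻¹ = k := inv_eq_of_mul_eq_one_right (by rw [← pow_two]; exact hKpow k hk)
        have h2 : (k * u)⁻¹ = k * u := inv_eq_of_mul_eq_one_right (by rw [← pow_two]; exact h1)
        rw [mul_inv_rev, huinv, hkinv] at h2
        exact h2
      have hc1 := hfix s hss hsQ v (hVK hv)
      have hc2 := hfix (s * d) hsdo hsdQ v (hVK hv)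
      refine not_commute_two_three hord (dvd_of_eq hd.symm) (dvd_of_eq hvo.symm) ?_
      have h5 : d = s * (s * d) := by rw [← mul_assoc, hss, one_mul]
      rw [h5]
      exact hc1.mul_left hc2

/-- The three types of groups with elements of orders at most four, two and three occurring. -/
theorem structure_of_orders_le_four (hord : ∀ g : G, orderOf g ≤ 4) {t d : G} (ht : orderOf t = 2)
    (hd : orderOf d = 3) :
    ∃ (N : Subgroup G) (_ : N.Normal),
      (IsPGroup 2 ↥N ∧ N.index = 3 ∧ Group.nilpotencyClass ↥N ≤ 2 ∧ ∀ g, g ∉ N → orderOf g = 3) ∨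
      (Cfsg.IsElementaryAbelian 2 N ∧ Nonempty (G ⧸ N ≃* Equiv.Perm (Fin 3)) ∧
        ∃ g : G, orderOf g = 4) ∨
      (Cfsg.IsElementaryAbelian 3 N ∧ IsPGroup 2 (G ⧸ N) ∧
        CfsgLib.TwoGroupsQ.HasUniqueOrderP (G ⧸ N) 2 ∧
        ∀ g : G, (orderOf g = 2 ∨ orderOf g = 4) → orderOf (QuotientGroup.mk g : G ⧸ N) = orderOf g) := by
  haveI : Nontrivial G := ⟨⟨t, 1, fun h => by rw [h, orderOf_one] at ht; omega⟩⟩
  obtain ⟨V, r, hr, hV, hV1, hVc, hVr⟩ :=
    CfsgLib.PrimeGraph.exists_normal_elementary (isSolvable_of_orders_le_four hord)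
  haveI := hV
  obtain ⟨v, hv, hv1⟩ : ∃ v ∈ V, v ≠ 1 := V.bot_or_exists_ne_one.resolve_left hV1
  haveI := Fact.mk hr
  rcases prime_eq_two_or_three hord hr (orderOf_eq_prime (hVr v hv) hv1 ▸ orderOf_dvd_natCard v) with h | h
  · subst h
    obtain ⟨N, hN, h1 | h1⟩ := structure_two hord hd V hV1 hVr
    exacts [⟨N, hN, Or.inl h1⟩, ⟨N, hN, Or.inr (Or.inl h1)⟩]
  · subst h
    obtain ⟨N, hN, h1⟩ := structure_three hord ht V hV1 hVc hVr
    exact ⟨N, hN, Or.inr (Or.inr h1)⟩

end CfsgLib.FgsSix
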