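import Mathlib

/-! The order of a product of two subgroups. -/

namespace CfsgLib.FgsSix

theorem card_sup_mul_card_inf {G : Type*} [Group G] [Finite G] (H N : Subgroup G)
    (h : H ≤ Subgroup.normalizer (N : Set G)) :
    Nat.card ↥(H ⊔ N) * Nat.card ↥(H ⊓ N) = Nat.card ↥H * Nat.card ↥N := by
  haveI hn : (N.subgroupOf (H ⊔ N)).Normal :=
    Subgroup.normal_subgroupOf_of_le_normalizer (sup_le h Subgroup.le_normalizer)
  haveI hn' : (N.subgroupOf H).Normal := Subgroup.normal_subgroupOf_of_le_normalizer h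
  have e1 : Nat.card ↥(N.subgroupOf (H ⊔ N)) * (N.subgroupOf (H ⊔ N)).index = Nat.card ↥(H ⊔ N) :=
    Subgroup.card_mul_index _
  have e2 : Nat.card ↥(N.subgroupOf H) * (N.subgroupOf H).index = Nat.card ↥H :=
    Subgroup.card_mul_index _
  have e3 : Nat.card ↥(N.subgroupOf (H ⊔ N)) = Nat.card ↥N :=
    Nat.card_congr (Subgroup.subgroupOfEquivOfLe le_sup_right).toEquiv
  have e4 : Nat.card ↥(N.subgroupOf H) = Nat.card ↥(H ⊓ N) := by
    rw [← Subgroup.inf_subgroupOf_left]
    exact Nat.card_congr (Subgroup.subgroupOfEquivOfLe inf_le_left).toEquiv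
  have e5 : (N.subgroupOf (H ⊔ N)).index = (N.subgroupOf H).index := by
    simpa [Subgroup.index] using
      (Nat.card_congr (QuotientGroup.quotientInfEquivProdNormalizerQuotient H N h).toEquiv).symm
  rw [← e1, ← e2, e3, e4, e5]
  ring

end CfsgLib.FgsSix
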