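import Mathlib

/-!
# Derived length of `p`-groups of matrices in characteristic `p`
-/

namespace CfsgLib.FgsSix

open scoped commutatorElement

/-- A finite `p`-group acting linearly on a nonzero space of characteristic `p` fixes a nonzero
vector. -/
theorem exists_ne_zero_fixed {P : Type*} [Group P] [Finite P] {p : ℕ} [Fact p.Prime]
    (hP : IsPGroup p P) {K V : Type*} [Field K] [CharP K p] [AddCommGroup V] [Module K V]
    (ρ : P →* Module.End K V) {v : V} (hv : v ≠ 0) : ∃ w : V, w ≠ 0 ∧ ∀ g, ρ g w = w := by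
  classical
  have hpV : ∀ x : V, p • x = 0 := fun x => by
    rw [← Nat.cast_smul_eq_nsmul K, CharP.cast_eq_zero, zero_smul]
  set S : AddSubgroup V := AddSubgroup.closure (Set.range fun g => ρ g v) with hS
  haveI : AddGroup.FG ↥S :=
    (AddGroup.fg_iff_addSubgroup_fg _).2 ((AddSubgroup.fg_iff _).2 ⟨_, hS.symm, Set.finite_range _⟩)
  haveI : Finite ↥S := AddCommGroup.finite_of_fg_torsion _ (fun x =>
    isOfFinAddOrder_iff_nsmul_eq_zero.2 ⟨p, (Fact.out : p.Prime).pos, Subtype.ext (by simpa using hpV x.1)⟩)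
  have hinv : ∀ h : P, ∀ x ∈ S, ρ h x ∈ S := by
    intro h x hx
    have hle : S.map (ρ h).toAddMonoidHom ≤ S := by
      rw [hS, AddMonoidHom.map_closure, AddSubgroup.closure_le]
      rintro _ ⟨_, ⟨g, rfl⟩, rfl⟩
      refine AddSubgroup.subset_closure ⟨h * g, ?_⟩
      change ρ (h * g) v = ρ h (ρ g v)
      rw [map_mul]; rfl
    exact hle ⟨x, hx, rfl⟩
  letI : MulAction P ↥S :=
    { smul := fun h x => ⟨ρ h x.1, hinv h x.1 x.2⟩
      one_smul := fun x => Subtype.ext (by show ρ 1 x.1 = x.1; rw [map_one]; rfl)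
      mul_smul := fun g h x => Subtype.ext (by
        show ρ (g * h) x.1 = ρ g (ρ h x.1); rw [map_mul]; rfl) }
  have hvS : v ∈ S := AddSubgroup.subset_closure ⟨1, by simp⟩
  have hpc : p ∣ Nat.card ↥S := by
    have h1 : addOrderOf (⟨v, hvS⟩ : ↥S) = p :=
      addOrderOf_eq_prime (Subtype.ext (by simpa using hpV v)) (fun h => hv (congrArg Subtype.val h))
    exact h1 ▸ addOrderOf_dvd_natCard _
  have h0 : (0 : ↥S) ∈ MulAction.fixedPoints P ↥S := fun g => Subtype.ext (map_zero _)
  obtain ⟨w, hw, hw0⟩ := hP.exists_fixed_point_of_prime_dvd_card_of_fixed_point (α := ↥S) hpc h0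
  exact ⟨w.1, fun h => hw0 (Subtype.ext h.symm), fun g => congrArg Subtype.val (hw g)⟩

/-- A `p`-group fixes a nonzero vector of the quotient by an invariant proper subspace. -/
theorem exists_fixed_mod {P : Type*} [Group P] [Finite P] {p : ℕ} [Fact p.Prime]
    (hP : IsPGroup p P) {K V : Type*} [Field K] [CharP K p] [AddCommGroup V] [Module K V]
    (ρ : P →* Module.End K V) (W : Submodule K V) (hinv : ∀ g, ∀ v ∈ W, ρ g v ∈ W)
    {v : V} (hv : v ∉ W) : ∃ x : V, x ∉ W ∧ ∀ g, ρ g x - x ∈ W := by
  let ρq : P → Module.End K (V ⧸ W) := fun g => W.mapQ W (ρ g) (fun x hx => hinv g x hx)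
  let ρ' : P →* Module.End K (V ⧸ W) :=
    { toFun := ρq
      map_one' := by
        apply Submodule.linearMap_qext
        ext x
        simp [ρq]
      map_mul' := fun g h => by
        apply Submodule.linearMap_qext
        ext x
        simp [ρq] }
  obtain ⟨w, hw0, hw⟩ := exists_ne_zero_fixed hP ρ'
    (v := Submodule.Quotient.mk v) (fun h => hv ((Submodule.Quotient.mk_eq_zero _).1 h))
  obtain ⟨x, rfl⟩ := Submodule.Quotient.mk_surjective _ w
  exact ⟨x, fun h => hw0 ((Submodule.Quotient.mk_eq_zero _).2 h),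
    fun g => (Submodule.Quotient.eq _).1 (hw g)⟩

/-- A finite `p`-group of `n × n` matrices in characteristic `p` has derived length at most
`log₂ n + 1`. -/
theorem derivedSeries_le_ker_of_charP {P : Type*} [Group P] [Finite P] {p : ℕ} [Fact p.Prime]
    (hP : IsPGroup p P) {K V : Type*} [Field K] [CharP K p] [AddCommGroup V] [Module K V]
    [FiniteDimensional K V] (ρ : P →* Module.End K V) :
    derivedSeries P (Nat.log 2 (Module.finrank K V) + 1) ≤ ρ.ker := by
  classical
  -- the fixed point filtration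
  let step : Submodule K V → Submodule K V := fun W =>
    { carrier := {v | ∀ g, ρ g v - v ∈ W}
      zero_mem' := fun g => by simp
      add_mem' := fun {a b} ha hb g => by
        have := W.add_mem (ha g) (hb g)
        rw [map_add]; convert this using 1; abel
      smul_mem' := fun c a ha g => by
        have := W.smul_mem c (ha g)
        rw [map_smul, ← smul_sub]; exact this }
  obtain ⟨W, hW0, hW⟩ : ∃ W : ℕ → Submodule K V, W 0 = ⊥ ∧
      ∀ i v, v ∈ W (i + 1) ↔ ∀ g, ρ g v - v ∈ W i :=
    ⟨fun i => step^[i] ⊥, rfl, fun i v => by simp only [Function.iterate_succ_apply']; exact Iff.rfl⟩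
  have hmono : ∀ i, W i ≤ W (i + 1) := by
    intro i
    induction i with
    | zero => rw [hW0]; exact bot_le
    | succ i ih => intro v hv; exact (hW (i + 1) v).2 fun g => ih ((hW i v).1 hv g)
  have hmono' : Monotone W := monotone_nat_of_le_succ hmono
  have hinv : ∀ i, ∀ v ∈ W i, ∀ g, ρ g v ∈ W i := by
    intro i v hv g
    have h1 : ρ g v - v ∈ W i := (hW i v).1 (hmono i hv) g
    simpa using (W i).add_mem h1 hv
  have hgrow : ∀ i, W i ≠ ⊤ → W i < W (i + 1) := by
    intro i hi
    obtain ⟨v, hv⟩ : ∃ v, v ∉ W i := by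
      by_contra h
      push_neg at h
      exact hi ((Submodule.eq_top_iff').2 h)
    obtain ⟨x, hxW, hx⟩ := exists_fixed_mod hP ρ (W i) (fun g v hv => hinv i v hv g) hv
    refine lt_of_le_of_ne (hmono i) fun h => hxW ?_
    rw [h, hW]
    exact hx
  have htop : W (Module.finrank K V) = ⊤ := by
    have key : ∀ i, W i = ⊤ ∨ i ≤ Module.finrank K ↥(W i) := by
      intro i
      induction i with
      | zero => exact Or.inr (Nat.zero_le _)
      | succ i ih =>
        rcases eq_or_ne (W i) ⊤ with h | h
        · exact Or.inl (top_le_iff.1 (le_trans (le_of_eq h.symm) (hmono i)))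
        · exact Or.inr (Nat.succ_le_of_lt
            (lt_of_le_of_lt (ih.resolve_left h) (Submodule.finrank_lt_finrank_of_lt (hgrow i h))))
    rcases key (Module.finrank K V) with h | h
    · exact h
    · exact Submodule.eq_top_of_finrank_eq (le_antisymm (Submodule.finrank_le _) h)
  set n := Module.finrank K V with hn
  -- elements lowering the filtration by `k` steps
  let L : ℕ → Set P := fun k => {g | ∀ i, ∀ v ∈ W i, ρ g v - v ∈ W (i - k)}
  have hinvL : ∀ k g, g ∈ L k → g⁻¹ ∈ L k := by
    intro k g hg i v hv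
    have h1 := hg i (ρ g⁻¹ v) (hinv i v hv g⁻¹)
    rw [← Module.End.mul_apply, ← map_mul, mul_inv_cancel, map_one, Module.End.one_apply] at h1
    simpa using (W (i - k)).neg_mem h1
  have hcomm : ∀ a b g h, g ∈ L a → h ∈ L b → ⁅g, h⁆ ∈ L (a + b) := by
    intro a b g h hg hh i v hv
    set u := ρ h⁻¹ v with hu
    set x := ρ g⁻¹ u with hx
    have hxW : x ∈ W i := hinv i u (hinv i v hv _) _
    have hvx : ρ h (ρ g x) = v := by
      rw [hx, hu, ← Module.End.mul_apply (ρ g) (ρ g⁻¹), ← map_mul, mul_inv_cancel, map_one,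
        Module.End.one_apply, ← Module.End.mul_apply, ← map_mul, mul_inv_cancel, map_one,
        Module.End.one_apply]
    have he : ρ ⁅g, h⁆ v = ρ g (ρ h x) := by
      rw [hx, hu, commutatorElement_def, map_mul, map_mul, map_mul]; rfl
    rw [he, ← hvx]
    have h1 : ρ h x - x ∈ W (i - b) := hh i x hxW
    have h2 : ρ g x - x ∈ W (i - a) := hg i x hxW
    have h3 := hg (i - b) _ h1
    have h4 := hh (i - a) _ h2
    rw [Nat.sub_sub] at h3 h4
    rw [add_comm b a] at h3
    have h5 := (W (i - (a + b))).sub_mem h3 h4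
    simp only [map_sub] at h5
    convert h5 using 1
    abel
  have hclosed : ∀ k g h, g ∈ L k → h ∈ L k → g * h ∈ L k := by
    intro k g h hg hh i v hv
    have h2 : ρ h v - v ∈ W (i - k) := hh i v hv
    have h1 : ρ g (ρ h v) - ρ h v ∈ W (i - k) := hg i _ (hinv i v hv h)
    rw [map_mul, Module.End.mul_apply]
    simpa using (W (i - k)).add_mem h1 h2
  have hone : ∀ g : P, g ∈ L 1 := by
    intro g i v hv
    rcases i with _ | i
    · rw [hW0] at hv
      have h0 : v = 0 := (Submodule.mem_bot K).1 hv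
      simp [h0]
    · exact (hW i v).1 hv g
  have hder : ∀ k, ∀ g ∈ derivedSeries P k, g ∈ L (2 ^ k) := by
    intro k
    induction k with
    | zero => intro g _; simpa using hone g
    | succ k ih =>
      intro g hg
      let H : Subgroup P :=
        { carrier := L (2 ^ (k + 1))
          one_mem' := fun i v _ => by simp
          mul_mem' := fun {a b} ha hb => hclosed _ a b ha hb
          inv_mem' := fun {a} ha => hinvL _ a ha }
      have hle : derivedSeries P (k + 1) ≤ H := by
        rw [derivedSeries_succ, Subgroup.commutator_le]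
        intro a ha b hb
        have := hcomm _ _ a b (ih a ha) (ih b hb)
        rwa [← two_mul, ← pow_succ'] at this
      exact hle hg
  intro g hg
  rw [MonoidHom.mem_ker]
  refine LinearMap.ext fun v => ?_
  have h1 := hder _ g hg n v (htop ▸ Submodule.mem_top)
  have h2 : n - 2 ^ (Nat.log 2 n + 1) = 0 :=
    Nat.sub_eq_zero_of_le (Nat.lt_pow_succ_log_self one_lt_two n).le
  rw [h2, hW0] at h1
  exact sub_eq_zero.1 ((Submodule.mem_bot K).1 h1)

end CfsgLib.FgsSix
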