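import Mathlib

/-!
# Frobenius' theorem on the number of solutions of `x ^ m = 1`

If `m` divides the order of the finite group `G`, then `m` divides the number of solutions of
`x ^ m = 1`. Also the basic facts on the number of elements of a given order.
-/

namespace CfsgLib.FgsSix

variable {G : Type*} [Group G] [Finite G]

/-- The number of elements of order `d` is divisible by `φ d`. -/
theorem totient_dvd_card_orderOf_eq (d : ℕ) :
    Nat.totient d ∣ Nat.card {x : G // orderOf x = d} := by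
  classical
  haveI := Fintype.ofFinite G
  rw [Nat.card_eq_fintype_card, Fintype.card_subtype,
    Finset.card_eq_sum_card_image (fun x : G => Subgroup.zpowers x)]
  refine Finset.dvd_sum fun H hH => ?_
  obtain ⟨x, hx, rfl⟩ := Finset.mem_image.1 hH
  rw [Finset.mem_filter] at hx
  have h : Nat.card {y : ↥(Subgroup.zpowers x) // orderOf y = d} = Nat.totient d := by
    rw [Nat.card_eq_fintype_card, Fintype.card_subtype]
    refine IsCyclic.card_orderOf_eq_totient ?_
    rw [← Nat.card_eq_fintype_card, Nat.card_zpowers, hx.2]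
  rw [← h, Nat.card_eq_fintype_card, Fintype.card_subtype]
  refine dvd_of_eq ?_
  refine Finset.card_bij (fun y _ => (y : G)) ?_ (fun a _ b _ hab => Subtype.ext hab) ?_
  · intro y hy
    simp only [Finset.mem_filter, Finset.mem_univ, true_and] at hy ⊢
    rw [← Subgroup.orderOf_coe] at hy
    refine ⟨hy, Subgroup.eq_of_le_of_card_ge (Subgroup.zpowers_le.2 y.2) ?_⟩
    rw [Nat.card_zpowers, Nat.card_zpowers, hy, hx.2]
  · intro z hz
    simp only [Finset.mem_filter, Finset.mem_univ, true_and] at hz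
    refine ⟨⟨z, hz.2 ▸ Subgroup.mem_zpowers z⟩, ?_, rfl⟩
    simp only [Finset.mem_filter, Finset.mem_univ, true_and]
    rw [Subgroup.orderOf_mk, hz.1]

omit [Finite G] in
/-- Solutions of `x ^ n = 1` depend only on `gcd n |G|`. -/
theorem pow_eq_one_iff_gcd (n : ℕ) (x : G) : x ^ n = 1 ↔ x ^ n.gcd (Nat.card G) = 1 := by
  rw [← orderOf_dvd_iff_pow_eq_one, ← orderOf_dvd_iff_pow_eq_one, Nat.dvd_gcd_iff]
  exact ⟨fun h => ⟨h, orderOf_dvd_natCard x⟩, And.left⟩

/-- A conjugation-invariant sum is divisible by `t` as soon as each `[G : C_G(u)] * f u` is. -/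
theorem dvd_sum_of_conj_invariant [Fintype G] (U : Finset G) (f : G → ℕ) (t : ℕ)
    (hU : ∀ u ∈ U, ∀ g : G, g * u * g⁻¹ ∈ U) (hf : ∀ u g : G, f (g * u * g⁻¹) = f u)
    (h : ∀ u ∈ U, t ∣ (Subgroup.centralizer ({u} : Set G)).index * f u) : t ∣ ∑ u ∈ U, f u := by
  classical
  rw [← Finset.sum_fiberwise_of_maps_to (fun u hu => Finset.mem_image_of_mem ConjClasses.mk hu)]
  refine Finset.dvd_sum fun c hc => ?_
  obtain ⟨u, hu, rfl⟩ := Finset.mem_image.1 hc
  have hfiber : U.filter (fun v => ConjClasses.mk v = ConjClasses.mk u) =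
      Finset.univ.filter (fun v => IsConj u v) := by
    ext v
    simp only [Finset.mem_filter, Finset.mem_univ, true_and, ConjClasses.mk_eq_mk_iff_isConj]
    refine ⟨fun hv => hv.2.symm, fun hv => ⟨?_, hv.symm⟩⟩
    obtain ⟨g, rfl⟩ := isConj_iff.1 hv
    exact hU u hu g
  rw [hfiber, Finset.sum_const_nat (m := f u)]
  · refine dvd_trans (h u hu) (dvd_of_eq ?_)
    congr 1
    have h1 := MulAction.index_stabilizer (ConjAct G) u
    rw [ConjAct.stabilizer_eq_centralizer, ConjAct.orbit_eq_carrier_conjClasses] at h1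
    refine h1.trans ?_
    rw [← Nat.card_coe_set_eq, Nat.card_eq_fintype_card, ← Set.toFinset_card]
    congr 1
    ext v
    simp only [Set.mem_toFinset, ConjClasses.mem_carrier_iff_mk_eq, Finset.mem_filter,
      Finset.mem_univ, true_and, ConjClasses.mk_eq_mk_iff_isConj]
    exact isConj_comm
  · intro v hv
    simp only [Finset.mem_filter, Finset.mem_univ, true_and] at hv
    obtain ⟨g, rfl⟩ := isConj_iff.1 hv
    exact hf u g

/-- Splitting `x` with `x ^ (a * b) = 1` into commuting parts killed by `a` and `b`. -/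
theorem card_split [Fintype G] [DecidableEq G] {a b : ℕ} (hab : a.Coprime b) (P : G → Prop)
    [DecidablePred P] (Q : G → Prop) [DecidablePred Q]
    (hPQ : ∀ u v : G, Commute u v → u ^ a = 1 → v ^ b = 1 → (P (u * v) ↔ Q u)) :
    Nat.card {x : G // x ^ (a * b) = 1 ∧ P x} =
      ∑ u ∈ Finset.univ.filter (fun u : G => u ^ a = 1 ∧ Q u),
        Nat.card {v : G // Commute u v ∧ v ^ b = 1} := by
  obtain ⟨e, he1, he0⟩ := Nat.chineseRemainder hab 1 0
  obtain ⟨f, hf0, hf1⟩ := Nat.chineseRemainder hab 0 1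
  have hef : ∀ x : G, x ^ (a * b) = 1 → x ^ e * x ^ f = x := by
    intro x hx
    have h1 : e + f ≡ 1 [MOD a * b] :=
      (Nat.modEq_and_modEq_iff_modEq_mul hab).1 ⟨by simpa using he1.add hf0, by simpa using he0.add hf1⟩
    rw [← pow_add]
    conv_rhs => rw [← pow_one x]
    exact pow_eq_pow_iff_modEq.2 (h1.of_dvd (orderOf_dvd_iff_pow_eq_one.2 hx))
  have hea : ∀ x : G, x ^ (a * b) = 1 → (x ^ e) ^ a = 1 := by
    intro x hx
    rw [← pow_mul, ← orderOf_dvd_iff_pow_eq_one]
    refine (orderOf_dvd_iff_pow_eq_one.2 hx).trans ?_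
    rw [mul_comm e a]
    exact Nat.mul_dvd_mul_left a (Nat.modEq_zero_iff_dvd.1 he0)
  have hfb : ∀ x : G, x ^ (a * b) = 1 → (x ^ f) ^ b = 1 := by
    intro x hx
    rw [← pow_mul, ← orderOf_dvd_iff_pow_eq_one]
    refine (orderOf_dvd_iff_pow_eq_one.2 hx).trans ?_
    exact mul_dvd_mul (Nat.modEq_zero_iff_dvd.1 hf0) dvd_rfl
  have key1 : ∀ u v : G, Commute u v → u ^ a = 1 → v ^ b = 1 → (u * v) ^ e = u := by
    intro u v huv hu hv
    rw [huv.mul_pow, pow_eq_one_iff_modEq.2 (he0.of_dvd (orderOf_dvd_iff_pow_eq_one.2 hv)), mul_one]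
    conv_rhs => rw [← pow_one u]
    exact pow_eq_pow_iff_modEq.2 (he1.of_dvd (orderOf_dvd_iff_pow_eq_one.2 hu))
  have key2 : ∀ u v : G, Commute u v → u ^ a = 1 → v ^ b = 1 → (u * v) ^ f = v := by
    intro u v huv hu hv
    rw [huv.mul_pow, pow_eq_one_iff_modEq.2 (hf0.of_dvd (orderOf_dvd_iff_pow_eq_one.2 hu)), one_mul]
    conv_rhs => rw [← pow_one v]
    exact pow_eq_pow_iff_modEq.2 (hf1.of_dvd (orderOf_dvd_iff_pow_eq_one.2 hv))
  classical
  simp only [Nat.card_eq_fintype_card, Fintype.card_subtype]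
  have hrhs : ∀ u : G, Nat.card {v : G // Commute u v ∧ v ^ b = 1} =
      (Finset.univ.filter fun v : G => Commute u v ∧ v ^ b = 1).card := fun u => by
    rw [Nat.card_eq_fintype_card, Fintype.card_subtype]
  rw [← Finset.card_sigma]
  refine Finset.card_bij' (fun x _ => ⟨x ^ e, x ^ f⟩) (fun y _ => y.1 * y.2) ?_ ?_ ?_ ?_
  · intro x hx
    simp only [Finset.mem_filter, Finset.mem_univ, true_and] at hx
    simp only [Finset.mem_sigma, Finset.mem_filter, Finset.mem_univ, true_and]
    have hc : Commute (x ^ e) (x ^ f) := Commute.pow_pow_self x e f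
    refine ⟨⟨hea x hx.1, ?_⟩, hc, hfb x hx.1⟩
    have := (hPQ _ _ hc (hea x hx.1) (hfb x hx.1)).1 (by rw [hef x hx.1]; exact hx.2)
    exact this
  · intro y hy
    simp only [Finset.mem_sigma, Finset.mem_filter, Finset.mem_univ, true_and] at hy
    simp only [Finset.mem_filter, Finset.mem_univ, true_and]
    refine ⟨?_, (hPQ _ _ hy.2.1 hy.1.1 hy.2.2).2 hy.1.2⟩
    rw [hy.2.1.mul_pow, pow_mul, hy.1.1, one_pow, one_mul, mul_comm a b, pow_mul, hy.2.2, one_pow]
  · intro x hx
    simp only [Finset.mem_filter, Finset.mem_univ, true_and] at hx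
    exact hef x hx.1
  · intro y hy
    simp only [Finset.mem_sigma, Finset.mem_filter, Finset.mem_univ, true_and] at hy
    obtain ⟨u, v⟩ := y
    simp only [key1 u v hy.2.1 hy.1.1 hy.2.2, key2 u v hy.2.1 hy.1.1 hy.2.2]

/-- The number of `v` commuting with `u` with `v ^ b = 1` is invariant under conjugation. -/
theorem card_commute_pow_conj (b : ℕ) (u g : G) :
    Nat.card {v : G // Commute (g * u * g⁻¹) v ∧ v ^ b = 1} =
      Nat.card {v : G // Commute u v ∧ v ^ b = 1} := by
  refine Nat.card_congr ((MulAut.conj g).toEquiv.subtypeEquiv fun v => ?_).symm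
  simp only [MulEquiv.toEquiv_eq_coe, MulEquiv.coe_toEquiv, MulAut.conj_apply, conj_pow,
    conj_eq_one_iff, Commute, SemiconjBy]
  refine and_congr_left fun _ => ?_
  constructor
  · intro h
    calc g * u * g⁻¹ * (g * v * g⁻¹) = g * (u * v) * g⁻¹ := by group
      _ = g * (v * u) * g⁻¹ := by rw [h]
      _ = g * v * g⁻¹ * (g * u * g⁻¹) := by group
  · intro h
    calc u * v = g⁻¹ * (g * u * g⁻¹ * (g * v * g⁻¹)) * g := by group
      _ = g⁻¹ * (g * v * g⁻¹ * (g * u * g⁻¹)) * g := by rw [h]
      _ = v * u := by group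

universe u

private theorem frobenius_aux (n : ℕ) : ∀ (G : Type u) [Group G] [Finite G], Nat.card G = n →
    ∀ m : ℕ, m ∣ n → m ∣ Nat.card {g : G // g ^ m = 1} := by
  induction n using Nat.strong_induction_on with
  | _ n ih =>
  intro G _ _ hn m hm
  induction hk : n - m using Nat.strong_induction_on generalizing m with
  | _ k ih' =>
  classical
  haveI := Fintype.ofFinite G
  have hn0 : n ≠ 0 := hn ▸ Nat.card_pos.ne'
  rcases eq_or_ne m n with rfl | hmn
  · have h1 : Nat.card {g : G // g ^ m = 1} = m := by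
      rw [← hn]
      exact Nat.card_congr (Equiv.subtypeUnivEquiv fun g => pow_card_eq_one')
    rw [h1]
  obtain ⟨d, rfl⟩ := hm
  have hm0 : 0 < m := Nat.pos_of_ne_zero fun h => hn0 (by simp [h])
  obtain ⟨p, hp, hpd⟩ := Nat.exists_prime_and_dvd (n := d) (fun h => hmn (by simp [h]))
  haveI := Fact.mk hp
  have hmp : m * p ∣ m * d := Nat.mul_dvd_mul_left m hpd
  have hlt : m < m * p := lt_mul_of_one_lt_right hm0 hp.one_lt
  have hle : m * p ≤ m * d := Nat.le_of_dvd (Nat.pos_of_ne_zero hn0) hmp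
  have hbig : m ∣ Nat.card {g : G // g ^ (m * p) = 1} :=
    dvd_trans (Dvd.intro p rfl) (ih' (m * d - m * p) (by omega) (m * p) hmp rfl)
  have hsplit : Nat.card {g : G // g ^ (m * p) = 1} =
      Nat.card {g : G // g ^ m = 1} + Nat.card {g : G // g ^ (m * p) = 1 ∧ g ^ m ≠ 1} := by
    simp only [Nat.card_eq_fintype_card, Fintype.card_subtype]
    rw [← Finset.card_union_of_disjoint]
    · congr 1
      ext g
      simp only [Finset.mem_filter, Finset.mem_univ, true_and, Finset.mem_union]
      refine ⟨fun h => ?_, fun h => ?_⟩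
      · tauto
      · rcases h with h | h
        · rw [pow_mul, h, one_pow]
        · exact h.1
    · rw [Finset.disjoint_filter]; tauto
  rw [hsplit] at hbig
  refine (Nat.dvd_add_left ?_).1 hbig
  obtain ⟨a, t, hpt, rfl⟩ := Nat.exists_eq_pow_mul_and_not_dvd hm0.ne' p hp.ne_one
  have hcop : Nat.Coprime (p ^ (a + 1)) t :=
    Nat.Coprime.pow_left _ ((Nat.Prime.coprime_iff_not_dvd hp).2 hpt)
  have hB : Nat.card {g : G // g ^ (p ^ a * t * p) = 1 ∧ g ^ (p ^ a * t) ≠ 1} =
      Nat.card {g : G // g ^ (p ^ (a + 1) * t) = 1 ∧ g ^ (p ^ a * t) ≠ 1} := by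
    rw [show p ^ (a + 1) * t = p ^ a * t * p by ring]
  refine Nat.Coprime.mul_dvd_of_dvd_of_dvd
    (Nat.Coprime.pow_left _ ((Nat.Prime.coprime_iff_not_dvd hp).2 hpt)) ?_ ?_
  · rw [hB, Nat.card_eq_fintype_card, Fintype.card_subtype,
      Finset.card_eq_sum_card_image (fun g : G => orderOf g)]
    refine Finset.dvd_sum fun o ho => ?_
    obtain ⟨g, hg, rfl⟩ := Finset.mem_image.1 ho
    simp only [Finset.mem_filter, Finset.mem_univ, true_and] at hg
    have hfil : (Finset.univ.filter fun x : G =>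
        x ^ (p ^ (a + 1) * t) = 1 ∧ x ^ (p ^ a * t) ≠ 1).filter (fun x => orderOf x = orderOf g) =
        Finset.univ.filter (fun x : G => orderOf x = orderOf g) := by
      ext x
      simp only [Finset.mem_filter, Finset.mem_univ, true_and]
      refine ⟨And.right, fun hx => ⟨?_, hx⟩⟩
      simp only [ne_eq, ← orderOf_dvd_iff_pow_eq_one, hx] at hg ⊢
      exact hg
    rw [hfil, ← Fintype.card_subtype, ← Nat.card_eq_fintype_card]
    refine dvd_trans ?_ (totient_dvd_card_orderOf_eq (G := G) (orderOf g))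
    have h1 : p ^ (a + 1) ∣ orderOf g := by
      have ha1 : orderOf g ∣ p ^ (a + 1) * t := orderOf_dvd_iff_pow_eq_one.2 hg.1
      obtain ⟨x, y, hx, hy, hxy⟩ := Nat.dvd_mul.1 ha1
      obtain ⟨i, hi, rfl⟩ := (Nat.dvd_prime_pow hp).1 hx
      rcases Nat.eq_or_lt_of_le hi with rfl | hi
      · exact ⟨y, hxy.symm⟩
      · exfalso
        apply hg.2
        rw [← orderOf_dvd_iff_pow_eq_one, ← hxy]
        exact Nat.mul_dvd_mul (pow_dvd_pow p (by omega)) hy
    refine dvd_trans ?_ (Nat.totient_dvd_of_dvd h1)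
    rw [Nat.totient_prime_pow_succ hp]
    exact dvd_mul_right _ _
  · rw [hB, card_split hcop (fun g => g ^ (p ^ a * t) ≠ 1) (fun u => u ^ p ^ a ≠ 1)]
    · refine dvd_sum_of_conj_invariant _ _ _ ?_ (fun u g => card_commute_pow_conj t u g) ?_
      · intro u hu g
        simp only [Finset.mem_filter, Finset.mem_univ, true_and, ne_eq, conj_pow,
          conj_eq_one_iff] at hu ⊢
        exact hu
      · intro u hu
        simp only [Finset.mem_filter, Finset.mem_univ, true_and] at hu
        have huo : orderOf u = p ^ (a + 1) := orderOf_eq_prime_pow hu.2 hu.1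
        set C : Subgroup G := Subgroup.centralizer ({u} : Set G) with hC
        let Z : Subgroup ↥C := (Subgroup.zpowers u).subgroupOf C
        have huC : u ∈ C := Subgroup.mem_centralizer_singleton_iff.2 rfl
        have hzle : Subgroup.zpowers u ≤ C := Subgroup.zpowers_le.2 huC
        haveI : Z.Normal := by
          refine ⟨fun z hz c => ?_⟩
          obtain ⟨i, hi⟩ := Subgroup.mem_zpowers_iff.1 (Subgroup.mem_subgroupOf.1 hz)
          refine Subgroup.mem_subgroupOf.2 ⟨i, ?_⟩
          have hcu : Commute (c : G) (u ^ i) :=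
            Commute.zpow_right (Subgroup.mem_centralizer_singleton_iff.1 c.2) i
          push_cast
          rw [← hi, hcu.eq, mul_inv_cancel_right]
        have hZc : Nat.card ↥Z = p ^ (a + 1) := by
          rw [Nat.card_congr (Subgroup.subgroupOfEquivOfLe hzle).toEquiv, Nat.card_zpowers, huo]
        have hq : Nat.card (↥C ⧸ Z) * p ^ (a + 1) = Nat.card ↥C := by
          rw [← hZc]; exact (Subgroup.card_eq_card_quotient_mul_card_subgroup Z).symm
        have hCle : Nat.card ↥C ≤ Nat.card G :=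
          Nat.le_of_dvd Nat.card_pos (Subgroup.card_subgroup_dvd_card C)
        have hp1 : 1 < p ^ (a + 1) := Nat.one_lt_pow (by omega) hp.one_lt
        have hlt' : Nat.card (↥C ⧸ Z) < p ^ a * t * d := by
          rw [← hn]
          have h0 : Nat.card (↥C ⧸ Z) < Nat.card (↥C ⧸ Z) * p ^ (a + 1) :=
            lt_mul_of_one_lt_right Nat.card_pos hp1
          omega
        have hi := ih _ hlt' (↥C ⧸ Z) rfl (t.gcd (Nat.card (↥C ⧸ Z))) (Nat.gcd_dvd_right _ _)
        -- solutions in the quotient correspond to solutions commuting with `u`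
        obtain ⟨f, hf0, hf1⟩ := Nat.chineseRemainder hcop 0 1
        have hcount : Nat.card {v : G // Commute u v ∧ v ^ t = 1} =
            Nat.card {w : ↥C ⧸ Z // w ^ (t.gcd (Nat.card (↥C ⧸ Z))) = 1} := by
          refine Nat.card_congr (Equiv.ofBijective (fun v =>
            ⟨QuotientGroup.mk ⟨v.1, Subgroup.mem_centralizer_singleton_iff.2 v.2.1.eq.symm⟩, ?_⟩) ⟨?_, ?_⟩)
          · rw [← pow_eq_one_iff_gcd, ← QuotientGroup.mk_pow, QuotientGroup.eq_one_iff,
              Subgroup.mem_subgroupOf]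
            push_cast
            rw [v.2.2]
            exact one_mem _
          · rintro ⟨v, hv, hv'⟩ ⟨w, hw, hw'⟩ h
            have h' := QuotientGroup.eq.1 (congrArg Subtype.val h)
            obtain ⟨i, hi⟩ := Subgroup.mem_zpowers_iff.1 (Subgroup.mem_subgroupOf.1 h')
            push_cast at hi
            refine Subtype.ext ?_
            change v = w
            have hwv : w = v * u ^ i := by rw [hi, mul_inv_cancel_left]
            have h2 : (u ^ i) ^ t = 1 := by
              have h3 := hw'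
              rwa [hwv, (hv.symm.zpow_right i).mul_pow, hv', one_mul] at h3
            have h3 : u ^ i = 1 := by
              rw [← orderOf_eq_one_iff]
              refine Nat.eq_one_of_dvd_coprimes hcop ?_ (orderOf_dvd_iff_pow_eq_one.2 h2)
              rw [← huo]
              exact orderOf_dvd_of_mem_zpowers ⟨i, rfl⟩
            rw [hwv, h3, mul_one]
          · rintro ⟨w, hw⟩
            rw [← pow_eq_one_iff_gcd] at hw
            obtain ⟨c, rfl⟩ := QuotientGroup.mk_surjective w
            rw [← QuotientGroup.mk_pow, QuotientGroup.eq_one_iff, Subgroup.mem_subgroupOf] at hw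
            push_cast at hw
            have hct : ((c : G) ^ t) ^ p ^ (a + 1) = 1 := by
              obtain ⟨i, hi⟩ := Subgroup.mem_zpowers_iff.1 hw
              rw [← hi, ← huo, ← zpow_natCast, zpow_comm, zpow_natCast, pow_orderOf_eq_one, one_zpow]
            have hcord : orderOf (c : G) ∣ p ^ (a + 1) * t := by
              rw [orderOf_dvd_iff_pow_eq_one, mul_comm, pow_mul, hct]
            refine ⟨⟨(c : G) ^ f, (Commute.pow_right
              (Subgroup.mem_centralizer_singleton_iff.1 c.2).symm f), ?_⟩, Subtype.ext ?_⟩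
            · rw [← pow_mul, ← orderOf_dvd_iff_pow_eq_one]
              exact hcord.trans (mul_dvd_mul (Nat.modEq_zero_iff_dvd.1 hf0) dvd_rfl)
            · change QuotientGroup.mk (c ^ f) = (c : ↥C ⧸ Z)
              rw [QuotientGroup.mk_pow]
              conv_rhs => rw [← pow_one (c : ↥C ⧸ Z)]
              refine pow_eq_pow_iff_modEq.2 (hf1.of_dvd (orderOf_dvd_iff_pow_eq_one.2 ?_))
              rw [← QuotientGroup.mk_pow, QuotientGroup.eq_one_iff, Subgroup.mem_subgroupOf]
              exact hw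
        rw [hcount]
        refine dvd_trans ?_ (Nat.mul_dvd_mul_left _ hi)
        have h4 : t ∣ p ^ (a + 1) * (C.index * Nat.card (↥C ⧸ Z)) := by
          have e : p ^ (a + 1) * (C.index * Nat.card (↥C ⧸ Z)) = p ^ a * t * d := by
            rw [← hn, ← Subgroup.card_mul_index C, ← hq]; ring
          rw [e]
          exact ⟨p ^ a * d, by ring⟩
        have h5 : t ∣ C.index * Nat.card (↥C ⧸ Z) := hcop.symm.dvd_of_dvd_mul_left h4
        rw [← Nat.gcd_mul_left]
        exact Nat.dvd_gcd (Dvd.intro_left _ rfl) h5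
    · intro u v huv hu hv
      rw [huv.mul_pow, mul_comm (p ^ a) t, pow_mul v, hv, one_pow, mul_one, mul_comm t (p ^ a),
        pow_mul u, ne_eq, ne_eq, ← orderOf_dvd_iff_pow_eq_one,
        ← orderOf_dvd_iff_pow_eq_one (n := p ^ a)]
      have h6 : orderOf u ∣ p ^ (a + 1) := orderOf_dvd_iff_pow_eq_one.2 hu
      have h7 : Nat.Coprime (orderOf (u ^ p ^ a)) t :=
        Nat.Coprime.coprime_dvd_left ((orderOf_pow_dvd _).trans h6) hcop
      refine not_congr ⟨fun h => ?_, fun h => ?_⟩
      · rw [orderOf_dvd_iff_pow_eq_one, ← orderOf_eq_one_iff]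
        exact Nat.eq_one_of_dvd_coprimes h7 dvd_rfl h
      · rw [orderOf_dvd_iff_pow_eq_one, orderOf_dvd_iff_pow_eq_one.1 h, one_pow]

/-- **Frobenius' theorem**: if `m` divides `|G|`, it divides the number of `g` with `g ^ m = 1`. -/
theorem dvd_card_pow_eq_one {G : Type u} [Group G] [Finite G] (m : ℕ) (hm : m ∣ Nat.card G) :
    m ∣ Nat.card {g : G // g ^ m = 1} :=
  frobenius_aux _ G rfl m hm

/-- Frobenius' theorem for an arbitrary exponent. -/
theorem gcd_dvd_card_pow_eq_one {G : Type u} [Group G] [Finite G] (n : ℕ) :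
    n.gcd (Nat.card G) ∣ Nat.card {g : G // g ^ n = 1} := by
  have h : Nat.card {g : G // g ^ n = 1} = Nat.card {g : G // g ^ n.gcd (Nat.card G) = 1} :=
    Nat.card_congr (Equiv.subtypeEquivRight fun g => pow_eq_one_iff_gcd n g)
  rw [h]
  exact dvd_card_pow_eq_one _ (Nat.gcd_dvd_right _ _)

end CfsgLib.FgsSix
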