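import Mathlib

/-! Finite groups in which, for every bound `k`, the elements all of whose prime divisors of the
order are at least `k` form a normal Hall subgroup (supersolvable groups), and the solvability of
groups with the same order statistics. -/

namespace CfsgLib.FgsSix

/-- All prime divisors of `n` are at least `k`. -/
def AllPrimesGe (k n : ℕ) : Prop := ∀ q : ℕ, q.Prime → q ∣ n → k ≤ q

/-- All prime divisors of `n` are below `k`. -/
def AllPrimesLt (k n : ℕ) : Prop := ∀ q : ℕ, q.Prime → q ∣ n → q < k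

/-- For every bound there is a normal subgroup whose order has only large primes and whose index
has only small ones. -/
def HasUpperHalls (G : Type*) [Group G] : Prop :=
  ∀ k : ℕ, ∃ N : Subgroup G, N.Normal ∧ AllPrimesGe k (Nat.card ↥N) ∧ AllPrimesLt k N.index

/-- The statistic: for every bound, the number of elements all of whose primes are large is the
large part of the order. -/
def HasUpperCounts (G : Type*) [Group G] : Prop :=
  ∀ k : ℕ, ∃ d : ℕ, Nat.card {g : G // AllPrimesGe k (orderOf g)} * d = Nat.card G ∧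
    AllPrimesLt k d ∧ AllPrimesGe k (Nat.card {g : G // AllPrimesGe k (orderOf g)})

theorem eq_one_of_ge_of_lt {k n : ℕ} (h1 : AllPrimesGe k n) (h2 : AllPrimesLt k n) : n = 1 := by
  by_contra hn
  obtain ⟨q, hq, hqn⟩ := Nat.exists_prime_and_dvd hn
  exact absurd (h1 q hq hqn) (not_le.2 (h2 q hq hqn))

theorem AllPrimesGe.dvd {k m n : ℕ} (h : AllPrimesGe k n) (hmn : m ∣ n) : AllPrimesGe k m :=
  fun q hq hqm => h q hq (hqm.trans hmn)

theorem AllPrimesLt.dvd {k m n : ℕ} (h : AllPrimesLt k n) (hmn : m ∣ n) : AllPrimesLt k m :=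
  fun q hq hqm => h q hq (hqm.trans hmn)

theorem AllPrimesGe.mul {k m n : ℕ} (h : AllPrimesGe k m) (h' : AllPrimesGe k n) :
    AllPrimesGe k (m * n) :=
  fun q hq hd => (hq.dvd_mul.1 hd).elim (h q hq) (h' q hq)

variable {G : Type*} [Group G] [Finite G]

theorem mem_of_allPrimesGe {k : ℕ} (N : Subgroup G) [N.Normal] (hN : AllPrimesLt k N.index) {x : G}
    (hx : AllPrimesGe k (orderOf x)) : x ∈ N := by
  have h1 := hx.dvd (orderOf_map_dvd (QuotientGroup.mk' N) x)
  have h2 : orderOf (QuotientGroup.mk' N x) ∣ N.index := by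
    rw [Subgroup.index_eq_card]
    exact orderOf_dvd_natCard _
  exact (QuotientGroup.eq_one_iff x).1
    (orderOf_eq_one_iff.1 (eq_one_of_ge_of_lt h1 (hN.dvd h2)))

theorem HasUpperHalls.hasUpperCounts (h : HasUpperHalls G) : HasUpperCounts G := by
  intro k
  obtain ⟨N, hN, h1, h2⟩ := h k
  haveI := hN
  have he : Nat.card {g : G // AllPrimesGe k (orderOf g)} = Nat.card ↥N := by
    refine Nat.card_congr (Equiv.subtypeEquivRight fun g => ⟨mem_of_allPrimesGe N h2, fun hg => ?_⟩)
    exact h1.dvd (Subgroup.orderOf_dvd_natCard N hg)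
  exact ⟨N.index, by rw [he, Subgroup.card_mul_index], h2, he ▸ h1⟩

/-- A normal subgroup of prime order with a quotient having upper Hall subgroups. -/
theorem hasUpperHalls_of_prime_normal (L : Subgroup G) [L.Normal] (hL : (Nat.card ↥L).Prime)
    (h : HasUpperHalls (G ⧸ L)) : HasUpperHalls G := by
  intro k
  obtain ⟨C, hC, h1, h2⟩ := h k
  haveI := hC
  set K : Subgroup G := C.comap (QuotientGroup.mk' L) with hK
  have hKn : K.Normal := hC.comap _
  have hKi : K.index = C.index :=
    C.index_comap_of_surjective (QuotientGroup.mk'_surjective L)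
  have hLK : L ≤ K := by
    intro x hx
    rw [hK, Subgroup.mem_comap, (QuotientGroup.eq_one_iff x).2 hx |> fun h =>
      (show QuotientGroup.mk' L x = 1 from h)]
    exact C.one_mem
  have hKc : Nat.card ↥K = Nat.card ↥L * Nat.card ↥C := by
    have e1 := Subgroup.card_mul_index K
    have e2 := Subgroup.card_mul_index C
    have e3 := Subgroup.card_mul_index L
    rw [hKi] at e1
    rw [← Subgroup.index_eq_card] at e2
    rw [← e3, ← e2, ← mul_assoc] at e1
    exact Nat.eq_of_mul_eq_mul_right (Nat.pos_of_ne_zero Subgroup.index_ne_zero_of_finite) e1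
  by_cases hk : k ≤ Nat.card ↥L
  · refine ⟨K, hKn, ?_, hKi ▸ h2⟩
    rw [hKc]
    exact AllPrimesGe.mul (fun q hq hd => (Nat.prime_dvd_prime_iff_eq hq hL).1 hd ▸ hk) h1
  push_neg at hk
  haveI : (L.subgroupOf K).Normal := Subgroup.normal_subgroupOf
  have hLc : Nat.card ↥(L.subgroupOf K) = Nat.card ↥L :=
    Nat.card_congr (Subgroup.subgroupOfEquivOfLe hLK).toEquiv
  have hidx : (L.subgroupOf K).index = Nat.card ↥C := by
    have e := Subgroup.card_mul_index (L.subgroupOf K)
    rw [hLc, hKc] at e
    exact Nat.eq_of_mul_eq_mul_left hL.pos e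
  have hcop : Nat.Coprime (Nat.card ↥(L.subgroupOf K)) (L.subgroupOf K).index := by
    rw [hLc, hidx, Nat.Prime.coprime_iff_not_dvd hL]
    intro hd
    exact absurd (h1 _ hL hd) (not_le.2 hk)
  obtain ⟨M, hM⟩ := Subgroup.exists_right_complement'_of_coprime hcop
  have hMc : Nat.card ↥M = Nat.card ↥C := by rw [← hidx]; exact hM.symm.index_eq_card.symm
  set N : Subgroup G := M.map K.subtype with hN
  have hNK : N ≤ K := Subgroup.map_subtype_le _
  have hNc : Nat.card ↥N = Nat.card ↥C := by rw [hN, Subgroup.card_subtype, hMc]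
  -- elements of `N` act trivially on `L`
  have hcent : ∀ n ∈ N, ∀ l ∈ L, n * l = l * n := by
    intro n hn l hl
    let φ : MulAut ↥L := MulAut.conjNormal n
    have hord : orderOf φ = 1 := by
      refine eq_one_of_ge_of_lt (k := k) ((h1.dvd ?_)) ?_
      · rw [← hNc]
        exact (orderOf_map_dvd (MulAut.conjNormal (H := L)) n).trans (N.orderOf_dvd_natCard hn)
      · intro q hq hd
        haveI : Fact (Nat.card ↥L).Prime := ⟨hL⟩
        haveI : IsCyclic ↥L := isCyclic_of_prime_card rfl
        have h3 : q ∣ (Nat.card ↥L).totient := by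
          rw [← IsCyclic.card_mulAut]
          exact hd.trans (orderOf_dvd_natCard φ)
        rw [Nat.totient_prime hL] at h3
        have := Nat.le_of_dvd (by have := hL.two_le; omega) h3
        omega
    have h4 := congrArg (fun ψ : MulAut ↥L => ((ψ ⟨l, hl⟩ : ↥L) : G)) (orderOf_eq_one_iff.1 hord)
    simp only [φ, MulAut.conjNormal_apply, MulAut.one_apply] at h4
    exact mul_inv_eq_iff_eq_mul.1 h4
  -- so `N` is normal in `K`
  have hMn : M.Normal := by
    rw [← Subgroup.normalizer_eq_top_iff, eq_top_iff, ← hM.sup_eq_top, sup_le_iff]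
    refine ⟨fun l hl => Subgroup.centralizer_le_normalizer _ fun m hm => ?_, Subgroup.le_normalizer⟩
    exact Subtype.ext (hcent (m : G) ⟨m, hm, rfl⟩ (l : G) (Subgroup.mem_subgroupOf.1 hl))
  refine ⟨N, ⟨fun x hx g => ?_⟩, hNc ▸ h1, ?_⟩
  · have hxK : g * x * g⁻¹ ∈ K := hKn.conj_mem x (hNK hx) g
    haveI := hMn
    have h5 : AllPrimesLt k M.index := by
      rw [hM.index_eq_card, hLc]
      intro q hq hd
      exact ((Nat.prime_dvd_prime_iff_eq hq hL).1 hd) ▸ hk
    refine ⟨⟨_, hxK⟩, mem_of_allPrimesGe M h5 ?_, rfl⟩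
    rw [Subgroup.orderOf_mk, ← MulAut.conj_apply, MulEquiv.orderOf_eq]
    exact (hNc ▸ h1).dvd (N.orderOf_dvd_natCard hx)
  · intro q hq hd
    have e1 := Subgroup.card_mul_index N
    have e2 := Subgroup.card_mul_index K
    rw [hNc] at e1
    rw [hKc, ← e1, mul_comm (Nat.card ↥L), mul_assoc] at e2
    rw [← Nat.eq_of_mul_eq_mul_left Nat.card_pos e2, hKi] at hd
    rcases hq.dvd_mul.1 hd with hd | hd
    · exact ((Nat.prime_dvd_prime_iff_eq hq hL).1 hd) ▸ hk
    · exact h2 q hq hd

/-- A group with the statistics of a group with upper Hall subgroups is solvable. -/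
theorem isSolvable_of_hasUpperCounts (n : ℕ) :
    ∀ (H : Type*) [Group H] [Finite H], Nat.card H = n → HasUpperCounts H → Group.IsSolvable H := by
  induction n using Nat.strong_induction_on with
  | _ n ih =>
    intro H _ _ hn h
    rcases eq_or_ne n 1 with rfl | hn1
    · haveI : Subsingleton H := Finite.card_le_one_iff_subsingleton.1 hn.le
      infer_instance
    have hne : (Nat.card H).primeFactors.Nonempty := by
      rw [Nat.nonempty_primeFactors]
      have := Nat.card_pos (α := H)
      omega
    set p := (Nat.card H).primeFactors.max' hne with hp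
    have hpmem := Finset.max'_mem _ hne
    have hpp : p.Prime := Nat.prime_of_mem_primeFactors hpmem
    have hpd : p ∣ Nat.card H := Nat.dvd_of_mem_primeFactors hpmem
    have hmax : AllPrimesLt (p + 1) (Nat.card H) := fun q hq hd => Nat.lt_succ_of_le
      (Finset.le_max' _ q (Nat.mem_primeFactors.2 ⟨hq, hd, Nat.card_pos.ne'⟩))
    haveI : Fact p.Prime := ⟨hpp⟩
    obtain ⟨Q⟩ : Nonempty (Sylow p H) := inferInstance
    obtain ⟨d, hd, hdlt, hge⟩ := h p
    obtain ⟨a, ha⟩ := IsPGroup.iff_card.1 Q.isPGroup'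
    -- elements with large primes are exactly those of `Q`
    have hQmem : ∀ x ∈ (Q : Subgroup H), AllPrimesGe p (orderOf x) := by
      intro x hx q hq hqd
      obtain ⟨i, hi⟩ := IsPGroup.iff_orderOf.1 Q.isPGroup' ⟨x, hx⟩
      rw [Subgroup.orderOf_mk] at hi
      rw [hi] at hqd
      exact ((Nat.prime_dvd_prime_iff_eq hq hpp).1 (hq.dvd_of_dvd_pow hqd)).ge
    have hsetcard : Nat.card {g : H // AllPrimesGe p (orderOf g)} ≤ Nat.card ↥(Q : Subgroup H) := by
      obtain ⟨b, hb⟩ : ∃ b, Nat.card {g : H // AllPrimesGe p (orderOf g)} = p ^ b := by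
        refine ⟨_, Nat.eq_prime_pow_of_unique_prime_dvd ?_ fun {q} hq hqd => ?_⟩
        · intro h0
          rw [h0, zero_mul] at hd
          exact Nat.card_pos.ne hd
        · have h1 := hge q hq hqd
          have h2 := hmax q hq (hqd.trans (Dvd.intro _ hd))
          omega
      rw [hb]
      refine Nat.le_of_dvd Nat.card_pos (Q.pow_dvd_card_of_pow_dvd_card ?_)
      exact hb ▸ Dvd.intro _ hd
    let j : ↥(Q : Subgroup H) → {g : H // AllPrimesGe p (orderOf g)} :=
      fun x => ⟨x.1, hQmem _ x.2⟩
    have hj : Function.Injective j := fun x y hxy => Subtype.ext (by simpa [j] using hxy)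
    have hbij := (Nat.bijective_iff_injective_and_card j).2
      ⟨hj, le_antisymm (Nat.card_le_card_of_injective j hj) hsetcard⟩
    have hmem : ∀ x : H, AllPrimesGe p (orderOf x) → x ∈ (Q : Subgroup H) := by
      intro x hx
      obtain ⟨q, hq⟩ := hbij.2 ⟨x, hx⟩
      have : q.1 = x := congrArg Subtype.val hq
      exact this ▸ q.2
    haveI hQn : (Q : Subgroup H).Normal := ⟨fun x hx g => hmem _ (by
      rw [← MulAut.conj_apply, MulEquiv.orderOf_eq]; exact hQmem x hx)⟩
    haveI : Group.IsSolvable ↥(Q : Subgroup H) := by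
      haveI : Group.IsNilpotent ↥(Q : Subgroup H) := Q.isPGroup'.isNilpotent
      infer_instance
    have hQ1 : 1 < Nat.card ↥(Q : Subgroup H) :=
      lt_of_lt_of_le hpp.one_lt (Nat.le_of_dvd Nat.card_pos (Q.dvd_card_of_dvd_card hpd))
    have hcard : Nat.card (H ⧸ (Q : Subgroup H)) < n := by
      rw [← hn, Subgroup.card_eq_card_quotient_mul_card_subgroup (Q : Subgroup H)]
      exact lt_mul_of_one_lt_right Nat.card_pos hQ1
    have hquot : HasUpperCounts (H ⧸ (Q : Subgroup H)) := by
      intro k
      by_cases hk : k ≤ p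
      · obtain ⟨d', hd', hd'lt, hge'⟩ := h k
        have hQk : AllPrimesGe k (Nat.card ↥(Q : Subgroup H)) := by
          intro q hq hqd
          rw [ha] at hqd
          exact ((Nat.prime_dvd_prime_iff_eq hq hpp).1 (hq.dvd_of_dvd_pow hqd)) ▸ hk
        have hiff : ∀ x : H, AllPrimesGe k (orderOf (x : H ⧸ (Q : Subgroup H))) ↔
            AllPrimesGe k (orderOf x) := by
          intro x
          refine ⟨fun hx => ?_, fun hx => hx.dvd (orderOf_map_dvd (QuotientGroup.mk' _) x)⟩
          set o := orderOf (x : H ⧸ (Q : Subgroup H)) with ho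
          have h6 : x ^ o ∈ (Q : Subgroup H) := by
            rw [← QuotientGroup.eq_one_iff, QuotientGroup.mk_pow, ho, pow_orderOf_eq_one]
          have h7 : orderOf x ∣ o * Nat.card ↥(Q : Subgroup H) := by
            rw [orderOf_dvd_iff_pow_eq_one, pow_mul]
            exact congrArg Subtype.val (pow_card_eq_one' (x := (⟨_, h6⟩ : ↥(Q : Subgroup H))))
          exact (hx.mul hQk).dvd h7
        have hc : Nat.card {g : H // AllPrimesGe k (orderOf g)} = Nat.card ↥(Q : Subgroup H) *
            Nat.card {g : H ⧸ (Q : Subgroup H) // AllPrimesGe k (orderOf g)} := by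
          have := QuotientGroup.card_preimage_mk (Q : Subgroup H)
            {g : H ⧸ (Q : Subgroup H) | AllPrimesGe k (orderOf g)}
          refine Eq.trans (Nat.card_congr (Equiv.subtypeEquivRight fun x => ?_)) this
          exact (hiff x).symm
        refine ⟨d', ?_, hd'lt, hge'.dvd ⟨_, by rw [hc, mul_comm]⟩⟩
        apply Nat.eq_of_mul_eq_mul_left (Nat.card_pos (α := ↥(Q : Subgroup H)))
        rw [← mul_assoc, ← hc, hd', mul_comm]
        exact Subgroup.card_eq_card_quotient_mul_card_subgroup _
      · push_neg at hk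
        have hlt : AllPrimesLt k (Nat.card (H ⧸ (Q : Subgroup H))) := fun q hq hqd =>
          lt_of_le_of_lt (Nat.lt_succ_iff.1 (hmax q hq (hqd.trans (Subgroup.card_quotient_dvd_card (Q : Subgroup H))))) hk
        haveI : Unique {g : H ⧸ (Q : Subgroup H) // AllPrimesGe k (orderOf g)} :=
          ⟨⟨⟨1, fun q hq hqd => by
              rw [orderOf_one, Nat.dvd_one] at hqd; exact absurd hqd hq.ne_one⟩⟩,
            fun g => Subtype.ext (orderOf_eq_one_iff.1
              (eq_one_of_ge_of_lt g.2 (hlt.dvd (orderOf_dvd_natCard _))))⟩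
        exact ⟨_, by rw [Nat.card_unique, one_mul], hlt, by
          rw [Nat.card_unique]; exact fun q hq hqd => absurd (Nat.dvd_one.1 hqd) hq.ne_one⟩
    haveI : Group.IsSolvable (H ⧸ (Q : Subgroup H)) := ih _ hcard _ rfl hquot
    exact Group.isSolvable_of_ker_le_range (Q : Subgroup H).subtype (QuotientGroup.mk' (Q : Subgroup H))
      (by rw [QuotientGroup.ker_mk', Subgroup.range_subtype])

end CfsgLib.FgsSix
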