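import Mathlib
import Cfsg.Prelude.Def_Solvable
import Cfsg.Agent.S3742
import Cfsg.Agent.Solvable.Fitting
import Cfsg.Agent.PLocal.Cores
import Cfsg.Agent.Characters.Burnside
import Cfsg.Agent.TwoGroupsQ.UniqueInvolution
import Cfsg.Agent.FgsSix.UpperHall

/-!
# Solvable groups with cyclic odd Sylow subgroups and a unique involution in the Sylow `2`-subgroup

Their Sylow subgroup for the largest prime `≥ 5` is normal, so they are recognised as solvable by
their numbers of elements of each order (`isSolvable_of_same_counts`).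
-/

namespace CfsgLib.FgsSix

/-- An automorphism of `p`-power order, `p ≥ 5`, of a generalised quaternion `2`-group is trivial. -/
theorem aut_quaternion_eq_one {m p e : ℕ} (hm : 1 ≤ m) (hp : p.Prime) (h5 : 5 ≤ p)
    (σ : MulAut (QuaternionGroup (2 ^ m))) (hσ : σ ^ p ^ e = 1) : σ = 1 := by
  have hp2 : Nat.Coprime (p ^ e) 2 :=
    Nat.Coprime.pow_left _ ((Nat.coprime_primes hp Nat.prime_two).2 (by omega))
  rcases eq_or_lt_of_le hm with rfl | hm
  · rw [← orderOf_eq_one_iff]
    have h24 : orderOf σ ∣ 24 := by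
      obtain ⟨f⟩ := Cfsg.Agent.S3742.result
      refine (orderOf_dvd_natCard σ).trans (dvd_of_eq ?_)
      rw [show (2 : ℕ) ^ 1 = 2 from rfl, Nat.card_congr f.toEquiv, Nat.card_perm, Nat.card_fin]
      rfl
    refine Nat.eq_one_of_dvd_coprimes ?_ (orderOf_dvd_of_pow_eq_one hσ) h24
    refine Nat.Coprime.pow_left _ ((hp.coprime_iff_not_dvd).2 fun hd => ?_)
    have h1 : p ∣ 2 ^ 3 * 3 := hd
    rcases hp.dvd_mul.1 h1 with h2 | h2
    · have := (Nat.prime_dvd_prime_iff_eq hp Nat.prime_two).1 (hp.dvd_of_dvd_pow h2)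
      omega
    · have := (Nat.prime_dvd_prime_iff_eq hp Nat.prime_three).1 h2
      omega
  · haveI : NeZero (2 ^ m) := ⟨by positivity⟩
    haveI : NeZero (2 * 2 ^ m) := ⟨by positivity⟩
    have h4 : 4 ≤ 2 ^ m := by
      calc (4 : ℕ) = 2 ^ 2 := rfl
        _ ≤ 2 ^ m := Nat.pow_le_pow_right two_pos hm
    have hoa : orderOf (σ (QuaternionGroup.a 1)) = 2 * 2 ^ m := by
      rw [MulEquiv.orderOf_eq, QuaternionGroup.orderOf_a_one]
    obtain ⟨i, hi⟩ : ∃ i, σ (QuaternionGroup.a 1) = QuaternionGroup.a i := by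
      rcases hx : σ (QuaternionGroup.a 1) with i | i
      · exact ⟨i, rfl⟩
      · rw [hx, QuaternionGroup.orderOf_xa] at hoa
        omega
    have hak : ∀ k : ZMod (2 * 2 ^ m), σ (QuaternionGroup.a k) = QuaternionGroup.a (k * i) := by
      intro k
      have e1 : ∀ (n : ℕ) (j : ZMod (2 * 2 ^ m)),
          (QuaternionGroup.a j : QuaternionGroup (2 ^ m)) ^ n = QuaternionGroup.a ((n : ZMod (2 * 2 ^ m)) * j) := by
        intro n j
        induction n with
        | zero => simp
        | succ n ih => rw [pow_succ, ih, QuaternionGroup.a_mul_a]; congr 1; push_cast; ring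
      conv_lhs => rw [← ZMod.natCast_zmod_val k, ← QuaternionGroup.a_one_pow, map_pow, hi, e1,
        ZMod.natCast_zmod_val]
    have hit : ∀ t : ℕ, (σ ^ t) (QuaternionGroup.a 1) = QuaternionGroup.a (i ^ t) := by
      intro t
      induction t with
      | zero => simp
      | succ t ih =>
        rw [pow_succ' σ, MulAut.mul_apply, ih, hak, ← pow_succ]
    have hi1 : i = 1 := by
      have h1 := hit (p ^ e)
      rw [hσ, MulAut.one_apply, QuaternionGroup.a.injEq] at h1
      let u : (ZMod (2 * 2 ^ m))ˣ := IsUnit.unit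
        (IsUnit.of_pow_eq_one h1.symm (pow_ne_zero _ hp.ne_zero))
      have hu : u ^ p ^ e = 1 := by
        refine Units.ext ?_
        rw [Units.val_pow_eq_pow_val, IsUnit.unit_spec, ← h1, Units.val_one]
      have h2 : orderOf u = 1 := by
        refine Nat.eq_one_of_dvd_coprimes (hp2.pow_right m) (orderOf_dvd_of_pow_eq_one hu) ?_
        refine orderOf_dvd_natCard u |>.trans (dvd_of_eq ?_)
        rw [Nat.card_eq_fintype_card, ZMod.card_units_eq_totient, ← pow_succ',
          Nat.totient_prime_pow_succ Nat.prime_two]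
        ring
      have h3 := congrArg Units.val (orderOf_eq_one_iff.1 h2)
      rwa [IsUnit.unit_spec] at h3
    have hfixa : ∀ k, σ (QuaternionGroup.a k) = QuaternionGroup.a k := fun k => by
      rw [hak, hi1, mul_one]
    obtain ⟨j, hj⟩ : ∃ j, σ (QuaternionGroup.xa 0) = QuaternionGroup.xa j := by
      rcases hx : σ (QuaternionGroup.xa 0) with j | j
      · rw [← hfixa j] at hx
        exact absurd (σ.injective hx) (by simp)
      · exact ⟨j, rfl⟩
    have hxa : ∀ k, σ (QuaternionGroup.xa k) = QuaternionGroup.xa (j + k) := by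
      intro k
      conv_lhs => rw [show QuaternionGroup.xa k = QuaternionGroup.xa 0 * QuaternionGroup.a k by simp,
        map_mul, hj, hfixa, QuaternionGroup.xa_mul_a]
    have hjt : ∀ t : ℕ, (σ ^ t) (QuaternionGroup.xa 0) = QuaternionGroup.xa ((t : ZMod (2 * 2 ^ m)) * j) := by
      intro t
      induction t with
      | zero => simp
      | succ t ih => rw [pow_succ' σ, MulAut.mul_apply, ih, hxa]; congr 1; push_cast; ring
    have hj0 : j = 0 := by
      have h1 := hjt (p ^ e)
      rw [hσ, MulAut.one_apply, QuaternionGroup.xa.injEq] at h1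
      have hu : IsUnit ((p ^ e : ℕ) : ZMod (2 * 2 ^ m)) := by
        rw [ZMod.isUnit_iff_coprime, ← pow_succ']
        exact hp2.pow_right _
      exact (hu.mul_right_eq_zero).1 h1.symm
    refine MulEquiv.ext fun x => ?_
    cases x with
    | a k => rw [hfixa]; rfl
    | xa k => rw [hxa, hj0, zero_add]; rfl

/-- The hypothesis on Sylow subgroups. -/
def CyclicOddUniqueTwo (X : Type*) [Group X] : Prop :=
  (∀ (q : ℕ) [Fact q.Prime] (Q : Sylow q X), q ≠ 2 → IsCyclic ↥(Q : Subgroup X)) ∧
    ∀ Q : Sylow 2 X, CfsgLib.TwoGroupsQ.HasUniqueOrderP ↥(Q : Subgroup X) 2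

variable {X : Type*} [Group X] [Finite X]

theorem CyclicOddUniqueTwo.isCyclic_of_isPGroup (h : CyclicOddUniqueTwo X) {q : ℕ} [Fact q.Prime]
    (hq : q ≠ 2) {H : Subgroup X} (hH : IsPGroup q ↥H) : IsCyclic ↥H := by
  obtain ⟨Q, hQ⟩ := hH.exists_le_sylow
  haveI := h.1 q Q hq
  exact isCyclic_of_injective (Subgroup.inclusion hQ) (Subgroup.inclusion_injective hQ)

/-- The Sylow subgroup for the largest prime is normal if that is at least five. -/
theorem CyclicOddUniqueTwo.sylow_max_normal (h : CyclicOddUniqueTwo X) [Group.IsSolvable X] {p : ℕ}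
    [hp : Fact p.Prime] (h5 : 5 ≤ p) (hmax : ∀ q : ℕ, q.Prime → q ∣ Nat.card X → q ≤ p)
    (P : Sylow p X) : (P : Subgroup X).Normal := by
  classical
  haveI := CfsgLib.Solvable.fittingSubgroup_normal (G := X)
  have hPF : (P : Subgroup X) ≤ Cfsg.fittingSubgroup X := by
    refine le_trans ?_ CfsgLib.Solvable.centralizer_fittingSubgroup_le
    rw [CfsgLib.Solvable.fittingSubgroup_eq_iSup, Subgroup.le_centralizer_iff, iSup_le_iff]
    rintro ⟨q, hq⟩
    haveI := Fact.mk hq
    set A := Cfsg.pCore q X with hA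
    have hAq : IsPGroup q ↥A := CfsgLib.Solvable.isPGroup_pCore q
    haveI hAn : A.Normal := CfsgLib.Solvable.pCore_normal q
    rw [Subgroup.le_centralizer_iff]
    intro x hx
    rw [Subgroup.mem_centralizer_iff]
    by_cases hqp : q = p
    · subst hqp
      haveI := h.1 q P (by omega)
      intro a ha
      haveI : IsMulCommutative ↥(P : Subgroup X) := IsCyclic.isMulCommutative
      exact congrArg Subtype.val
        (mul_comm' (⟨a, CfsgLib.Solvable.pCore_le_sylow P ha⟩ : ↥(P : Subgroup X)) ⟨x, hx⟩)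
    intro a ha
    obtain ⟨e, he⟩ := IsPGroup.iff_orderOf.1 P.isPGroup' ⟨x, hx⟩
    replace he : orderOf x = p ^ e := (Subgroup.orderOf_coe _).trans he
    set φ : MulAut ↥A := MulAut.conjNormal x with hφ
    have hφe : φ ^ p ^ e = 1 := by
      rw [hφ, ← map_pow, ← he, pow_orderOf_eq_one, map_one]
    suffices h1 : φ = 1 by
      have h2 := congrArg Subtype.val (DFunLike.congr_fun h1 (⟨a, ha⟩ : ↥A))
      simp only [hφ, MulAut.conjNormal_apply, MulAut.one_apply] at h2
      exact (mul_inv_eq_iff_eq_mul.1 h2).symm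
    have hcyc : IsCyclic ↥A → φ = 1 := by
      intro hcA
      rw [← orderOf_eq_one_iff]
      obtain ⟨k, hk⟩ := IsPGroup.iff_card.1 hAq
      refine Nat.eq_one_of_dvd_coprimes ?_ (orderOf_dvd_of_pow_eq_one hφe) (orderOf_dvd_natCard φ)
      rw [IsCyclic.card_mulAut, hk]
      refine Nat.Coprime.pow_left _ ((hp.out.coprime_iff_not_dvd).2 fun hd => ?_)
      rcases Nat.eq_zero_or_pos k with rfl | hk0
      · rw [pow_zero, Nat.totient_one] at hd
        exact hp.out.not_dvd_one hd
      have hqX : q ∣ Nat.card X :=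
        (dvd_pow_self q hk0.ne').trans (hk ▸ Subgroup.card_subgroup_dvd_card A)
      have hqle := hmax q hq hqX
      rw [Nat.totient_prime_pow hq hk0] at hd
      rcases hp.out.dvd_mul.1 hd with h2 | h2
      · exact hqp ((Nat.prime_dvd_prime_iff_eq hp.out hq).1 (hp.out.dvd_of_dvd_pow h2)).symm
      · have := Nat.le_of_dvd (by have := hq.two_le; omega) h2
        have := hq.two_le
        omega
    by_cases hq2 : q = 2
    · subst hq2
      obtain ⟨Q, hQ⟩ := hAq.exists_le_sylow
      have hu : CfsgLib.TwoGroupsQ.HasUniqueOrderP ↥A 2 := by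
        intro a b ha hb hb1
        obtain ⟨i, hi⟩ := h.2 Q (Subgroup.inclusion hQ a) (Subgroup.inclusion hQ b)
          (by rw [← map_pow, ha, map_one]) (by rw [← map_pow, hb, map_one])
          (fun e => hb1 (Subgroup.inclusion_injective hQ (e.trans (map_one _).symm)))
        exact ⟨i, Subgroup.inclusion_injective hQ (by rw [map_zpow]; exact hi)⟩
      rcases CfsgLib.TwoGroupsQ.isCyclic_or_quaternion hAq hu with hc | ⟨-, m, hm, ⟨f⟩⟩
      · exact hcyc hc
      · have h2 := aut_quaternion_eq_one hm hp.out h5 (MulAut.congr f φ)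
          (by rw [← map_pow, hφe, map_one] : MulAut.congr f φ ^ p ^ e = 1)
        exact (MulAut.congr f).injective (h2.trans (map_one _).symm)
    · exact hcyc (h.isCyclic_of_isPGroup hq2 hAq)
  haveI := CfsgLib.Solvable.fittingSubgroup_isNilpotent (G := X)
  set S : Sylow p ↥(Cfsg.fittingSubgroup X) := P.subtype hPF with hS
  have hnorm : (S : Subgroup ↥(Cfsg.fittingSubgroup X)).Normal :=
    Group.isNilpotent_of_finite_tfae.out 0 3 rfl rfl |>.mp inferInstance p inferInstance S
  haveI hch := Sylow.characteristic_of_normal S hnorm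
  have h1 := CfsgLib.PLocal.normal_map_subtype (Cfsg.fittingSubgroup X)
    (S : Subgroup ↥(Cfsg.fittingSubgroup X))
  rwa [hS, Sylow.coe_subtype, Subgroup.map_subgroupOf_eq_of_le hPF] at h1

theorem CyclicOddUniqueTwo.quotient (h : CyclicOddUniqueTwo X) (N : Subgroup X) [N.Normal] {p : ℕ}
    [hp : Fact p.Prime] (hp2 : p ≠ 2) (hN : IsPGroup p ↥N) : CyclicOddUniqueTwo (X ⧸ N) := by
  constructor
  · intro q _ Q hq
    obtain ⟨R, rfl⟩ := Sylow.mapSurjective_surjective (QuotientGroup.mk'_surjective N) q Q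
    haveI := h.1 q R hq
    exact isCyclic_of_surjective ((QuotientGroup.mk' N).subgroupMap (R : Subgroup X))
      (MonoidHom.subgroupMap_surjective _ _)
  · intro Q
    haveI := Fact.mk Nat.prime_two
    obtain ⟨R, rfl⟩ := Sylow.mapSurjective_surjective (QuotientGroup.mk'_surjective N) 2 Q
    have hinj : Function.Injective ((QuotientGroup.mk' N).subgroupMap (R : Subgroup X)) := by
      rw [injective_iff_map_eq_one]
      intro r hr
      have hrN : (r : X) ∈ N := (QuotientGroup.eq_one_iff _).1 (congrArg Subtype.val hr)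
      obtain ⟨i, hi⟩ := IsPGroup.iff_orderOf.1 R.isPGroup' r
      obtain ⟨j, hj⟩ := IsPGroup.iff_orderOf.1 hN ⟨(r : X), hrN⟩
      rw [← Subgroup.orderOf_coe] at hi hj
      refine Subtype.ext (orderOf_eq_one_iff.1 ?_)
      refine Nat.eq_one_of_dvd_coprimes (Nat.Coprime.pow i j
        ((Nat.coprime_primes Nat.prime_two hp.out).2 (Ne.symm hp2))) (dvd_of_eq hi) (dvd_of_eq hj)
    intro a b ha hb hb1
    obtain ⟨a', rfl⟩ := MonoidHom.subgroupMap_surjective (QuotientGroup.mk' N) (R : Subgroup X) a
    obtain ⟨b', rfl⟩ := MonoidHom.subgroupMap_surjective (QuotientGroup.mk' N) (R : Subgroup X) b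
    set f := (QuotientGroup.mk' N).subgroupMap (R : Subgroup X) with hf
    have ha' : f (a' ^ 2) = 1 := (map_pow f a' 2).trans ha
    have hb' : f (b' ^ 2) = 1 := (map_pow f b' 2).trans hb
    obtain ⟨i, hi⟩ := h.2 R a' b' (hinj (ha'.trans (map_one f).symm)) (hinj (hb'.trans (map_one f).symm))
      (fun e => hb1 (by rw [e]; exact map_one f))
    exact ⟨i, by rw [← hi]; exact (map_zpow _ _ _).symm⟩

/-- The upper Hall subgroups exist for bounds at least five. -/
theorem CyclicOddUniqueTwo.exists_upperHall (n : ℕ) :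
    ∀ (X : Type*) [Group X] [Finite X], Nat.card X = n → Group.IsSolvable X → CyclicOddUniqueTwo X →
      ∀ k : ℕ, 5 ≤ k →
        ∃ N : Subgroup X, N.Normal ∧ AllPrimesGe k (Nat.card ↥N) ∧ AllPrimesLt k N.index := by
  induction n using Nat.strong_induction_on with
  | _ n ih =>
    intro X _ _ hn hs h k hk
    haveI := hs
    by_cases hsmall : AllPrimesLt k (Nat.card X)
    · exact ⟨⊥, inferInstance, fun q hq hd => absurd (by simpa using hd) hq.ne_one,
        by rwa [Subgroup.index_bot]⟩
    simp only [AllPrimesLt, not_forall, not_lt] at hsmall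
    obtain ⟨r, hr, hrd, hrk⟩ := hsmall
    have hne : (Nat.card X).primeFactors.Nonempty :=
      ⟨r, Nat.mem_primeFactors.2 ⟨hr, hrd, Nat.card_pos.ne'⟩⟩
    set p := (Nat.card X).primeFactors.max' hne with hp
    have hpmem := Finset.max'_mem _ hne
    have hpp : p.Prime := Nat.prime_of_mem_primeFactors hpmem
    have hmax : ∀ q : ℕ, q.Prime → q ∣ Nat.card X → q ≤ p := fun q hq hd =>
      Finset.le_max' _ q (Nat.mem_primeFactors.2 ⟨hq, hd, Nat.card_pos.ne'⟩)
    have hkp : k ≤ p := le_trans hrk (hmax r hr hrd)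
    haveI := Fact.mk hpp
    obtain ⟨P⟩ : Nonempty (Sylow p X) := inferInstance
    haveI := h.sylow_max_normal (p := p) (by omega) hmax P
    have hP1 : 1 < Nat.card ↥(P : Subgroup X) := lt_of_lt_of_le hpp.one_lt
      (Nat.le_of_dvd Nat.card_pos (P.dvd_card_of_dvd_card (Nat.dvd_of_mem_primeFactors hpmem)))
    have hlt : Nat.card (X ⧸ (P : Subgroup X)) < n := by
      rw [← hn, Subgroup.card_eq_card_quotient_mul_card_subgroup (P : Subgroup X)]
      exact lt_mul_of_one_lt_right Nat.card_pos hP1
    obtain ⟨C, hC, hC1, hC2⟩ := ih _ hlt (X ⧸ (P : Subgroup X)) rfl inferInstance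
      (h.quotient (P : Subgroup X) (by omega) P.isPGroup') k hk
    haveI := hC
    refine ⟨C.comap (QuotientGroup.mk' (P : Subgroup X)), hC.comap _, ?_,
      by rwa [C.index_comap_of_surjective (QuotientGroup.mk'_surjective _)]⟩
    have hc : Nat.card ↥(C.comap (QuotientGroup.mk' (P : Subgroup X))) =
        Nat.card ↥(P : Subgroup X) * Nat.card ↥C :=
      QuotientGroup.card_preimage_mk (P : Subgroup X) (C : Set (X ⧸ (P : Subgroup X)))
    rw [hc]
    refine AllPrimesGe.mul (fun q hq hd => ?_) hC1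
    obtain ⟨a, ha⟩ := IsPGroup.iff_card.1 P.isPGroup'
    rw [ha] at hd
    exact ((Nat.prime_dvd_prime_iff_eq hq hpp).1 (hq.dvd_of_dvd_pow hd)) ▸ hkp

/-- The number of elements with all primes of the order at least `k` is the upper part of the
order, for `k ≥ 5`. -/
def HasUpperCountsFive (G : Type*) [Group G] : Prop :=
  ∀ k : ℕ, 5 ≤ k → ∃ d : ℕ, Nat.card {g : G // AllPrimesGe k (orderOf g)} * d = Nat.card G ∧
    AllPrimesLt k d ∧ AllPrimesGe k (Nat.card {g : G // AllPrimesGe k (orderOf g)})

theorem CyclicOddUniqueTwo.hasUpperCountsFive (h : CyclicOddUniqueTwo X) [hs : Group.IsSolvable X] :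
    HasUpperCountsFive X := by
  intro k hk
  obtain ⟨N, hN, h1, h2⟩ := CyclicOddUniqueTwo.exists_upperHall _ X rfl hs h k hk
  haveI := hN
  have he : Nat.card {g : X // AllPrimesGe k (orderOf g)} = Nat.card ↥N := by
    refine Nat.card_congr (Equiv.subtypeEquivRight fun g => ⟨mem_of_allPrimesGe N h2, fun hg => ?_⟩)
    exact h1.dvd (Subgroup.orderOf_dvd_natCard N hg)
  exact ⟨N.index, by rw [he, Subgroup.card_mul_index], h2, he ▸ h1⟩

/-- A group with these counts is solvable. -/
theorem isSolvable_of_hasUpperCountsFive (n : ℕ) :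
    ∀ (H : Type*) [Group H] [Finite H], Nat.card H = n → HasUpperCountsFive H → Group.IsSolvable H := by
  induction n using Nat.strong_induction_on with
  | _ n ih =>
    intro H _ _ hn h
    classical
    by_cases hsmall : AllPrimesLt 5 (Nat.card H)
    · refine CfsgLib.Characters.isSolvable_of_card_eq_primePow_mul 2 3
        ((Nat.card H).factorization 2) ((Nat.card H).factorization 3) Nat.prime_two Nat.prime_three ?_
      rw [Nat.dvd_iff_prime_pow_dvd_dvd]
      intro p k hp hk
      rcases Nat.eq_zero_or_pos k with rfl | hk0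
      · exact one_dvd _
      · have hk' := (hp.pow_dvd_iff_le_factorization Nat.card_pos.ne').1 hk
        have h5 := hsmall p hp ((dvd_pow_self p hk0.ne').trans hk)
        interval_cases p
        · exact absurd hp (by norm_num)
        · exact absurd hp (by norm_num)
        · exact (pow_dvd_pow 2 hk').mul_right _
        · exact (pow_dvd_pow 3 hk').mul_left _
        · exact absurd hp (by norm_num)
    simp only [AllPrimesLt, not_forall, not_lt] at hsmall
    obtain ⟨r, hr, hrd, hr5⟩ := hsmall
    have hne : (Nat.card H).primeFactors.Nonempty :=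
      ⟨r, Nat.mem_primeFactors.2 ⟨hr, hrd, Nat.card_pos.ne'⟩⟩
    set p := (Nat.card H).primeFactors.max' hne with hp
    have hpmem := Finset.max'_mem _ hne
    have hpp : p.Prime := Nat.prime_of_mem_primeFactors hpmem
    have hpd : p ∣ Nat.card H := Nat.dvd_of_mem_primeFactors hpmem
    have hmax : AllPrimesLt (p + 1) (Nat.card H) := fun q hq hd => Nat.lt_succ_of_le
      (Finset.le_max' _ q (Nat.mem_primeFactors.2 ⟨hq, hd, Nat.card_pos.ne'⟩))
    haveI : Fact p.Prime := ⟨hpp⟩
    obtain ⟨Q⟩ : Nonempty (Sylow p H) := inferInstance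
    have hp5 : 5 ≤ p := le_trans hr5 (Nat.lt_succ_iff.1 (hmax r hr hrd))
    obtain ⟨d, hd, hdlt, hge⟩ := h p hp5
    obtain ⟨a, ha⟩ := IsPGroup.iff_card.1 Q.isPGroup'
    -- elements with large primes are exactly those of `Q`
    have hQmem : ∀ x ∈ (Q : Subgroup H), AllPrimesGe p (orderOf x) := by
      intro x hx q hq hqd
      obtain ⟨i, hi⟩ := IsPGroup.iff_orderOf.1 Q.isPGroup' ⟨x, hx⟩
      rw [Subgroup.orderOf_mk] at hi
      rw [hi] at hqd
      exact ((Nat.prime_dvd_prime_iff_eq hq hpp).1 (hq.dvd_of_dvd_pow hqd)).ge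
    have hsetcard : Nat.card {g : H // AllPrimesGe p (orderOf g)} ≤ Nat.card ↥(Q : Subgroup H) := by
      obtain ⟨b, hb⟩ : ∃ b, Nat.card {g : H // AllPrimesGe p (orderOf g)} = p ^ b := by
        refine ⟨_, Nat.eq_prime_pow_of_unique_prime_dvd ?_ fun {q} hq hqd => ?_⟩
        · intro h0
          rw [h0, zero_mul] at hd
          exact Nat.card_pos.ne hd
        · have h1 := hge q hq hqd
          have h2 := hmax q hq (hqd.trans (Dvd.intro _ hd))
          omega
      rw [hb]
      refine Nat.le_of_dvd Nat.card_pos (Q.pow_dvd_card_of_pow_dvd_card ?_)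
      exact hb ▸ Dvd.intro _ hd
    let j : ↥(Q : Subgroup H) → {g : H // AllPrimesGe p (orderOf g)} :=
      fun x => ⟨x.1, hQmem _ x.2⟩
    have hj : Function.Injective j := fun x y hxy => Subtype.ext (by simpa [j] using hxy)
    have hbij := (Nat.bijective_iff_injective_and_card j).2
      ⟨hj, le_antisymm (Nat.card_le_card_of_injective j hj) hsetcard⟩
    have hmem : ∀ x : H, AllPrimesGe p (orderOf x) → x ∈ (Q : Subgroup H) := by
      intro x hx
      obtain ⟨q, hq⟩ := hbij.2 ⟨x, hx⟩
      have : q.1 = x := congrArg Subtype.val hq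
      exact this ▸ q.2
    haveI hQn : (Q : Subgroup H).Normal := ⟨fun x hx g => hmem _ (by
      rw [← MulAut.conj_apply, MulEquiv.orderOf_eq]; exact hQmem x hx)⟩
    haveI : Group.IsSolvable ↥(Q : Subgroup H) := by
      haveI : Group.IsNilpotent ↥(Q : Subgroup H) := Q.isPGroup'.isNilpotent
      infer_instance
    have hQ1 : 1 < Nat.card ↥(Q : Subgroup H) :=
      lt_of_lt_of_le hpp.one_lt (Nat.le_of_dvd Nat.card_pos (Q.dvd_card_of_dvd_card hpd))
    have hcard : Nat.card (H ⧸ (Q : Subgroup H)) < n := by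
      rw [← hn, Subgroup.card_eq_card_quotient_mul_card_subgroup (Q : Subgroup H)]
      exact lt_mul_of_one_lt_right Nat.card_pos hQ1
    have hquot : HasUpperCountsFive (H ⧸ (Q : Subgroup H)) := by
      intro k hk5
      by_cases hk : k ≤ p
      · obtain ⟨d', hd', hd'lt, hge'⟩ := h k hk5
        have hQk : AllPrimesGe k (Nat.card ↥(Q : Subgroup H)) := by
          intro q hq hqd
          rw [ha] at hqd
          exact ((Nat.prime_dvd_prime_iff_eq hq hpp).1 (hq.dvd_of_dvd_pow hqd)) ▸ hk
        have hiff : ∀ x : H, AllPrimesGe k (orderOf (x : H ⧸ (Q : Subgroup H))) ↔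
            AllPrimesGe k (orderOf x) := by
          intro x
          refine ⟨fun hx => ?_, fun hx => hx.dvd (orderOf_map_dvd (QuotientGroup.mk' _) x)⟩
          set o := orderOf (x : H ⧸ (Q : Subgroup H)) with ho
          have h6 : x ^ o ∈ (Q : Subgroup H) := by
            rw [← QuotientGroup.eq_one_iff, QuotientGroup.mk_pow, ho, pow_orderOf_eq_one]
          have h7 : orderOf x ∣ o * Nat.card ↥(Q : Subgroup H) := by
            rw [orderOf_dvd_iff_pow_eq_one, pow_mul]
            exact congrArg Subtype.val (pow_card_eq_one' (x := (⟨_, h6⟩ : ↥(Q : Subgroup H))))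
          exact (hx.mul hQk).dvd h7
        have hc : Nat.card {g : H // AllPrimesGe k (orderOf g)} = Nat.card ↥(Q : Subgroup H) *
            Nat.card {g : H ⧸ (Q : Subgroup H) // AllPrimesGe k (orderOf g)} := by
          have := QuotientGroup.card_preimage_mk (Q : Subgroup H)
            {g : H ⧸ (Q : Subgroup H) | AllPrimesGe k (orderOf g)}
          refine Eq.trans (Nat.card_congr (Equiv.subtypeEquivRight fun x => ?_)) this
          exact (hiff x).symm
        refine ⟨d', ?_, hd'lt, hge'.dvd ⟨_, by rw [hc, mul_comm]⟩⟩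
        apply Nat.eq_of_mul_eq_mul_left (Nat.card_pos (α := ↥(Q : Subgroup H)))
        rw [← mul_assoc, ← hc, hd', mul_comm]
        exact Subgroup.card_eq_card_quotient_mul_card_subgroup _
      · push_neg at hk
        have hlt : AllPrimesLt k (Nat.card (H ⧸ (Q : Subgroup H))) := fun q hq hqd =>
          lt_of_le_of_lt (Nat.lt_succ_iff.1 (hmax q hq (hqd.trans (Subgroup.card_quotient_dvd_card (Q : Subgroup H))))) hk
        haveI : Unique {g : H ⧸ (Q : Subgroup H) // AllPrimesGe k (orderOf g)} :=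
          ⟨⟨⟨1, fun q hq hqd => by
              rw [orderOf_one, Nat.dvd_one] at hqd; exact absurd hqd hq.ne_one⟩⟩,
            fun g => Subtype.ext (orderOf_eq_one_iff.1
              (eq_one_of_ge_of_lt g.2 (hlt.dvd (orderOf_dvd_natCard _))))⟩
        exact ⟨_, by rw [Nat.card_unique, one_mul], hlt, by
          rw [Nat.card_unique]; exact fun q hq hqd => absurd (Nat.dvd_one.1 hqd) hq.ne_one⟩
    haveI : Group.IsSolvable (H ⧸ (Q : Subgroup H)) := ih _ hcard _ rfl hquot
    exact Group.isSolvable_of_ker_le_range (Q : Subgroup H).subtype (QuotientGroup.mk' (Q : Subgroup H))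
      (by rw [QuotientGroup.ker_mk', Subgroup.range_subtype])

/-- A group with the counts of a solvable group with cyclic odd Sylow subgroups and unique
involutions in the Sylow `2`-subgroups is solvable. -/
theorem isSolvable_of_same_counts [Group.IsSolvable X] (h : CyclicOddUniqueTwo X) {G : Type*}
    [Group G] [Finite G] (e : G ≃ X) (he : ∀ g, orderOf (e g) = orderOf g) : Group.IsSolvable G := by
  refine isSolvable_of_hasUpperCountsFive _ G rfl fun k hk => ?_
  obtain ⟨d, h1, h2, h3⟩ := h.hasUpperCountsFive k hk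
  have hc : Nat.card {g : G // AllPrimesGe k (orderOf g)} = Nat.card {g : X // AllPrimesGe k (orderOf g)} :=
    Nat.card_congr (e.subtypeEquiv fun g => by rw [he g])
  exact ⟨d, by rw [hc, h1, Nat.card_congr e], h2, hc ▸ h3⟩

end CfsgLib.FgsSix
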