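import Mathlib

/-!
# Regular graphs with exactly one common neighbour for every pair of vertices
-/

namespace CfsgLib.FgsSix

/-- A finite `k`-regular symmetric irreflexive relation with `3 ≤ k` in which any two distinct
points have exactly one common neighbour does not exist. -/
theorem no_regular_unique_common {V : Type*} [Finite V] [Nonempty V] (r : V → V → Prop)
    (hirr : ∀ v, ¬ r v v) (hsymm : ∀ v w, r v w → r w v) (k : ℕ) (hk3 : 3 ≤ k)
    (hk : ∀ v, Nat.card {w // r v w} = k)
    (hcom : ∀ v w, v ≠ w → Nat.card {x // r v x ∧ r x w} = 1) : False := by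
  classical
  have := Fintype.ofFinite V
  obtain ⟨s, hs, hsd⟩ := Nat.exists_prime_and_dvd (n := k - 1) (by omega)
  have := Fact.mk hs
  have hk1 : (k : ZMod s) = 1 := by
    have h := (ZMod.natCast_eq_zero_iff (k - 1) s).2 hsd
    rwa [Nat.cast_sub (by omega), Nat.cast_one, sub_eq_zero] at h
  let A : Matrix V V (ZMod s) := Matrix.of fun v w => if r v w then 1 else 0
  let J : Matrix V V (ZMod s) := Matrix.of fun _ _ => 1
  have hrow : ∀ v, ∑ w, A v w = 1 := fun v => by
    simp only [A, Matrix.of_apply, Finset.sum_boole]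
    rw [← Fintype.card_subtype, ← Nat.card_eq_fintype_card, hk, hk1]
  have hAA : A * A = J := by
    ext v w
    simp only [Matrix.mul_apply, A, J, Matrix.of_apply, ite_mul, one_mul, zero_mul, ← ite_and,
      Finset.sum_boole]
    rw [← Fintype.card_subtype, ← Nat.card_eq_fintype_card]
    rcases eq_or_ne v w with rfl | hne
    · have e : Nat.card {x // r v x ∧ r x v} = Nat.card {x // r v x} :=
        Nat.card_congr (Equiv.subtypeEquivRight fun x => ⟨And.left, fun h => ⟨h, hsymm _ _ h⟩⟩)
      rw [e, hk, hk1]
    · rw [hcom v w hne, Nat.cast_one]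
  have hAJ : A * J = J := by
    ext v w
    simpa [Matrix.mul_apply, J] using hrow v
  have hn : (Fintype.card V : ZMod s) = 1 := by
    obtain ⟨v⟩ := ‹Nonempty V›
    have h1 : ∑ w, (A * A) v w = (Fintype.card V : ZMod s) := by simp [hAA, J]
    rw [← h1]
    simp only [Matrix.mul_apply]
    rw [Finset.sum_comm]
    simp only [← Finset.mul_sum, hrow, mul_one]
  have hpow : ∀ j : ℕ, A ^ (j + 2) = J := by
    intro j
    induction j with
    | zero => rw [pow_two, hAA]
    | succ j ih => rw [pow_succ', ih, hAJ]
  have ht := ZMod.trace_pow_card A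
  obtain ⟨j, hj⟩ : ∃ j, s = j + 2 := ⟨s - 2, by have := hs.two_le; omega⟩
  have hzero : A.trace = 0 := by
    simp [A, Matrix.trace, Matrix.diag, hirr]
  rw [hzero, zero_pow hs.ne_zero] at ht
  have h2 : A ^ s = J := by subst hj; exact hpow j
  rw [h2] at ht
  simp [J, Matrix.trace, Matrix.diag, hn] at ht

end CfsgLib.FgsSix
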