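import Mathlib

/-! Automorphisms of order prime to `p` of a cyclic `p`-group. -/

namespace CfsgLib.FgsSix

variable {G : Type*} [Group G] [Finite G] {p : ℕ} [hp : Fact p.Prime]

/-- An element normalizing a cyclic Sylow `p`-subgroup and centralizing a non-identity element of it
centralizes all of it. -/
theorem centralizes_of_normalizes_cyclic_sylow (P : Sylow p G) (hcyc : IsCyclic ↥(P : Subgroup G))
    {g : G} (hg : g ∈ Subgroup.normalizer ((P : Subgroup G) : Set G))
    {x : G} (hx : x ∈ (P : Subgroup G)) (hx1 : x ≠ 1) (hgx : g * x = x * g) :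
    g ∈ Subgroup.centralizer ((P : Subgroup G) : Set G) := by
  obtain ⟨⟨c, hc⟩, hgen⟩ := hcyc.exists_generator
  have hgen' : ∀ r ∈ (P : Subgroup G), r ∈ Subgroup.zpowers c := by
    intro r hr
    obtain ⟨m, hm⟩ := Subgroup.mem_zpowers_iff.1 (hgen ⟨r, hr⟩)
    exact ⟨m, by simpa using congrArg Subtype.val hm⟩
  obtain ⟨k, hk⟩ := IsPGroup.iff_orderOf.1 P.isPGroup' ⟨c, hc⟩
  rw [Subgroup.orderOf_mk] at hk
  obtain ⟨j, rfl⟩ := Subgroup.mem_zpowers_iff.1 (hgen' x hx)
  obtain ⟨i, hi⟩ := Subgroup.mem_zpowers_iff.1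
    (hgen' _ ((Subgroup.mem_normalizer_iff.1 hg c).1 hc))
  have hconj : g * c ^ j * g⁻¹ = c ^ (i * j) := by
    rw [← conj_zpow, ← hi, ← zpow_mul]
  have hfix : c ^ (i * j) = c ^ j := by rw [← hconj, hgx, mul_inv_cancel_right]
  rw [zpow_eq_zpow_iff_modEq, hk] at hfix
  have hp' : (p : ℤ) ∣ i - 1 := by
    rcases Nat.eq_zero_or_pos k with hk0 | hk0
    · exfalso
      apply hx1
      rw [hk0, pow_zero] at hk
      rw [orderOf_eq_one_iff.1 hk, one_zpow]
    · by_contra hnd
      apply hx1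
      have h2 : ((p ^ k : ℕ) : ℤ) ∣ j * (i - 1) := by
        have := Int.ModEq.dvd hfix.symm
        rwa [mul_sub, mul_one, mul_comm j i]
      have hcop : IsCoprime (((p ^ k : ℕ) : ℤ)) (i - 1) := by
        push_cast
        exact ((Nat.prime_iff_prime_int.1 hp.out).coprime_iff_not_dvd.2 hnd).pow_left
      rw [← orderOf_dvd_iff_zpow_eq_one, hk]
      exact hcop.dvd_of_dvd_mul_right h2
  have hit : ∀ m : ℕ, g ^ m * c * (g ^ m)⁻¹ = c ^ (i ^ m) := by
    intro m
    induction m with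
    | zero => simp
    | succ m ih =>
      calc g ^ (m + 1) * c * (g ^ (m + 1))⁻¹ = g * (g ^ m * c * (g ^ m)⁻¹) * g⁻¹ := by
            rw [pow_succ']; group
        _ = c ^ (i ^ (m + 1)) := by rw [ih, ← conj_zpow, ← hi, ← zpow_mul, pow_succ']
  have hg1 : g ^ (p ^ k) * c = c * g ^ (p ^ k) := by
    have h1 : c ^ (i ^ (p ^ k)) = c ^ (1 : ℤ) := by
      rw [zpow_eq_zpow_iff_modEq, hk]
      refine (Int.modEq_iff_dvd.2 ?_).symm
      have h := dvd_sub_pow_of_dvd_sub (R := ℤ) (a := i) (b := 1) hp' k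
      rw [one_pow] at h
      exact dvd_trans (by push_cast; exact pow_dvd_pow _ (Nat.le_succ k)) h
    rw [← mul_inv_eq_iff_eq_mul, hit, h1, zpow_one]
  -- split off the part of `g` of order prime to `p`
  have hgc : g * c = c * g := by
    obtain ⟨e, m, hm, he⟩ := Nat.exists_eq_pow_mul_and_not_dvd (orderOf_pos g).ne' p hp.out.ne_one
    have hgm : g ^ m ∈ (P : Subgroup G) := by
      have hord : orderOf (g ^ m) ∣ p ^ e := by
        rw [orderOf_dvd_iff_pow_eq_one, ← pow_mul, mul_comm, ← he, pow_orderOf_eq_one]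
      have hz : IsPGroup p ↥(Subgroup.zpowers (g ^ m)) :=
        IsPGroup.of_card_dvd_pow (by rwa [Nat.card_zpowers])
      have hle : Subgroup.zpowers (g ^ m) ≤ Subgroup.normalizer ((P : Subgroup G) : Set G) :=
        Subgroup.zpowers_le.2 (Subgroup.pow_mem _ hg m)
      have h1 := hz.to_sup_of_normal_right' P.isPGroup' hle
      exact (le_sup_left.trans (P.is_maximal' h1 le_sup_right).le) (Subgroup.mem_zpowers _)
    have h1 : Commute (g ^ m) c := by
      obtain ⟨t, ht⟩ := Subgroup.mem_zpowers_iff.1 (hgen' _ hgm)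
      exact ht ▸ (Commute.zpow_self c t)
    have hcop : Nat.Coprime (p ^ k) m :=
      Nat.Coprime.pow_left _ ((Nat.Prime.coprime_iff_not_dvd hp.out).2 hm)
    have hb : g ^ ((p ^ k : ℕ) * Nat.gcdA (p ^ k) m + (m : ℕ) * Nat.gcdB (p ^ k) m : ℤ) = g := by
      rw [← Nat.gcd_eq_gcd_ab, hcop.gcd_eq_one, Nat.cast_one, zpow_one]
    rw [← hb, zpow_add, zpow_mul, zpow_mul, zpow_natCast, zpow_natCast]
    exact ((Commute.zpow_left (show Commute (g ^ p ^ k) c from hg1) _).mul_left (h1.zpow_left _))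
  intro r hr
  obtain ⟨t, rfl⟩ := Subgroup.mem_zpowers_iff.1 (hgen' r hr)
  exact ((show Commute g c from hgc).zpow_right t).symm.eq

end CfsgLib.FgsSix
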