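import Mathlib

/-!
# Derived length of `p`-groups: permutation bound and iterated wreath products
-/

open scoped commutatorElement

namespace CfsgLib.FgsSix

variable {G : Type*} [Group G]

/-- If `H` contains the derived subgroup, its derived series dominates that of `G` shifted by one. -/
theorem derivedSeries_succ_le_map {H : Subgroup G} (hH : commutator G ≤ H) (k : ℕ) :
    derivedSeries G (k + 1) ≤ (derivedSeries ↥H k).map H.subtype := by
  induction k with
  | zero => simpa [derivedSeries_one, commutator_def, ← MonoidHom.range_eq_map] using hH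
  | succ k ih =>
    rw [derivedSeries_succ G (k + 1), derivedSeries_succ ↥H k, Subgroup.map_commutator]
    exact Subgroup.commutator_mono ih ih

/-- The derived series of a subgroup inside the derived subgroup lies deeper by one. -/
theorem map_derivedSeries_le_succ {H : Subgroup G} (hH : H ≤ commutator G) (k : ℕ) :
    (derivedSeries ↥H k).map H.subtype ≤ derivedSeries G (k + 1) := by
  induction k with
  | zero => simpa [derivedSeries_one, commutator_def, ← MonoidHom.range_eq_map] using hH
  | succ k ih =>
    rw [derivedSeries_succ G (k + 1), derivedSeries_succ ↥H k, Subgroup.map_commutator]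
    exact Subgroup.commutator_mono ih ih

/-- In a `p`-group, a subgroup of index at most `p ^ k` contains the `k`-th derived subgroup. -/
theorem derivedSeries_le_of_index_le {p : ℕ} [Fact p.Prime] (k : ℕ) :
    ∀ {P : Type*} [Group P] [Finite P], IsPGroup p P → ∀ S : Subgroup P, S.index ≤ p ^ k →
      derivedSeries P k ≤ S := by
  induction k with
  | zero =>
    intro P _ _ _ S hS
    rw [pow_zero] at hS
    have h1 : S.index = 1 := le_antisymm hS (Nat.one_le_iff_ne_zero.2 Subgroup.index_ne_zero_of_finite)
    rw [Subgroup.index_eq_one.1 h1]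
    exact le_top
  | succ k ih =>
    intro P _ _ hP S hS
    have hp : p.Prime := Fact.out
    rcases eq_or_ne S ⊤ with rfl | hne
    · exact le_top
    obtain ⟨m, hm⟩ := IsPGroup.iff_card.1 hP
    obtain ⟨c, hc⟩ := IsPGroup.iff_card.1 (hP.to_subgroup S)
    have hcm : c < m := by
      refine (Nat.pow_lt_pow_iff_right hp.one_lt).1 ?_
      rw [← hm, ← hc]
      exact lt_of_le_of_ne (Subgroup.card_le_card_group S) fun e => hne ((Subgroup.card_eq_iff_eq_top S).1 e)
    obtain ⟨M, hMc, hSM⟩ := Sylow.exists_subgroup_card_pow_prime_le p (m := m - 1) (n := c)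
      (hm ▸ pow_dvd_pow p (Nat.sub_le m 1)) S hc (by omega)
    have hidx : M.index = p := by
      have h := Subgroup.card_mul_index M
      rw [hMc, hm, show p ^ m = p ^ (m - 1) * p by rw [← pow_succ]; congr 1; omega] at h
      exact Nat.eq_of_mul_eq_mul_left (pow_pos hp.pos _) h
    have : M.Normal := Subgroup.normal_of_index_eq_minFac_card
      (by rw [hidx, hm, hp.pow_minFac (by omega)])
    have hcomm : commutator P ≤ M := by
      have : IsCyclic (P ⧸ M) := isCyclic_of_prime_card (p := p) hidx
      exact (Subgroup.Normal.quotient_commutative_iff_commutator_le (N := M)).1 IsCyclic.isMulCommutative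
    refine (derivedSeries_succ_le_map hcomm k).trans ?_
    refine (Subgroup.map_mono (ih (hP.to_subgroup M) (S.subgroupOf M) ?_)).trans ?_
    · have h := Subgroup.relIndex_mul_index hSM
      rw [hidx] at h
      have : S.relIndex M * p ≤ p ^ k * p := by rw [h, ← pow_succ]; exact hS
      exact Nat.le_of_mul_le_mul_right this (Fact.out : p.Prime).pos
    · rintro _ ⟨x, hx, rfl⟩
      exact hx

/-- A `p`-group acting faithfully on at most `n` points has derived length at most `log p n`. -/
theorem derivedSeries_log_eq_bot {p : ℕ} [Fact p.Prime] {P : Type*} [Group P] [Finite P]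
    (hP : IsPGroup p P) {Ω : Type*} [Finite Ω] [MulAction P Ω] [FaithfulSMul P Ω] :
    derivedSeries P (Nat.log p (Nat.card Ω)) = ⊥ := by
  rw [eq_bot_iff]
  intro g hg
  refine Subgroup.mem_bot.2 (FaithfulSMul.eq_of_smul_eq_smul (α := Ω) fun x => ?_)
  rw [one_smul]
  have : Nonempty Ω := ⟨x⟩
  have hle : (MulAction.stabilizer P x).index ≤ Nat.card Ω := by
    rw [MulAction.index_stabilizer]
    exact Set.ncard_le_card _
  obtain ⟨j, hj⟩ := hP.index (MulAction.stabilizer P x)
  have hjn : j ≤ Nat.log p (Nat.card Ω) :=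
    Nat.le_log_of_pow_le (Fact.out : p.Prime).one_lt (hj ▸ hle)
  exact derivedSeries_le_of_index_le _ hP (MulAction.stabilizer P x)
    (hj ▸ Nat.pow_le_pow_right (Fact.out : p.Prime).pos hjn) hg

/-- A wreath product has derived length exceeding that of its base factor. -/
theorem derivedSeries_wreath_ne_bot {D Q : Type*} [Group D] [Group Q] [Nontrivial Q] {i : ℕ}
    (h : derivedSeries D i ≠ ⊥) : derivedSeries (D ≀ᵣ Q) (i + 1) ≠ ⊥ := by
  classical
  obtain ⟨q, hq⟩ := exists_ne (1 : Q)
  let B : Subgroup (D ≀ᵣ Q) := (RegularWreathProduct.rightHom (D := D) (Q := Q)).ker ⊓ commutator (D ≀ᵣ Q)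
  let φ : ↥B →* D :=
    { toFun := fun b => (b : D ≀ᵣ Q).left 1
      map_one' := rfl
      map_mul' := fun a b => by
        have ha : (a : D ≀ᵣ Q).right = 1 := a.2.1
        simp [ha] }
  have hφ : Function.Surjective φ := by
    intro d
    let w : D ≀ᵣ Q := ⟨Pi.mulSingle 1 d, 1⟩
    refine ⟨⟨⁅w, RegularWreathProduct.inl q⁆, ?_,
      Subgroup.commutator_mem_commutator (Subgroup.mem_top _) (Subgroup.mem_top _)⟩, ?_⟩
    · show (⁅w, RegularWreathProduct.inl q⁆ : D ≀ᵣ Q).right = 1
      simp [commutatorElement_def, w]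
    · show (⁅w, RegularWreathProduct.inl q⁆ : D ≀ᵣ Q).left 1 = d
      simp [commutatorElement_def, w, hq]
  intro hbot
  refine h ?_
  rw [← map_derivedSeries_eq hφ]
  have h1 := map_derivedSeries_le_succ (H := B) inf_le_right i
  rw [hbot, le_bot_iff, Subgroup.map_eq_bot_iff, Subgroup.ker_subtype, le_bot_iff] at h1
  rw [h1, Subgroup.map_bot]

/-- The iterated wreath product of a nontrivial group has derived length at least its height. -/
theorem derivedSeries_iteratedWreath_ne_bot (G : Type*) [Group G] [Nontrivial G] :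
    ∀ j : ℕ, derivedSeries (IteratedWreathProduct G (j + 1)) j ≠ ⊥
  | 0 => by
    obtain ⟨g, hg⟩ := exists_ne (1 : G)
    rw [derivedSeries_zero]
    intro h
    have hm : (RegularWreathProduct.inl g : IteratedWreathProduct G 0 ≀ᵣ G) ∈
        (⊤ : Subgroup (IteratedWreathProduct G 0 ≀ᵣ G)) := Subgroup.mem_top _
    have h' : (⊤ : Subgroup (IteratedWreathProduct G 0 ≀ᵣ G)) = ⊥ := h
    rw [h', Subgroup.mem_bot] at hm
    exact hg (congrArg RegularWreathProduct.right hm)
  | j + 1 => derivedSeries_wreath_ne_bot (D := IteratedWreathProduct G (j + 1)) (Q := G)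
      (derivedSeries_iteratedWreath_ne_bot G j)

/-- A `p`-group embedded in a group gives a lower bound on the derived length of Sylow subgroups. -/
theorem derivedSeries_sylow_ne_bot {p : ℕ} [Fact p.Prime] [Finite G] (P : Sylow p G) {W : Type*} [Group W]
    (hW : IsPGroup p W) {f : W →* G} (hf : Function.Injective f) {i : ℕ}
    (h : derivedSeries W i ≠ ⊥) : derivedSeries ↥(P : Subgroup G) i ≠ ⊥ := by
  have hr : IsPGroup p ↥f.range := hW.of_surjective f.rangeRestrict f.rangeRestrict_surjective
  obtain ⟨Q, hQ⟩ := hr.exists_le_sylow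
  let g : W →* ↥(P : Subgroup G) :=
    (Q.equiv P).toMonoidHom.comp (f.codRestrict (Q : Subgroup G) fun w => hQ ⟨w, rfl⟩)
  have hg : Function.Injective g := (Q.equiv P).injective.comp fun a b hab => hf (congrArg Subtype.val hab)
  intro hbot
  have h1 := map_derivedSeries_le_derivedSeries g i
  rw [hbot, le_bot_iff, Subgroup.map_eq_bot_iff, g.ker_eq_bot_iff.2 hg, le_bot_iff] at h1
  exact h h1

end CfsgLib.FgsSix
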