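import Mathlib
import Cfsg.Agent.FpfClass.AssociatedLie

/-!
# Orders of the derived subgroups of a `p`-group

Mann's bound `n ≥ 2 ^ k + 2 * k - 2` for a group of order `p ^ n` and derived length above `k`.
-/

set_option autoImplicit false

namespace CfsgLib.FgsSix.DerivedOrder

open CfsgLib.FpfClass
open scoped commutatorElement

variable {P : Type*} [Group P]

/-- Iterated commutators with the whole group. -/
def chain (N : Subgroup P) : ℕ → Subgroup P
  | 0 => N
  | l + 1 => ⁅chain N l, (⊤ : Subgroup P)⁆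

theorem chain_normal (N : Subgroup P) [N.Normal] : ∀ l, (chain N l).Normal
  | 0 => inferInstanceAs N.Normal
  | l + 1 => by
    have := chain_normal N l
    exact Subgroup.commutator_normal _ _

theorem chain_comm (N : Subgroup P) (l : ℕ) : chain ⁅N, (⊤ : Subgroup P)⁆ l = chain N (l + 1) := by
  induction l with
  | zero => rfl
  | succ l ih =>
    show ⁅chain ⁅N, (⊤ : Subgroup P)⁆ l, (⊤ : Subgroup P)⁆ = _
    rw [ih]
    rfl

theorem commutator_gam_le_chain :
    ∀ (a : ℕ) (N : Subgroup P) [N.Normal], ⁅N, gam P a⁆ ≤ chain N (a + 1) := by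
  intro a
  induction a with
  | zero => intro N _; exact le_rfl
  | succ a ih =>
    intro N _
    haveI := chain_normal N (a + 1 + 1)
    have key : ∀ M : Subgroup P, M.map (QuotientGroup.mk' (chain N (a + 1 + 1))) = ⊥ ↔
        M ≤ chain N (a + 1 + 1) := fun M => by
      rw [Subgroup.map_eq_bot_iff, QuotientGroup.ker_mk']
    have h1 : ⁅⁅(⊤ : Subgroup P), N⁆, gam P a⁆ ≤ chain N (a + 1 + 1) := by
      rw [Subgroup.commutator_comm ⊤ N]
      exact (ih ⁅N, (⊤ : Subgroup P)⁆).trans (le_of_eq (chain_comm N (a + 1)))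
    have h2 : ⁅⁅N, gam P a⁆, (⊤ : Subgroup P)⁆ ≤ chain N (a + 1 + 1) :=
      Subgroup.commutator_mono (ih N) le_rfl
    show ⁅N, ⁅gam P a, (⊤ : Subgroup P)⁆⁆ ≤ chain N (a + 1 + 1)
    rw [Subgroup.commutator_comm]
    rw [← key] at h1 h2 ⊢
    rw [Subgroup.map_commutator, Subgroup.map_commutator] at h1 h2 ⊢
    exact Subgroup.commutator_commutator_eq_bot_of_rotate h1 h2

/-- Commutators of subgroups generated modulo a normal subgroup by commuting elements. -/
theorem commutator_closure_le {M : Subgroup P} [M.Normal] (S : Set P)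
    (h : ∀ x ∈ S, ∀ y ∈ S, ⁅x, y⁆ ∈ M) : ⁅Subgroup.closure S, Subgroup.closure S⁆ ≤ M := by
  set f := QuotientGroup.mk' M with hf
  rw [← QuotientGroup.ker_mk' M, ← hf, ← Subgroup.map_eq_bot_iff, Subgroup.map_commutator,
    Subgroup.commutator_eq_bot_iff_le_centralizer, MonoidHom.map_closure, Subgroup.centralizer_closure,
    Subgroup.closure_le]
  rintro _ ⟨x, hx, rfl⟩
  refine Subgroup.mem_centralizer_iff.2 ?_
  rintro _ ⟨y, hy, rfl⟩
  refine commutatorElement_eq_one_iff_mul_comm.1 ?_
  rw [← map_commutatorElement, ← MonoidHom.mem_ker, hf, QuotientGroup.ker_mk']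
  exact h y hy x hx

theorem card_mul_relIndex_chain {A B : Subgroup P} (h : A ≤ B) :
    Nat.card A * A.relIndex B = Nat.card B := by
  rw [← Nat.card_congr (Subgroup.subgroupOfEquivOfLe h).toEquiv]
  exact Subgroup.card_mul_index _

variable [Finite P] {p : ℕ} [Fact p.Prime]

theorem card_lt_step (hP : IsPGroup p P) {A B : Subgroup P} (h : A < B) :
    p * Nat.card A ≤ Nat.card B := by
  have hp := (Fact.out : p.Prime)
  obtain ⟨s, hs⟩ := IsPGroup.iff_card.1 (hP.to_subgroup A)
  obtain ⟨t, ht⟩ := IsPGroup.iff_card.1 (hP.to_subgroup B)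
  have hlt : Nat.card A < Nat.card B := by
    by_contra hle
    exact h.ne (Subgroup.eq_of_le_of_card_ge h.le (not_lt.1 hle))
  rw [hs, ht] at hlt
  have hst := (Nat.pow_lt_pow_iff_right hp.one_lt).1 hlt
  rw [hs, ht, ← pow_succ']
  exact Nat.pow_le_pow_right hp.pos hst

theorem chain_lt (hP : IsPGroup p P) (N : Subgroup P) [N.Normal] {l : ℕ} (h : chain N l ≠ ⊥) :
    chain N (l + 1) < chain N l := by
  haveI := chain_normal N l
  refine lt_of_le_of_ne (Subgroup.commutator_le_left _ _) fun he => h ?_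
  have key : ∀ j, chain N l ≤ gam P j := by
    intro j
    induction j with
    | zero => exact le_top
    | succ j ih => exact he.symm.le.trans (Subgroup.commutator_mono ih le_rfl)
  haveI : Group.IsNilpotent P := hP.isNilpotent
  obtain ⟨c, hc⟩ := Subgroup.nilpotent_iff_lowerCentralSeries.mp (inferInstance : Group.IsNilpotent P)
  exact le_bot_iff.mp (hc ▸ key c)

theorem chain_anti (N : Subgroup P) [N.Normal] : Antitone (chain N) :=
  antitone_nat_of_succ_le fun l => by
    haveI := chain_normal N l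
    exact Subgroup.commutator_le_left _ _

theorem card_chain (hP : IsPGroup p P) (N : Subgroup P) [N.Normal] :
    ∀ l s : ℕ, chain N (s + l) ≠ ⊥ → p ^ l * Nat.card (chain N (s + l)) ≤ Nat.card (chain N s) := by
  intro l
  induction l with
  | zero => intro s _; simp
  | succ l ih =>
    intro s h
    have h' : chain N (s + l) ≠ ⊥ := fun e => h (le_bot_iff.1 (e ▸ chain_anti N (by omega)))
    calc p ^ (l + 1) * Nat.card (chain N (s + (l + 1)))
        = p ^ l * (p * Nat.card (chain N (s + l + 1))) := by rw [pow_succ, mul_assoc]; rfl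
      _ ≤ p ^ l * Nat.card (chain N (s + l)) := Nat.mul_le_mul_left _ (card_lt_step hP (chain_lt hP N h'))
      _ ≤ Nat.card (chain N s) := ih s h'

/-- Hall's bound on the first derived factor of a normal subgroup inside `gam a`, and the structure
of the subgroup when the bound is attained. -/
theorem hall_step (hP : IsPGroup p P) (N : Subgroup P) [N.Normal] {a : ℕ} (hN : N ≤ gam P a)
    (hne : ⁅N, N⁆ ≠ ⊥) :
    p ^ (a + 2) * Nat.card ↥(⁅N, N⁆) ≤ Nat.card N ∧
      (p ^ (a + 3) * Nat.card ↥(⁅N, N⁆) ≤ Nat.card N ∨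
        ∃ x ∈ N, ∃ y ∈ N, N ≤ Subgroup.closure ({x, y} ∪ (chain N 1 : Set P))) := by
  have hp := (Fact.out : p.Prime)
  have hle : ⁅N, N⁆ ≤ chain N (a + 1) :=
    (Subgroup.commutator_mono le_rfl hN).trans (commutator_gam_le_chain a N)
  have hca : chain N (a + 1) ≠ ⊥ := fun e => hne (le_bot_iff.1 (e ▸ hle))
  have hc1 : chain N 1 ≠ ⊥ := fun e => hca (le_bot_iff.1 (e ▸ chain_anti N (by omega)))
  have hN0 : N ≠ ⊥ := fun e => hc1 (le_bot_iff.1 ((chain_anti N (Nat.zero_le 1)).trans e.le))
  have h1 := card_chain hP N a 1 (by rwa [Nat.add_comm 1 a])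
  rw [Nat.add_comm 1 a] at h1
  have h0 : p * Nat.card (chain N 1) ≤ Nat.card N := card_lt_step hP (chain_lt hP N (l := 0) hN0)
  haveI := chain_normal N 1
  haveI := chain_normal N (a + 2)
  have key : ∀ x ∈ N, ¬ N ≤ Subgroup.closure ({x} ∪ (chain N 1 : Set P)) ∨
      ⁅N, N⁆ < chain N (a + 1) := by
    intro x hx
    by_contra hcon
    push Not at hcon
    obtain ⟨hcl, hnlt⟩ := hcon
    have heq : ⁅N, N⁆ = chain N (a + 1) := hle.eq_of_not_lt hnlt
    have hsub : ∀ u ∈ N, ∀ v ∈ chain N 1, ⁅v, u⁆ ∈ chain N (a + 2) := by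
      intro u hu v hv
      have hh := commutator_gam_le_chain a (chain N 1)
        (Subgroup.commutator_mem_commutator hv (hN hu))
      rwa [show chain N 1 = ⁅N, (⊤ : Subgroup P)⁆ from rfl, chain_comm] at hh
    have h3 : ⁅N, N⁆ ≤ chain N (a + 2) := by
      refine (Subgroup.commutator_mono hcl hcl).trans (commutator_closure_le _ ?_)
      have hc1N : chain N 1 ≤ N := chain_anti N (Nat.zero_le 1)
      rintro u (rfl | hu) v (rfl | hv)
      · rw [commutatorElement_self]; exact one_mem _
      · rw [← commutatorElement_inv]; exact inv_mem (hsub u hx v hv)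
      · exact hsub v hx u hu
      · exact hsub v (hc1N hv) u hu
    exact (lt_irrefl _) ((heq.symm.le.trans h3).trans_lt (chain_lt hP N hca))
  obtain ⟨x, hxN', hx1⟩ := SetLike.exists_of_lt (chain_lt hP N (l := 0) hN0)
  have hxN : x ∈ N := hxN'
  set J := Subgroup.closure ({x} ∪ (chain N 1 : Set P)) with hJ
  have hxJ : x ∈ J := Subgroup.subset_closure (Or.inl rfl)
  have hCJ : chain N 1 ≤ J := fun u hu => Subgroup.subset_closure (Or.inr hu)
  have hJN : J ≤ N := (Subgroup.closure_le _).2 (Set.union_subset (by simpa using hxN)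
    (chain_anti N (Nat.zero_le 1)))
  have hJ1 : p * Nat.card (chain N 1) ≤ Nat.card J :=
    card_lt_step hP (lt_of_le_of_ne hCJ fun e => hx1 (e ▸ hxJ))
  have hc' : Nat.card ↥(⁅N, N⁆) ≤ Nat.card (chain N (a + 1)) := Subgroup.card_le_of_le hle
  have e2 : p ^ (a + 2) = p * (p * p ^ a) := by ring
  have e3 : p ^ (a + 3) = p * (p * (p * p ^ a)) := by ring
  by_cases hJeq : N ≤ J
  · have h2 := card_lt_step hP ((key x hxN).resolve_left (not_not.2 hJeq))
    refine ⟨?_, Or.inr ⟨x, hxN, x, hxN, ?_⟩⟩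
    · calc p ^ (a + 2) * Nat.card ↥(⁅N, N⁆) = p * (p ^ a * (p * Nat.card ↥(⁅N, N⁆))) := by rw [e2]; ring
        _ ≤ p * (p ^ a * Nat.card (chain N (a + 1))) :=
            Nat.mul_le_mul_left _ (Nat.mul_le_mul_left _ h2)
        _ ≤ p * Nat.card (chain N 1) := Nat.mul_le_mul_left _ h1
        _ ≤ Nat.card N := h0
    · rwa [show ({x, x} : Set P) = {x} by simp, ← hJ]
  · have hJlt : J < N := lt_of_le_not_ge hJN hJeq
    obtain ⟨y, hyN, hyJ⟩ := SetLike.exists_of_lt hJlt
    have hJ2 := card_lt_step hP hJlt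
    have hbase : p * (p * (p ^ a * Nat.card ↥(⁅N, N⁆))) ≤ Nat.card N :=
      calc p * (p * (p ^ a * Nat.card ↥(⁅N, N⁆)))
          ≤ p * (p * (p ^ a * Nat.card (chain N (a + 1)))) :=
            Nat.mul_le_mul_left _ (Nat.mul_le_mul_left _ (Nat.mul_le_mul_left _ hc'))
        _ ≤ p * (p * Nat.card (chain N 1)) := Nat.mul_le_mul_left _ (Nat.mul_le_mul_left _ h1)
        _ ≤ p * Nat.card J := Nat.mul_le_mul_left _ hJ1
        _ ≤ Nat.card N := hJ2
    refine ⟨by rw [e2]; linarith [hbase], ?_⟩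
    set J' := Subgroup.closure ({x, y} ∪ (chain N 1 : Set P)) with hJ'
    by_cases hJ'eq : N ≤ J'
    · exact Or.inr ⟨x, hxN, y, hyN, hJ'eq⟩
    have hJJ' : J < J' := by
      refine lt_of_le_of_ne (Subgroup.closure_mono (Set.union_subset_union_left _ (by simp))) fun e => hyJ ?_
      rw [e]
      exact Subgroup.subset_closure (Or.inl (by simp))
    have hJ'N : J' < N := lt_of_le_not_ge ((Subgroup.closure_le _).2 (Set.union_subset
      (Set.insert_subset hxN (Set.singleton_subset_iff.2 hyN)) (chain_anti N (Nat.zero_le 1)))) hJ'eq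
    left
    calc p ^ (a + 3) * Nat.card ↥(⁅N, N⁆) = p * (p * (p * (p ^ a * Nat.card ↥(⁅N, N⁆)))) := by
          rw [e3]; ring
      _ ≤ p * (p * (p * (p ^ a * Nat.card (chain N (a + 1))))) :=
          Nat.mul_le_mul_left _ (Nat.mul_le_mul_left _ (Nat.mul_le_mul_left _ (Nat.mul_le_mul_left _ hc')))
      _ ≤ p * (p * (p * Nat.card (chain N 1))) :=
          Nat.mul_le_mul_left _ (Nat.mul_le_mul_left _ (Nat.mul_le_mul_left _ h1))
      _ ≤ p * (p * Nat.card J) := Nat.mul_le_mul_left _ (Nat.mul_le_mul_left _ hJ1)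
      _ ≤ p * Nat.card J' := Nat.mul_le_mul_left _ (card_lt_step hP hJJ')
      _ ≤ Nat.card N := card_lt_step hP hJ'N

/-- `N` is cyclic modulo `gam (a + 1)`. -/
def TopCyclic (N : Subgroup P) (a : ℕ) : Prop :=
  ∃ x ∈ gam P a, N ≤ Subgroup.closure ({x} ∪ (gam P (a + 1) : Set P))

omit [Finite P] in
/-- The commutator subgroup of a subgroup cyclic at the top lies one step deeper. -/
theorem TopCyclic.commutator_le {N : Subgroup P} {a : ℕ} (h : TopCyclic N a) :
    ⁅N, N⁆ ≤ gam P (2 * a + 2) := by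
  obtain ⟨x, hx, hN⟩ := h
  refine (Subgroup.commutator_mono hN hN).trans (commutator_closure_le _ ?_)
  rintro u (rfl | hu) v (rfl | hv)
  · rw [commutatorElement_self]; exact one_mem _
  · exact gam_anti (by omega) (commutator_mem_gam hx hv)
  · exact gam_anti (by omega) (commutator_mem_gam hu hx)
  · exact gam_anti (by omega) (commutator_mem_gam hu hv)

omit [Finite P] in
/-- The commutator subgroup of a subgroup two-generated at the top is cyclic at the top. -/
theorem topCyclic_commutator {N : Subgroup P} {a : ℕ} {x y : P} (hx : x ∈ gam P a) (hy : y ∈ gam P a)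
    (hN : N ≤ Subgroup.closure ({x, y} ∪ (gam P (a + 1) : Set P))) :
    TopCyclic ⁅N, N⁆ (2 * a + 1) := by
  have hc : ⁅x, y⁆ ∈ gam P (2 * a + 1) := gam_anti (by omega) (commutator_mem_gam hx hy)
  refine ⟨_, hc, ?_⟩
  set M := Subgroup.closure ({⁅x, y⁆} ∪ (gam P (2 * a + 1 + 1) : Set P)) with hM
  have hMg : M ≤ gam P (2 * a + 1) := (Subgroup.closure_le _).2
    (Set.union_subset (Set.singleton_subset_iff.2 hc) (gam_succ_le _))
  have hgM : gam P (2 * a + 1 + 1) ≤ M := fun u hu => Subgroup.subset_closure (Or.inr hu)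
  haveI : M.Normal := ⟨fun m hm g => by
    have h : ⁅g, m⁆ ∈ M := hgM (gam_anti (by omega)
      (commutator_mem_gam (i := 0) (by simp : g ∈ gam P 0) (hMg hm)))
    have h2 := mul_mem h hm
    rwa [commutatorElement_def, inv_mul_cancel_right] at h2⟩
  refine (Subgroup.commutator_mono hN hN).trans (commutator_closure_le _ ?_)
  have hxy : ⁅x, y⁆ ∈ M := Subgroup.subset_closure (Or.inl rfl)
  have hdeep : ∀ {u v : P}, u ∈ gam P (a + 1) → v ∈ gam P a → ⁅u, v⁆ ∈ M := fun hu hv =>
    hgM (gam_anti (by omega) (commutator_mem_gam hu hv))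
  have hdeep' : ∀ {u v : P}, u ∈ gam P a → v ∈ gam P (a + 1) → ⁅u, v⁆ ∈ M := fun hu hv =>
    hgM (gam_anti (by omega) (commutator_mem_gam hu hv))
  rintro u ((rfl | rfl) | hu) v ((rfl | rfl) | hv)
  · rw [commutatorElement_self]; exact one_mem _
  · exact hxy
  · exact hdeep' hx hv
  · rw [← commutatorElement_inv]; exact inv_mem hxy
  · rw [commutatorElement_self]; exact one_mem _
  · exact hdeep' hy hv
  · exact hdeep hu hx
  · exact hdeep hu hy
  · exact hdeep hu (gam_succ_le a hv)

theorem chain_one_le_gam {N : Subgroup P} {a : ℕ} (hN : N ≤ gam P a) : chain N 1 ≤ gam P (a + 1) :=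
  Subgroup.commutator_mono hN le_rfl

omit [Finite P] in
theorem derivedSeries_le_gam : ∀ i, derivedSeries P i ≤ gam P (2 ^ i - 1) := by
  intro i
  induction i with
  | zero => exact le_top
  | succ i ih =>
    refine (Subgroup.commutator_mono ih ih).trans ((commutator_gam_le _ _).trans (gam_anti ?_))
    have := Nat.one_le_two_pow (n := i)
    rw [pow_succ]
    omega

/-- The three lower bounds for the order of a derived subgroup. -/
theorem card_derived_bounds (hP : IsPGroup p P) {k : ℕ} (hk : derivedSeries P k ≠ ⊥) :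
    ∀ d i : ℕ, i + d + 1 = k → 1 ≤ i →
      (derivedSeries P i ≤ gam P (2 ^ i) →
        p ^ (2 ^ k + 2 * d + 3) ≤ Nat.card (derivedSeries P i) * p ^ 2 ^ i) ∧
      (TopCyclic (derivedSeries P i) (2 ^ i - 1) →
        p ^ (2 ^ k + 2 * d + 2) ≤ Nat.card (derivedSeries P i) * p ^ 2 ^ i) ∧
      p ^ (2 ^ k + 2 * d + 2) ≤ Nat.card (derivedSeries P i) * p ^ (2 ^ i + 1) := by
  have hp := (Fact.out : p.Prime)
  intro d
  induction d with
  | zero =>
    intro i hik hi
    have hk' : i + 1 = k := by omega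
    subst hk'
    haveI : (derivedSeries P i).Normal := derivedSeries_normal P i
    have h1 : p ≤ Nat.card (derivedSeries P (i + 1)) := by
      have := card_lt_step hP (bot_lt_iff_ne_bot.2 hk)
      rwa [Subgroup.card_bot, mul_one] at this
    have main : ∀ b, derivedSeries P i ≤ gam P b →
        p ^ (b + 3) ≤ Nat.card (derivedSeries P i) := fun b hb =>
      calc p ^ (b + 3) = p ^ (b + 2) * p := pow_succ _ _
        _ ≤ p ^ (b + 2) * Nat.card (derivedSeries P (i + 1)) := Nat.mul_le_mul_left _ h1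
        _ ≤ Nat.card (derivedSeries P i) := (hall_step hP _ hb hk).1
    have hb := main _ (derivedSeries_le_gam i)
    rw [show 2 ^ i - 1 + 3 = 2 ^ i + 2 by have := Nat.one_le_two_pow (n := i); omega] at hb
    have e : 2 ^ (i + 1) = 2 ^ i + 2 ^ i := by rw [pow_succ]; omega
    have hm := Nat.mul_le_mul_right (p ^ 2 ^ i) hb
    rw [← pow_add] at hm
    refine ⟨fun hg => ?_, fun _ => ?_, ?_⟩
    · refine le_of_eq_of_le ?_ (Nat.mul_le_mul_right (p ^ 2 ^ i) (main _ hg))
      rw [← pow_add]; congr 1; omega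
    · refine le_of_eq_of_le ?_ hm
      congr 1; omega
    · refine le_trans ?_ (Nat.mul_le_mul_left _ (Nat.pow_le_pow_right hp.pos (Nat.le_succ _)))
      refine le_of_eq_of_le ?_ hm
      congr 1; omega
  | succ d ih =>
    intro i hik hi
    obtain ⟨ihG, ihC, ihF⟩ := ih (i + 1) (by omega) (by omega)
    haveI : (derivedSeries P i).Normal := derivedSeries_normal P i
    have hne : derivedSeries P (i + 1) ≠ ⊥ := fun e => hk (le_bot_iff.1 (e ▸
      derivedSeries_antitone P (by omega : i + 1 ≤ k)))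
    have e : 2 ^ (i + 1) = 2 ^ i + 2 ^ i := by rw [pow_succ]; omega
    have hpos := Nat.one_le_two_pow (n := i)
    -- transfer a bound for the next derived subgroup
    have step : ∀ b s t u : ℕ, p ^ b * Nat.card (derivedSeries P (i + 1)) ≤ Nat.card (derivedSeries P i) →
        p ^ s ≤ Nat.card (derivedSeries P (i + 1)) * p ^ t → u + t ≤ b + s + 2 ^ i →
        p ^ u ≤ Nat.card (derivedSeries P i) * p ^ 2 ^ i := by
      intro b s t u h1 h2 h3
      refine Nat.le_of_mul_le_mul_right ?_ (pow_pos hp.pos t)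
      calc p ^ u * p ^ t ≤ p ^ (b + s + 2 ^ i) := by
            rw [← pow_add]; exact Nat.pow_le_pow_right hp.pos h3
        _ = p ^ b * p ^ s * p ^ 2 ^ i := by rw [pow_add, pow_add]
        _ ≤ p ^ b * (Nat.card (derivedSeries P (i + 1)) * p ^ t) * p ^ 2 ^ i :=
            Nat.mul_le_mul_right _ (Nat.mul_le_mul_left _ h2)
        _ = (p ^ b * Nat.card (derivedSeries P (i + 1))) * p ^ 2 ^ i * p ^ t := by ring
        _ ≤ Nat.card (derivedSeries P i) * p ^ 2 ^ i * p ^ t :=
            Nat.mul_le_mul_right _ (Nat.mul_le_mul_right _ h1)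
    refine ⟨fun hg => ?_, fun hc => ?_, ?_⟩
    · have h1 := (hall_step hP _ hg hne).1
      have h2 : derivedSeries P (i + 1) ≤ gam P (2 ^ (i + 1)) :=
        (Subgroup.commutator_mono hg hg).trans ((commutator_gam_le _ _).trans (gam_anti (by omega)))
      exact step _ _ _ _ h1 (ihG h2) (by omega)
    · have h1 := (hall_step hP _ (derivedSeries_le_gam i) hne).1
      have h2 : derivedSeries P (i + 1) ≤ gam P (2 ^ (i + 1)) :=
        hc.commutator_le.trans (gam_anti (by omega))
      exact step _ _ _ _ h1 (ihG h2) (by omega)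
    · obtain ⟨h1, h3 | ⟨x, hx, y, hy, hxy⟩⟩ := hall_step hP _ (derivedSeries_le_gam i) hne
      · have := step _ _ _ (2 ^ k + 2 * (d + 1) + 1) h3 ihF (by omega)
        rw [pow_succ p (2 ^ k + 2 * (d + 1) + 1), pow_succ p (2 ^ i), ← mul_assoc]
        exact Nat.mul_le_mul_right _ this
      · have hc : TopCyclic (derivedSeries P (i + 1)) (2 ^ (i + 1) - 1) := by
          rw [show 2 ^ (i + 1) - 1 = 2 * (2 ^ i - 1) + 1 by omega]
          exact topCyclic_commutator (derivedSeries_le_gam i hx) (derivedSeries_le_gam i hy)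
            (hxy.trans (Subgroup.closure_mono (Set.union_subset_union_right _
              (chain_one_le_gam (derivedSeries_le_gam i)))))
        have := step _ _ _ (2 ^ k + 2 * (d + 1) + 1) h1 (ihC hc) (by omega)
        rw [pow_succ p (2 ^ k + 2 * (d + 1) + 1), pow_succ p (2 ^ i), ← mul_assoc]
        exact Nat.mul_le_mul_right _ this

/-- Mann's bound. -/
theorem two_pow_add_le (hP : IsPGroup p P) {n k : ℕ} (hcard : Nat.card P = p ^ n)
    (hk : derivedSeries P k ≠ ⊥) : 2 ^ k + 2 * k ≤ n + 2 := by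
  have hp := (Fact.out : p.Prime)
  rcases k with _ | _ | k
  · simp
  · have h1 := (hall_step hP ⊤ (a := 0) le_top hk).1
    have h2 : p ≤ Nat.card (derivedSeries P 1) := by
      have := card_lt_step hP (bot_lt_iff_ne_bot.2 hk)
      rwa [Subgroup.card_bot, mul_one] at this
    have h3 : p ^ 3 ≤ p ^ n := by
      rw [← hcard, ← Nat.card_congr (Subgroup.topEquiv (G := P)).toEquiv]
      calc p ^ 3 = p ^ (0 + 2) * p := by ring
        _ ≤ _ := (Nat.mul_le_mul_left _ h2).trans h1
    have := (Nat.pow_le_pow_iff_right hp.one_lt).1 h3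
    omega
  · set K := k + 1 + 1 with hK
    have hne : derivedSeries P 1 ≠ ⊥ := fun e => hk (le_bot_iff.1 (e ▸
      derivedSeries_antitone P (by omega : 1 ≤ K)))
    obtain ⟨-, hC, hF⟩ := card_derived_bounds hP hk k 1 (by omega) le_rfl
    obtain ⟨h1, h2⟩ := hall_step hP (⊤ : Subgroup P) (a := 0) le_top hne
    have htop : Nat.card (⊤ : Subgroup P) = p ^ n := by
      rw [Nat.card_congr (Subgroup.topEquiv (G := P)).toEquiv, hcard]
    have h4 : p ^ (2 ^ K + 2 * k + 2) ≤ p ^ n := by
      rcases h2 with h2 | ⟨x, -, y, -, hxy⟩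
      · refine hF.trans ?_
        rw [← htop, mul_comm]
        exact le_of_eq_of_le (by rfl) h2
      · have hc : TopCyclic (derivedSeries P 1) (2 ^ 1 - 1) :=
          topCyclic_commutator (a := 0) (by simp) (by simp)
            (hxy.trans (Subgroup.closure_mono (Set.union_subset_union_right _ (chain_one_le_gam le_top))))
        refine (hC hc).trans ?_
        rw [← htop, mul_comm]
        exact le_of_eq_of_le (by rfl) h1
    have := (Nat.pow_le_pow_iff_right hp.one_lt).1 h4
    omega

end CfsgLib.FgsSix.DerivedOrder
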