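import Mathlib

/-! A Sylow subgroup which is a direct factor. -/

namespace CfsgLib.FgsSix

variable {G : Type*} [Group G] [Finite G] {p : ℕ} [hp : Fact p.Prime]

theorem mem_normal_sylow (P : Sylow p G) (hP : (P : Subgroup G).Normal) {x : G} {a : ℕ}
    (ha : orderOf x = p ^ a) : x ∈ (P : Subgroup G) := by
  haveI := hP
  have h : IsPGroup p ↥(Subgroup.zpowers x) := IsPGroup.of_card (by rw [Nat.card_zpowers, ha])
  have h2 : IsPGroup p ↥(Subgroup.zpowers x ⊔ (P : Subgroup G)) :=
    h.to_sup_of_normal_right P.isPGroup'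
  exact (le_sup_left.trans (P.is_maximal' h2 le_sup_right).le) (Subgroup.mem_zpowers x)

omit [Finite G] in
/-- An element of prime-to-`p` order lies in a normal subgroup with a `p`-group supplement. -/
theorem mem_complement (P : Sylow p G) (K : Subgroup G) (hK : K.Normal)
    (htop : (P : Subgroup G) ⊔ K = ⊤) {y : G}
    (hy : ∃ q b : ℕ, q.Prime ∧ q ≠ p ∧ orderOf y = q ^ b) : y ∈ K := by
  obtain ⟨q, b, hq, hqp, hb⟩ := hy
  have hy' : y ∈ (P : Subgroup G) ⊔ K := htop ▸ Subgroup.mem_top y
  obtain ⟨u, hu, v, hv, huv⟩ := Subgroup.mem_sup_of_normal_right.1 hy'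
  have h1 : QuotientGroup.mk' K y = QuotientGroup.mk' K u := by
    rw [← huv, map_mul, (QuotientGroup.eq_one_iff v).2 hv |> fun h => (show QuotientGroup.mk' K v = 1 from h),
      mul_one]
  obtain ⟨k, hk⟩ := IsPGroup.iff_orderOf.1 P.isPGroup' ⟨u, hu⟩
  rw [Subgroup.orderOf_mk] at hk
  have h2 : orderOf (QuotientGroup.mk' K y) = 1 := by
    have e1 := orderOf_map_dvd (QuotientGroup.mk' K) y
    have e2 := orderOf_map_dvd (QuotientGroup.mk' K) u
    rw [← h1, hk] at e2
    rw [hb] at e1
    exact Nat.eq_one_of_dvd_coprimes (Nat.coprime_pow_primes _ _ hq hp.out hqp) e1 e2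
  exact (QuotientGroup.eq_one_iff y).1 (orderOf_eq_one_iff.1 h2)

/-- Every element is in a subgroup containing all elements of prime power order. -/
theorem eq_top_of_prime_pow_mem (H : Subgroup G)
    (h : ∀ (q b : ℕ) (x : G), q.Prime → orderOf x = q ^ b → x ∈ H) : H = ⊤ := by
  rw [← Subgroup.card_eq_iff_eq_top]
  refine Nat.dvd_antisymm (Subgroup.card_subgroup_dvd_card H) ?_
  rw [← Nat.factorization_prime_le_iff_dvd Nat.card_pos.ne' Nat.card_pos.ne']
  intro q hq
  haveI : Fact q.Prime := ⟨hq⟩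
  obtain ⟨Q⟩ : Nonempty (Sylow q G) := inferInstance
  have hQ : (Q : Subgroup G) ≤ H := by
    intro x hx
    obtain ⟨b, hb⟩ := IsPGroup.iff_orderOf.1 Q.isPGroup' ⟨x, hx⟩
    rw [Subgroup.orderOf_mk] at hb
    exact h q b x hq hb
  have := Subgroup.card_dvd_of_le hQ
  rw [Q.card_eq_multiplicity] at this
  exact (hq.pow_dvd_iff_le_factorization Nat.card_pos.ne').1 this

theorem direct_factor_of_commute
    (h : ∀ x y : G, (∃ a : ℕ, orderOf x = p ^ a) → (∃ q b : ℕ, q.Prime ∧ q ≠ p ∧ orderOf y = q ^ b) →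
      x * y = y * x) :
    ∃ (P : Sylow p G) (K : Subgroup G), (P : Subgroup G).Normal ∧ K.Normal ∧
      (P : Subgroup G) ⊓ K = ⊥ ∧ (P : Subgroup G) ⊔ K = ⊤ := by
  obtain ⟨P⟩ : Nonempty (Sylow p G) := inferInstance
  have hcent : ∀ (q b : ℕ) (y : G), q.Prime → q ≠ p → orderOf y = q ^ b →
      y ∈ Subgroup.centralizer ((P : Subgroup G) : Set G) := by
    intro q b y hq hqp hy x hx
    obtain ⟨a, ha⟩ := IsPGroup.iff_orderOf.1 P.isPGroup' ⟨x, hx⟩
    rw [Subgroup.orderOf_mk] at ha
    exact h x y ⟨a, ha⟩ ⟨q, b, hq, hqp, hy⟩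
  -- all `p`-elements centralize every element of prime power order prime to `p`, and `P` is normal
  have hidx : Nat.Coprime (Nat.card ↥(P : Subgroup G)) (P : Subgroup G).index := P.card_coprime_index
  have hnorm : (P : Subgroup G).Normal := by
    rw [← Subgroup.normalizer_eq_top_iff]
    rw [← Subgroup.card_eq_iff_eq_top]
    refine Nat.dvd_antisymm (Subgroup.card_subgroup_dvd_card _) ?_
    rw [← Nat.factorization_prime_le_iff_dvd Nat.card_pos.ne' Nat.card_pos.ne']
    intro q hq
    haveI : Fact q.Prime := ⟨hq⟩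
    by_cases hqp : q = p
    · subst hqp
      have := Subgroup.card_dvd_of_le (Subgroup.le_normalizer (H := (P : Subgroup G)))
      rw [P.card_eq_multiplicity] at this
      exact (hq.pow_dvd_iff_le_factorization Nat.card_pos.ne').1 this
    · obtain ⟨Q⟩ : Nonempty (Sylow q G) := inferInstance
      have hQ : (Q : Subgroup G) ≤ Subgroup.normalizer ((P : Subgroup G) : Set G) := by
        intro x hx
        obtain ⟨b, hb⟩ := IsPGroup.iff_orderOf.1 Q.isPGroup' ⟨x, hx⟩
        rw [Subgroup.orderOf_mk] at hb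
        exact Subgroup.centralizer_le_normalizer _ (hcent q b x hq hqp hb)
      have := Subgroup.card_dvd_of_le hQ
      rw [Q.card_eq_multiplicity] at this
      exact (hq.pow_dvd_iff_le_factorization Nat.card_pos.ne').1 this
  haveI := hnorm
  obtain ⟨K, hK⟩ := Subgroup.exists_right_complement'_of_coprime hidx
  have hKc : K ≤ Subgroup.centralizer ((P : Subgroup G) : Set G) := by
    have hKp : (Nat.card ↥K).Coprime p := by
      rw [show Nat.card ↥K = (P : Subgroup G).index from (Subgroup.IsComplement'.index_eq_card hK.symm).symm]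
      exact ((Nat.Prime.coprime_iff_not_dvd hp.out).2 P.not_dvd_index).symm
    have htop : (Subgroup.centralizer ((P : Subgroup G) : Set G)).subgroupOf K = ⊤ := by
      refine eq_top_of_prime_pow_mem _ ?_
      intro q b x hq hx
      rw [Subgroup.mem_subgroupOf]
      rcases Nat.eq_zero_or_pos b with rfl | hb
      · rw [pow_zero, orderOf_eq_one_iff] at hx; subst hx; exact Subgroup.one_mem _
      · refine hcent q b x hq ?_ (by rw [Subgroup.orderOf_coe, hx])
        rintro rfl
        have hd : q ∣ Nat.card ↥K := (dvd_pow_self q hb.ne').trans (hx ▸ orderOf_dvd_natCard x)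
        exact (Nat.Prime.coprime_iff_not_dvd hq).1 hKp.symm hd
    exact Subgroup.subgroupOf_eq_top.1 htop
  refine ⟨P, K, hnorm, ?_, hK.disjoint.eq_bot, hK.sup_eq_top⟩
  rw [← Subgroup.normalizer_eq_top_iff, eq_top_iff, ← hK.sup_eq_top, sup_le_iff]
  refine ⟨?_, Subgroup.le_normalizer⟩
  intro x hx
  apply Subgroup.centralizer_le_normalizer
  intro k hk
  exact (hKc hk x hx).symm

end CfsgLib.FgsSix
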