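import Mathlib
import Cfsg.Agent.CharactersDeep.QuaternionSylow
import Cfsg.Agent.Solvable.Basic
import Cfsg.Agent.Solvable.SchurZassenhaus

/-!
# Conjugacy of subgroups of equal order in solvable groups with almost all Sylow subgroups cyclic
-/

namespace CfsgLib.FgsSix

open scoped Pointwise

universe u

/-- `H` and `K` are conjugate. -/
def ConjSub {G : Type*} [Group G] (H K : Subgroup G) : Prop := ∃ g : G, MulAut.conj g • H = K

variable {G : Type u} [Group G]

theorem ConjSub.trans {H K L : Subgroup G} (h : ConjSub H K) (h' : ConjSub K L) : ConjSub H L := by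
  obtain ⟨a, ha⟩ := h
  obtain ⟨b, hb⟩ := h'
  exact ⟨b * a, by rw [map_mul, mul_smul, ha, hb]⟩

theorem card_conj_smul (g : G) (H : Subgroup G) : Nat.card ↥(MulAut.conj g • H) = Nat.card ↥H :=
  Nat.card_congr (Subgroup.equivSMul (MulAut.conj g) H).toEquiv.symm

theorem conj_smul_normal (g : G) (N : Subgroup G) [N.Normal] : MulAut.conj g • N = N := by
  ext x
  rw [Subgroup.mem_pointwise_smul_iff_inv_smul_mem]
  constructor
  · intro h
    have h1 := (inferInstance : N.Normal).conj_mem _ h g
    simpa [MulAut.smul_def, mul_assoc] using h1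
  · intro h
    simpa [MulAut.smul_def] using (inferInstance : N.Normal).conj_mem _ h g⁻¹

/-- Conjugacy modulo a contained normal subgroup lifts. -/
theorem conjSub_of_map_conjSub {N : Subgroup G} [N.Normal] {H K : Subgroup G} (hH : N ≤ H)
    (hK : N ≤ K) (h : ConjSub (H.map (QuotientGroup.mk' N)) (K.map (QuotientGroup.mk' N))) :
    ConjSub H K := by
  obtain ⟨x, hx⟩ := h
  obtain ⟨g, rfl⟩ := QuotientGroup.mk'_surjective N x
  refine ⟨g, ?_⟩
  have h1 : (MulAut.conj g • H).map (QuotientGroup.mk' N) = K.map (QuotientGroup.mk' N) := by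
    rw [← hx]
    ext y
    constructor
    · rintro ⟨_, ⟨a, ha, rfl⟩, rfl⟩
      exact ⟨QuotientGroup.mk' N a, ⟨a, ha, rfl⟩, by simp⟩
    · rintro ⟨_, ⟨a, ha, rfl⟩, rfl⟩
      exact ⟨g * a * g⁻¹, ⟨a, ha, by simp⟩, by simp⟩
  have hgN : N ≤ MulAut.conj g • H := by
    rw [← conj_smul_normal g N]
    exact Subgroup.pointwise_smul_le_pointwise_smul_iff.2 hH
  have e := congrArg (Subgroup.comap (QuotientGroup.mk' N)) h1
  rwa [Subgroup.comap_map_eq_self (by rwa [QuotientGroup.ker_mk']),
    Subgroup.comap_map_eq_self (by rwa [QuotientGroup.ker_mk'])] at e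

variable [Finite G]

/-- The Sylow subgroups for the primes other than `r` are cyclic. -/
def CyclicAwayFrom (G : Type*) [Group G] (r : ℕ) : Prop :=
  ∀ p : ℕ, p.Prime → p ≠ r → ∀ P : Sylow p G, IsCyclic ↥(P : Subgroup G)

theorem CyclicAwayFrom.subgroup {r : ℕ} (h : CyclicAwayFrom G r) (M : Subgroup G) :
    CyclicAwayFrom ↥M r := by
  intro p hp hpr P
  haveI := Fact.mk hp
  obtain ⟨Q, hQ⟩ := (P.isPGroup'.map M.subtype).exists_le_sylow
  haveI := h p hp hpr Q
  haveI : IsCyclic ↥((P : Subgroup ↥M).map M.subtype) :=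
    isCyclic_of_injective (Subgroup.inclusion hQ) (Subgroup.inclusion_injective hQ)
  exact isCyclic_of_injective ((P : Subgroup ↥M).equivMapOfInjective M.subtype M.subtype_injective).toMonoidHom
    (MulEquiv.injective _)

theorem CyclicAwayFrom.quotient {r : ℕ} (h : CyclicAwayFrom G r) (N : Subgroup G) [N.Normal] :
    CyclicAwayFrom (G ⧸ N) r := by
  intro p hp hpr Q
  haveI := Fact.mk hp
  obtain ⟨R, rfl⟩ := Sylow.mapSurjective_surjective (QuotientGroup.mk'_surjective N) p Q
  haveI := h p hp hpr R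
  exact isCyclic_of_surjective ((QuotientGroup.mk' N).subgroupMap (R : Subgroup G))
    (MonoidHom.subgroupMap_surjective _ _)

/-- A normal subgroup with a cyclic Sylow condition is the only subgroup of its prime order. -/
theorem CyclicAwayFrom.prime_normal {r : ℕ} (h : CyclicAwayFrom G r) {p : ℕ} (hp : p.Prime)
    (hpr : p ≠ r) (N : Subgroup G) [N.Normal] (hNe : N ≠ ⊥) (hN : ∀ x ∈ N, x ^ p = 1) :
    Nat.card ↥N = p ∧ ∀ H : Subgroup G, p ∣ Nat.card ↥H → N ≤ H := by
  haveI := Fact.mk hp
  have hNp : IsPGroup p ↥N := fun x => ⟨1, Subtype.ext (by simpa using hN x x.2)⟩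
  obtain ⟨v, hv, hv1⟩ : ∃ v ∈ N, v ≠ 1 := N.bot_or_exists_ne_one.resolve_left hNe
  have hvo : orderOf v = p := orderOf_eq_prime (hN v hv) hv1
  obtain ⟨P₀, hP₀⟩ := hNp.exists_le_sylow
  haveI := h p hp hpr P₀
  haveI : IsCyclic ↥N := isCyclic_of_injective (Subgroup.inclusion hP₀) (Subgroup.inclusion_injective hP₀)
  have hc : Nat.card ↥N = p := by
    refine Nat.dvd_antisymm ?_ (hvo ▸ Subgroup.orderOf_dvd_natCard N hv)
    obtain ⟨g, hg⟩ := IsCyclic.exists_generator (α := ↥N)
    rw [← orderOf_eq_card_of_forall_mem_zpowers hg, orderOf_dvd_iff_pow_eq_one]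
    exact Subtype.ext (by simpa using hN g g.2)
  refine ⟨hc, fun H hH => ?_⟩
  obtain ⟨x, hx⟩ := exists_prime_orderOf_dvd_card' (G := ↥H) p hH
  have hxG : orderOf (x : G) = p := (Subgroup.orderOf_coe x).trans hx
  obtain ⟨P, hP⟩ := (IsPGroup.of_card (n := 1) (by rw [Nat.card_zpowers, hxG, pow_one]) :
    IsPGroup p ↥(Subgroup.zpowers (x : G))).exists_le_sylow
  have hNP : N ≤ P := hNp.le_sylow_of_normal P
  haveI := h p hp hpr P
  have key : ∀ A B : Subgroup G, A ≤ P → B ≤ P → Nat.card ↥A = p → Nat.card ↥B = p → A = B := by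
    intro A B hA hB hAc hBc
    have e : A.subgroupOf P = B.subgroupOf P := CfsgLib.CharactersDeep.QuaternionSylow.eq_of_card_eq
      (by rw [Nat.card_congr (Subgroup.subgroupOfEquivOfLe hA).toEquiv,
        Nat.card_congr (Subgroup.subgroupOfEquivOfLe hB).toEquiv, hAc, hBc])
    rw [← Subgroup.map_subgroupOf_eq_of_le hA, e, Subgroup.map_subgroupOf_eq_of_le hB]
  have e := key N (Subgroup.zpowers (x : G)) hNP hP hc (by rw [Nat.card_zpowers, hxG])
  rw [e]
  exact Subgroup.zpowers_le.2 x.2

theorem card_map_mk_of_disjoint {N : Subgroup G} [N.Normal] {H : Subgroup G} (h : Disjoint H N) :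
    Nat.card ↥(H.map (QuotientGroup.mk' N)) = Nat.card ↥H := by
  refine (Nat.card_congr (Equiv.ofBijective _ ⟨?_, MonoidHom.subgroupMap_surjective (QuotientGroup.mk' N) H⟩)).symm
  rw [injective_iff_map_eq_one]
  intro x hx
  have h1 : (x : G) ∈ N := (QuotientGroup.eq_one_iff _).1 (congrArg Subtype.val hx)
  exact Subtype.ext (Subgroup.mem_bot.1 (h.eq_bot ▸ (⟨x.2, h1⟩ : (x : G) ∈ H ⊓ N)))

theorem card_map_mk_mul {N : Subgroup G} [N.Normal] {H : Subgroup G} (h : N ≤ H) :
    Nat.card ↥(H.map (QuotientGroup.mk' N)) * Nat.card ↥N = Nat.card ↥H := by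
  have e := QuotientGroup.card_preimage_mk N (H.map (QuotientGroup.mk' N) : Set (G ⧸ N))
  have h1 : (QuotientGroup.mk ⁻¹' (H.map (QuotientGroup.mk' N) : Set (G ⧸ N))) = (H : Set G) := by
    have h2 := Subgroup.comap_map_eq_self (f := QuotientGroup.mk' N) (H := H)
      (by rwa [QuotientGroup.ker_mk'])
    exact congrArg SetLike.coe h2
  rw [h1] at e
  rw [mul_comm]
  exact e.symm

/-- Subgroups of order prime to that of `N` with conjugate images modulo `N` are conjugate. -/
theorem conjSub_of_conj_map {N : Subgroup G} [N.Normal] [Group.IsSolvable ↥N] {H K : Subgroup G}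
    (hcop : ∀ X : Subgroup G, Nat.card ↥X = Nat.card ↥H → (Nat.card ↥N).Coprime (Nat.card ↥X))
    {x : G ⧸ N} (hx : MulAut.conj x • H.map (QuotientGroup.mk' N) = K.map (QuotientGroup.mk' N))
    (hHK : Nat.card ↥H = Nat.card ↥K) : ConjSub H K := by
  have hdis : ∀ X : Subgroup G, Nat.card ↥X = Nat.card ↥H → Disjoint X N := fun X hX =>
    Subgroup.disjoint_of_coprime_natCard (hcop X hX).symm
  obtain ⟨g, rfl⟩ := QuotientGroup.mk'_surjective N x
  set H' := MulAut.conj g • H with hH'
  have hH'c : Nat.card ↥H' = Nat.card ↥H := card_conj_smul g H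
  have hmap : H'.map (QuotientGroup.mk' N) = K.map (QuotientGroup.mk' N) := by
    rw [← hx]
    ext y
    constructor
    · rintro ⟨_, ⟨a, ha, rfl⟩, rfl⟩
      exact ⟨QuotientGroup.mk' N a, ⟨a, ha, rfl⟩, by simp⟩
    · rintro ⟨_, ⟨a, ha, rfl⟩, rfl⟩
      exact ⟨g * a * g⁻¹, ⟨a, ha, by simp⟩, by simp⟩
  set L := H' ⊔ N with hL
  have hLK : L = K ⊔ N := by
    have e := congrArg (Subgroup.comap (QuotientGroup.mk' N)) hmap
    rwa [Subgroup.comap_map_eq, Subgroup.comap_map_eq, QuotientGroup.ker_mk'] at e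
  have hH'L : H' ≤ L := le_sup_left
  have hKL : K ≤ L := hLK ▸ le_sup_left
  have hNL : N ≤ L := le_sup_right
  have hidx : (N.subgroupOf L).index = Nat.card ↥H := by
    have e1 := card_map_mk_mul (H := L) hNL
    have e2 : L.map (QuotientGroup.mk' N) = H'.map (QuotientGroup.mk' N) := by
      rw [hL, Subgroup.map_sup, (Subgroup.map_eq_bot_iff _).2 (QuotientGroup.ker_mk' N).ge, sup_bot_eq]
    rw [e2, card_map_mk_of_disjoint (hdis H' hH'c), hH'c] at e1
    have e3 := Subgroup.card_mul_index (N.subgroupOf L)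
    rw [Nat.card_congr (Subgroup.subgroupOfEquivOfLe hNL).toEquiv, ← e1, mul_comm (Nat.card ↥H)] at e3
    exact Nat.eq_of_mul_eq_mul_left Nat.card_pos e3
  haveI : (N.subgroupOf L).Normal := Subgroup.normal_subgroupOf
  obtain ⟨m, -, hm⟩ := CfsgLib.Solvable.exists_conj_eq_of_card (N := N.subgroupOf L)
    (H := H'.subgroupOf L) (K := K.subgroupOf L)
    (by rw [hidx, Nat.card_congr (Subgroup.subgroupOfEquivOfLe hNL).toEquiv]; exact hcop H rfl)
    (by rw [hidx, Nat.card_congr (Subgroup.subgroupOfEquivOfLe hH'L).toEquiv, hH'c])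
    (by rw [hidx, Nat.card_congr (Subgroup.subgroupOfEquivOfLe hKL).toEquiv, hHK])
    (Or.inl (Group.isSolvable_of_isSolvable_injective
      (f := (Subgroup.subgroupOfEquivOfLe hNL).toMonoidHom) (Subgroup.subgroupOfEquivOfLe hNL).injective))
  refine ConjSub.trans ⟨g, rfl⟩ ⟨(m : G), ?_⟩
  have e := congrArg (Subgroup.map L.subtype) hm
  rw [Subgroup.map_subgroupOf_eq_of_le hKL] at e
  rw [← e, ← hH']
  ext y
  constructor
  · rintro ⟨a, ha, rfl⟩
    exact ⟨m * ⟨a, hH'L ha⟩ * m⁻¹, ⟨⟨a, hH'L ha⟩, ha, by simp⟩, by simp⟩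
  · rintro ⟨_, ⟨a, ha, rfl⟩, rfl⟩
    exact ⟨(a : G), ha, by simp⟩

/-- Subgroups of the same order prime to `r` are conjugate. -/
theorem conjSub_of_card_eq (n : ℕ) : ∀ (G : Type u) [Group G] [Finite G], Nat.card G = n →
    Group.IsSolvable G → ∀ r : ℕ, CyclicAwayFrom G r → ∀ H K : Subgroup G,
      ¬ (r.Prime ∧ r ∣ Nat.card ↥H) → Nat.card ↥H = Nat.card ↥K → ConjSub H K := by
  induction n using Nat.strong_induction_on with
  | _ n ih =>
    intro G _ _ hn hsolv r hcyc H K hr hHK
    rcases subsingleton_or_nontrivial G with hG | hG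
    · exact ⟨1, Subsingleton.elim _ _⟩
    haveI := hsolv
    obtain ⟨N, hN, hN1, hmin⟩ := CfsgLib.Solvable.exists_minimal_normal (G := G)
    haveI := hN
    haveI : Group.IsSolvable ↥N := inferInstance
    obtain ⟨p, hp, hpow⟩ := CfsgLib.Solvable.exists_prime_pow_eq_one_of_minimal_normal hN1 hmin
    haveI := Fact.mk hp
    have hpow' : ∀ x ∈ N, x ^ p = 1 := hpow
    have hNp : IsPGroup p ↥N := fun x => ⟨1, Subtype.ext (by simpa using hpow x x.2)⟩
    have hlt : Nat.card (G ⧸ N) < n := by
      rw [← hn, Subgroup.card_eq_card_quotient_mul_card_subgroup N]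
      exact lt_mul_of_one_lt_right Nat.card_pos ((Subgroup.one_lt_card_iff_ne_bot N).2 hN1)
    by_cases hd : p ∣ Nat.card ↥H
    · have hpr : p ≠ r := fun e => hr ⟨e ▸ hp, e ▸ hd⟩
      obtain ⟨hNc, hNle⟩ := hcyc.prime_normal hp hpr N hN1 hpow'
      have hH := hNle H hd
      have hK := hNle K (hHK ▸ hd)
      refine conjSub_of_map_conjSub hH hK (ih _ hlt (G ⧸ N) rfl inferInstance r (hcyc.quotient N) _ _ ?_ ?_)
      · rintro ⟨hrp, hrd⟩
        exact hr ⟨hrp, hrd.trans (card_map_mk_mul hH ▸ dvd_mul_right _ _)⟩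
      · have h1 := card_map_mk_mul hH
        have h2 := card_map_mk_mul hK
        rw [hHK, ← h2] at h1
        exact Nat.eq_of_mul_eq_mul_right Nat.card_pos h1
    · obtain ⟨k, hk⟩ := IsPGroup.iff_card.1 hNp
      have hcop : ∀ X : Subgroup G, Nat.card ↥X = Nat.card ↥H → (Nat.card ↥N).Coprime (Nat.card ↥X) := by
        intro X hX
        rw [hk, hX]
        exact Nat.Coprime.pow_left _ (hp.coprime_iff_not_dvd.2 hd)
      have hdis : ∀ X : Subgroup G, Nat.card ↥X = Nat.card ↥H → Disjoint X N := fun X hX =>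
        Subgroup.disjoint_of_coprime_natCard (hcop X hX).symm
      obtain ⟨x, hx⟩ := ih _ hlt (G ⧸ N) rfl inferInstance r (hcyc.quotient N)
        (H.map (QuotientGroup.mk' N)) (K.map (QuotientGroup.mk' N))
        (by rw [card_map_mk_of_disjoint (hdis H rfl)]; exact hr)
        (by rw [card_map_mk_of_disjoint (hdis H rfl), card_map_mk_of_disjoint (hdis K hHK.symm), hHK])
      exact conjSub_of_conj_map hcop hx hHK

/-- Subgroups of the same order are conjugate if in addition conjugacy holds for `r`-subgroups. -/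
theorem conjSub_of_card_eq_all (n : ℕ) : ∀ (G : Type u) [Group G] [Finite G], Nat.card G = n →
    Group.IsSolvable G → ∀ r : ℕ, CyclicAwayFrom G r →
      (r.Prime → ∀ A B : Subgroup G, IsPGroup r ↥A → IsPGroup r ↥B → Nat.card ↥A = Nat.card ↥B →
        ConjSub A B) →
      ∀ H K : Subgroup G, Nat.card ↥H = Nat.card ↥K → ConjSub H K := by
  induction n using Nat.strong_induction_on with
  | _ n ih =>
    intro G _ _ hn hsolv r hcyc hD H K hHK
    by_cases hr : r.Prime ∧ r ∣ Nat.card ↥H
    swap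
    · exact conjSub_of_card_eq _ G rfl hsolv r hcyc H K hr hHK
    obtain ⟨hrp, hrH⟩ := hr
    haveI := Fact.mk hrp
    haveI := hsolv
    rcases subsingleton_or_nontrivial G with hG | hG
    · exact ⟨1, Subsingleton.elim _ _⟩
    obtain ⟨N, hN, hN1, hmin⟩ := CfsgLib.Solvable.exists_minimal_normal (G := G)
    haveI := hN
    haveI : Group.IsSolvable ↥N := inferInstance
    obtain ⟨p, hp, hpow⟩ := CfsgLib.Solvable.exists_prime_pow_eq_one_of_minimal_normal hN1 hmin
    haveI := Fact.mk hp
    have hpow' : ∀ x ∈ N, x ^ p = 1 := hpow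
    have hNp : IsPGroup p ↥N := fun x => ⟨1, Subtype.ext (by simpa using hpow x x.2)⟩
    have hlt : Nat.card (G ⧸ N) < n := by
      rw [← hn, Subgroup.card_eq_card_quotient_mul_card_subgroup N]
      exact lt_mul_of_one_lt_right Nat.card_pos ((Subgroup.one_lt_card_iff_ne_bot N).2 hN1)
    -- conjugacy of `r`-subgroups passes to the quotient
    have hDQ : r.Prime → ∀ A B : Subgroup (G ⧸ N), IsPGroup r ↥A → IsPGroup r ↥B →
        Nat.card ↥A = Nat.card ↥B → ConjSub A B := by
      intro _ A B hA hB hAB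
      have hpre : ∀ X : Subgroup (G ⧸ N), IsPGroup r ↥X → ∃ Y : Subgroup G, IsPGroup r ↥Y ∧
          Y.map (QuotientGroup.mk' N) = X ∧
          Nat.card ↥Y = r ^ (Nat.card ↥(X.comap (QuotientGroup.mk' N))).factorization r := by
        intro X hX
        set f := (QuotientGroup.mk' N).subgroupComap X with hf
        have hfs : Function.Surjective f :=
          (QuotientGroup.mk' N).subgroupComap_surjective_of_surjective X (QuotientGroup.mk'_surjective N)
        obtain ⟨S⟩ : Nonempty (Sylow r ↥(X.comap (QuotientGroup.mk' N))) := inferInstance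
        refine ⟨(S : Subgroup ↥(X.comap (QuotientGroup.mk' N))).map (X.comap (QuotientGroup.mk' N)).subtype,
          S.isPGroup'.map _, ?_, ?_⟩
        · have hXtop : (S.mapSurjective hfs : Subgroup ↥X) = ⊤ := by
            have := (S.mapSurjective hfs).is_maximal' (Q := ⊤) (hX.to_subgroup ⊤) le_top
            exact this.symm
          have e := congrArg (Subgroup.map X.subtype) hXtop
          rw [Sylow.coe_mapSurjective, Subgroup.map_map, ← MonoidHom.range_eq_map, Subgroup.range_subtype] at e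
          rw [Subgroup.map_map]
          exact e
        · rw [Subgroup.card_subtype, S.card_eq_multiplicity]
      obtain ⟨A', hA', hA'm, hA'c⟩ := hpre A hA
      obtain ⟨B', hB', hB'm, hB'c⟩ := hpre B hB
      have hcard : Nat.card ↥(A.comap (QuotientGroup.mk' N)) = Nat.card ↥(B.comap (QuotientGroup.mk' N)) := by
        have e1 := QuotientGroup.card_preimage_mk N (A : Set (G ⧸ N))
        have e2 := QuotientGroup.card_preimage_mk N (B : Set (G ⧸ N))
        exact e1.trans (Eq.trans (by rw [show Nat.card ↥(A : Set (G ⧸ N)) = Nat.card ↥(B : Set (G ⧸ N)) from hAB]) e2.symm)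
      obtain ⟨g, hg⟩ := hD hrp A' B' hA' hB' (by rw [hA'c, hB'c, hcard])
      refine ⟨QuotientGroup.mk' N g, ?_⟩
      rw [← hA'm, ← hB'm, ← hg]
      ext y
      constructor
      · rintro ⟨_, ⟨a, ha, rfl⟩, rfl⟩
        exact ⟨g * a * g⁻¹, ⟨a, ha, by simp⟩, by simp⟩
      · rintro ⟨_, ⟨a, ha, rfl⟩, rfl⟩
        exact ⟨QuotientGroup.mk' N a, ⟨a, ha, rfl⟩, by simp⟩
    have hlift : N ≤ H → N ≤ K → ConjSub H K := by
      intro hH hK
      refine conjSub_of_map_conjSub hH hK (ih _ hlt (G ⧸ N) rfl inferInstance r (hcyc.quotient N) hDQ _ _ ?_)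
      have h1 := card_map_mk_mul hH
      have h2 := card_map_mk_mul hK
      rw [hHK, ← h2] at h1
      exact Nat.eq_of_mul_eq_mul_right Nat.card_pos h1
    by_cases hpr : p = r
    · subst hpr
      obtain ⟨k, hk⟩ := IsPGroup.iff_card.1 hNp
      have huniq : ∀ A : Subgroup G, IsPGroup p ↥A → Nat.card ↥A = p ^ k → A = N := by
        intro A hA hAc
        obtain ⟨g, hg⟩ := hD hrp N A hNp hA (hk.trans hAc.symm)
        rw [← hg, conj_smul_normal]
      have hbig : ∀ X : Subgroup G, p ^ k ∣ Nat.card ↥X → N ≤ X := by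
        intro X hX
        obtain ⟨Y, hY⟩ := Sylow.exists_subgroup_card_pow_prime p hX
        have e := huniq (Y.map X.subtype) ((IsPGroup.of_card hY).map _) (by rw [Subgroup.card_subtype, hY])
        rw [← e]
        exact Subgroup.map_subtype_le _
      by_cases hbk : p ^ k ∣ Nat.card ↥H
      · exact hlift (hbig H hbk) (hbig K (hHK ▸ hbk))
      -- the Sylow subgroup of `H` lies in `N`
      have hsmall : ∀ X : Subgroup G, Nat.card ↥X = Nat.card ↥H →
          (Nat.card ↥(X ⊓ N : Subgroup G)) = p ^ (Nat.card ↥H).factorization p := by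
        intro X hX
        obtain ⟨S⟩ : Nonempty (Sylow p ↥X) := inferInstance
        set j := (Nat.card ↥H).factorization p with hj
        have hSc : Nat.card ↥((S : Subgroup ↥X).map X.subtype) = p ^ j := by
          rw [Subgroup.card_subtype, S.card_eq_multiplicity, hX]
        have hjk : j ≤ k := by
          by_contra hlt'
          exact hbk ((pow_dvd_pow p (by omega)).trans (Nat.ordProj_dvd _ p))
        obtain ⟨Y, hY⟩ := Sylow.exists_subgroup_card_pow_prime p (G := ↥N) (n := j)
          (hk ▸ pow_dvd_pow p hjk)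
        obtain ⟨g, hg⟩ := hD hrp (Y.map N.subtype) ((S : Subgroup ↥X).map X.subtype)
          ((IsPGroup.of_card hY).map _) (S.isPGroup'.map _) (by rw [Subgroup.card_subtype, hY, hSc])
        have hSN : (S : Subgroup ↥X).map X.subtype ≤ N := by
          rw [← hg]
          exact (Subgroup.pointwise_smul_le_pointwise_smul_iff.2 (Subgroup.map_subtype_le _)).trans
            (conj_smul_normal g N).le
        have hle : (S : Subgroup ↥X).map X.subtype ≤ X ⊓ N := le_inf (Subgroup.map_subtype_le _) hSN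
        refine Nat.dvd_antisymm ?_ (hSc ▸ Subgroup.card_dvd_of_le hle)
        obtain ⟨l, hl⟩ := IsPGroup.iff_card.1 (hNp.to_le (inf_le_right : X ⊓ N ≤ N))
        rw [hl]
        refine pow_dvd_pow p ?_
        rw [hj, ← hX]
        exact (hrp.pow_dvd_iff_le_factorization Nat.card_pos.ne').1
          (hl ▸ Subgroup.card_dvd_of_le inf_le_left)
      set R := H ⊓ N with hR
      set S := K ⊓ N with hS
      obtain ⟨g, hg⟩ := hD hrp R S (hNp.to_le inf_le_right) (hNp.to_le inf_le_right)
        ((hsmall H rfl).trans (hsmall K hHK.symm).symm)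
      set H' := MulAut.conj g • H with hH'
      have hH'c : Nat.card ↥H' = Nat.card ↥H := card_conj_smul g H
      have hH'S : H' ⊓ N = S := by
        rw [← hg, hR, Subgroup.smul_inf, conj_smul_normal g N, hH']
      -- complements of `S`
      have hcompl : ∀ X : Subgroup G, Nat.card ↥X = Nat.card ↥H → X ⊓ N = S →
          ∃ A : Subgroup G, A ≤ Subgroup.normalizer (S : Set G) ∧ S ⊔ A = X ∧
            Nat.card ↥A * Nat.card ↥S = Nat.card ↥H ∧ ¬ p ∣ Nat.card ↥A := by
        intro X hX hXS
        haveI : (N.subgroupOf X).Normal := Subgroup.normal_subgroupOf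
        have hNX : Nat.card ↥(N.subgroupOf X) = Nat.card ↥S := by
          rw [← hXS, ← Subgroup.card_subtype X, Subgroup.subgroupOf_map_subtype, inf_comm]
        have hm := Subgroup.card_mul_index (N.subgroupOf X)
        rw [hNX, hX] at hm
        have hScard : Nat.card ↥S = p ^ (Nat.card ↥H).factorization p := hsmall K hHK.symm
        have hnd : ¬ p ∣ (N.subgroupOf X).index := by
          intro hd
          apply Nat.pow_succ_factorization_not_dvd (Nat.card_pos (α := ↥H)).ne' hrp
          rw [pow_succ, ← hScard, ← hm]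
          exact Nat.mul_dvd_mul_left _ hd
        obtain ⟨A, hA⟩ := Subgroup.exists_right_complement'_of_coprime (N := N.subgroupOf X)
          (by rw [hNX, hScard]; exact Nat.Coprime.pow_left _ (hrp.coprime_iff_not_dvd.2 hnd))
        have hsup : S ⊔ A.map X.subtype = X := by
          have e := congrArg (Subgroup.map X.subtype) hA.sup_eq_top
          rwa [Subgroup.map_sup, ← MonoidHom.range_eq_map, Subgroup.range_subtype,
            Subgroup.subgroupOf_map_subtype, inf_comm N X, hXS] at e
        have hAc : Nat.card ↥(A.map X.subtype) = (N.subgroupOf X).index := by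
          rw [Subgroup.card_subtype]; exact hA.symm.index_eq_card.symm
        refine ⟨A.map X.subtype, ?_, hsup, by rw [hAc, mul_comm]; exact hm, by rwa [hAc]⟩
        rintro a ⟨a', -, rfl⟩
        rw [Subgroup.mem_normalizer_iff, ← hXS]
        intro y
        simp only [Subgroup.mem_inf, Subgroup.coe_subtype]
        refine and_congr (⟨fun hy => X.mul_mem (X.mul_mem a'.2 hy) (X.inv_mem a'.2), fun hy => ?_⟩)
          ⟨fun hy => hN.conj_mem y hy _, fun hy => ?_⟩
        · have := X.mul_mem (X.mul_mem (X.inv_mem a'.2) hy) a'.2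
          simpa [mul_assoc] using this
        · simpa [mul_assoc] using hN.conj_mem _ hy (a' : G)⁻¹
      obtain ⟨A, hAM, hAsup, hAc, hAp⟩ := hcompl H' hH'c hH'S
      obtain ⟨B, hBM, hBsup, hBc, -⟩ := hcompl K hHK.symm rfl
      set M := Subgroup.normalizer (S : Set G) with hM
      obtain ⟨m, hm⟩ := conjSub_of_card_eq _ ↥M rfl inferInstance p (hcyc.subgroup M)
        (A.subgroupOf M) (B.subgroupOf M)
        (by rw [Nat.card_congr (Subgroup.subgroupOfEquivOfLe hAM).toEquiv]; exact fun h => hAp h.2)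
        (by
          rw [Nat.card_congr (Subgroup.subgroupOfEquivOfLe hAM).toEquiv,
            Nat.card_congr (Subgroup.subgroupOfEquivOfLe hBM).toEquiv]
          exact Nat.eq_of_mul_eq_mul_right Nat.card_pos (hAc.trans hBc.symm))
      refine ConjSub.trans ⟨g, rfl⟩ ⟨(m : G), ?_⟩
      have hA' : MulAut.conj (m : G) • A = B := by
        have e := congrArg (Subgroup.map M.subtype) hm
        rw [Subgroup.map_subgroupOf_eq_of_le hBM] at e
        rw [← e]
        ext y
        constructor
        · rintro ⟨a, ha, rfl⟩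
          exact ⟨m * ⟨a, hAM ha⟩ * m⁻¹, ⟨⟨a, hAM ha⟩, ha, by simp⟩, by simp⟩
        · rintro ⟨_, ⟨a, ha, rfl⟩, rfl⟩
          exact ⟨(a : G), ha, by simp⟩
      have hS' : MulAut.conj (m : G) • S = S := by
        ext y
        rw [Subgroup.mem_pointwise_smul_iff_inv_smul_mem]
        have h1 := (Subgroup.mem_normalizer_iff.1 (M.inv_mem m.2)) y
        simpa [MulAut.smul_def] using h1.symm
      rw [← hH', ← hAsup, Subgroup.smul_sup, hS', hA', hBsup]
    · -- `p ≠ r`
      by_cases hd : p ∣ Nat.card ↥H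
      · exact hlift ((hcyc.prime_normal hp hpr N hN1 hpow').2 H hd)
          ((hcyc.prime_normal hp hpr N hN1 hpow').2 K (hHK ▸ hd))
      · obtain ⟨k, hk⟩ := IsPGroup.iff_card.1 hNp
        have hcop : ∀ X : Subgroup G, Nat.card ↥X = Nat.card ↥H → (Nat.card ↥N).Coprime (Nat.card ↥X) := by
          intro X hX
          rw [hk, hX]
          exact Nat.Coprime.pow_left _ (hp.coprime_iff_not_dvd.2 hd)
        have hdis : ∀ X : Subgroup G, Nat.card ↥X = Nat.card ↥H → Disjoint X N := fun X hX =>
          Subgroup.disjoint_of_coprime_natCard (hcop X hX).symm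
        obtain ⟨x, hx⟩ := ih _ hlt (G ⧸ N) rfl inferInstance r (hcyc.quotient N) hDQ
          (H.map (QuotientGroup.mk' N)) (K.map (QuotientGroup.mk' N))
          (by rw [card_map_mk_of_disjoint (hdis H rfl), card_map_mk_of_disjoint (hdis K hHK.symm), hHK])
        exact conjSub_of_conj_map hcop hx hHK

end CfsgLib.FgsSix
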