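import Mathlib

/-! Finite groups with the same numbers of elements of each order. -/

namespace CfsgLib.FgsSix

/-- Two finite groups of the same order type have a bijection preserving orders. -/
theorem exists_orderOf_equiv {G H : Type*} [Group G] [Finite G] [Group H] [Finite H]
    (hT : ∀ m : ℕ, Nat.card {g : G // orderOf g = m} = Nat.card {h : H // orderOf h = m}) :
    ∃ e : G ≃ H, ∀ g, orderOf (e g) = orderOf g := by
  classical
  let e : ∀ m : ℕ, {g : G // orderOf g = m} ≃ {h : H // orderOf h = m} := fun m =>
    (Finite.card_eq.1 (hT m)).some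
  exact ⟨Equiv.ofFiberEquiv e, Equiv.ofFiberEquiv_map e⟩

end CfsgLib.FgsSix
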