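import Mathlib
import Cfsg.Prelude.Def_Solvable
import Cfsg.Agent.FrobComp.Complement
import Cfsg.Agent.Solvable.Fitting
import Cfsg.Agent.Solvable.FixedPointFree
import Cfsg.Agent.FgsSix.OrderType
import Cfsg.Agent.FgsSix.ComplementSolvable

/-!
# Groups with the numbers of element orders of a Frobenius group with nilpotent kernel
-/

namespace CfsgLib.FgsSix

open Cfsg

variable {F : Type*} [Group F] [Finite F] {C N : Subgroup F}

/-- Elements of non-trivial order dividing the order of the complement. -/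
theorem card_orderOf_eq_index_mul [N.Normal] (hC : IsFrobeniusComplement C)
    (hc : N.IsComplement' C) {o : ℕ} (ho : o ∣ Nat.card ↥C) (ho1 : o ≠ 1) :
    Nat.card {f : F // orderOf f = o} = C.index * Nat.card {c : ↥C // orderOf c = o} := by
  have hker := CfsgLib.Solvable.kernel_eq_of_normal_complement hc hC
  have hcop := CfsgLib.FrobComp.coprime_card_index hC
  have hN : Nat.card ↥N = C.index := hc.index_eq_card.symm
  rw [Subgroup.index_eq_card, ← Nat.card_prod]
  refine (Nat.card_congr (Equiv.ofBijective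
    (fun p : (F ⧸ C) × {c : ↥C // orderOf c = o} =>
      (⟨p.1.out * (p.2.1 : F) * p.1.out⁻¹, ?_⟩ : {f : F // orderOf f = o})) ⟨?_, ?_⟩)).symm
  · rw [← MulAut.conj_apply, MulEquiv.orderOf_eq, Subgroup.orderOf_coe, p.2.2]
  · intro p q hpq
    have hne : ∀ c : {c : ↥C // orderOf c = o}, c.1 ≠ 1 := fun c e => ho1 (by rw [← c.2, e, orderOf_one])
    have h1 := @CfsgLib.Solvable.conj_pair_injective F _ C hC (p.1, ⟨p.2.1, hne p.2⟩)
      (q.1, ⟨q.2.1, hne q.2⟩) (congrArg Subtype.val hpq)
    simp only [Prod.mk.injEq, Subtype.mk.injEq] at h1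
    exact Prod.ext h1.1 (Subtype.ext h1.2)
  · rintro ⟨f, hf⟩
    have hfN : f ∉ frobeniusKernel C := by
      rw [← hker]
      intro hfN
      refine ho1 (Nat.eq_one_of_dvd_coprimes hcop ho ?_)
      rw [← hN, ← hf]
      exact Subgroup.orderOf_dvd_natCard N hfN
    have h2 : f ∈ Set.range (fun p : (F ⧸ C) × {h : C // h ≠ 1} =>
        p.1.out * (p.2.1 : F) * p.1.out⁻¹) := by
      rw [CfsgLib.Solvable.conj_pair_range]
      exact hfN
    obtain ⟨⟨a, c, hc1⟩, hac⟩ := h2
    simp only at hac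
    refine ⟨(a, ⟨c, ?_⟩), Subtype.ext hac⟩
    rw [← hac, ← MulAut.conj_apply, MulEquiv.orderOf_eq, Subgroup.orderOf_coe] at hf
    exact hf

/-- The order of an element of a Frobenius group divides the order of the kernel or of a
complement. -/
theorem orderOf_dvd_or [N.Normal] (hC : IsFrobeniusComplement C) (hc : N.IsComplement' C) (f : F) :
    orderOf f ∣ Nat.card ↥N ∨ orderOf f ∣ Nat.card ↥C := by
  by_cases hf : f ∈ N
  · exact Or.inl (Subgroup.orderOf_dvd_natCard N hf)
  · right
    have hfk : f ∉ frobeniusKernel C := by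
      rwa [← CfsgLib.Solvable.kernel_eq_of_normal_complement hc hC]
    obtain ⟨-, g, h, hh, -, rfl⟩ := CfsgLib.FrobComp.exists_conj_of_notMem_kernel hfk
    rw [← MulAut.conj_apply, MulEquiv.orderOf_eq]
    exact Subgroup.orderOf_dvd_natCard C hh

/-- The Sylow subgroups of a fixed-point-free group. -/
theorem cyclicOddUniqueTwo_of_fpf [N.Normal] (hN : N ≠ ⊥)
    (hfpf : ∀ h ∈ C, h ≠ 1 → N ⊓ Subgroup.centralizer {h} = ⊥) : CyclicOddUniqueTwo ↥C := by
  refine ⟨fun q hq Q hq2 => ?_, fun Q => ?_⟩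
  · have hu := CfsgLib.Solvable.hasUniqueOrderP_of_fpf hN hfpf (P := (Q : Subgroup ↥C)) Q.isPGroup'
    rcases CfsgLib.TwoGroupsQ.isCyclic_or_quaternion Q.isPGroup' hu with h | ⟨h, -⟩
    exacts [h, absurd h hq2]
  · haveI := Fact.mk Nat.prime_two
    exact CfsgLib.Solvable.hasUniqueOrderP_of_fpf hN hfpf (P := (Q : Subgroup ↥C)) Q.isPGroup'

/-- The structure of a group with the same counts as a Frobenius group with nilpotent kernel. -/
theorem exists_frobenius_of_same_type [N.Normal] (hC : IsFrobeniusComplement C)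
    (hc : N.IsComplement' C) (hnil : Group.IsNilpotent ↥N) {G : Type*} [Group G] [Finite G]
    (e : G ≃ F) (he : ∀ g, orderOf (e g) = orderOf g) :
    ∃ (M C' : Subgroup G), M.Normal ∧ Group.IsNilpotent ↥M ∧ IsFrobeniusComplement C' ∧
      M.IsComplement' C' ∧ ∀ o, Nat.card {c : ↥C' // orderOf c = o} = Nat.card {c : ↥C // orderOf c = o} := by
  classical
  have hcop : (Nat.card ↥C).Coprime C.index := CfsgLib.FrobComp.coprime_card_index hC
  set k := Nat.card ↥N with hk
  set c := Nat.card ↥C with hcdef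
  have hkC : C.index = k := hc.index_eq_card
  have hFkc : Nat.card F = k * c := by rw [hk, hcdef, ← hc.card_mul]
  have hG : Nat.card G = k * c := by rw [Nat.card_congr e, hFkc]
  rw [hkC] at hcop
  have hor : ∀ g : G, orderOf g ∣ k ∨ orderOf g ∣ c := fun g => he g ▸ orderOf_dvd_or hC hc (e g)
  have hk1 : k ≠ 1 := by
    intro h
    rw [h] at hkC
    exact hC.2.1 (Subgroup.index_eq_one.1 hkC)
  have hc1 : 1 < c := (Subgroup.one_lt_card_iff_ne_bot C).2 hC.1
  -- no elements of mixed order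
  have hmix : ∀ q r : ℕ, q.Prime → r.Prime → q ∣ k → r ∣ c → ∀ u v : G, orderOf u = q →
      orderOf v = r → Commute u v → False := by
    intro q r hq hr hqk hrc u v hu hv huv
    have hqr : q ≠ r := by
      rintro rfl
      exact hq.ne_one (Nat.eq_one_of_dvd_coprimes hcop hrc hqk)
    have h1 : orderOf (u * v) = q * r := by
      rw [huv.orderOf_mul_eq_mul_orderOf_of_coprime
        (by rw [hu, hv]; exact (Nat.coprime_primes hq hr).2 hqr), hu, hv]
    rcases hor (u * v) with h | h <;> rw [h1] at h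
    · exact hr.ne_one (Nat.eq_one_of_dvd_coprimes hcop hrc ((dvd_mul_left r q).trans h))
    · exact hq.ne_one (Nat.eq_one_of_dvd_coprimes hcop ((dvd_mul_right q r).trans h) hqk)
  -- Sylow subgroups for the primes of the kernel are normal
  have hsyl : ∀ q : ℕ, q.Prime → q ∣ k → ∀ Q : Sylow q G, (Q : Subgroup G).Normal := by
    intro q hq hqk Q
    haveI := Fact.mk hq
    haveI := hnil
    obtain ⟨R⟩ : Nonempty (Sylow q ↥N) := inferInstance
    have hRn : (R : Subgroup ↥N).Normal :=
      Group.isNilpotent_of_finite_tfae.out 0 3 rfl rfl |>.mp hnil q inferInstance R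
    have hFq : Nat.card {f : F // ∃ i, orderOf f = q ^ i} ≤ Nat.card ↥(R : Subgroup ↥N) := by
      have hmem : ∀ f : {f : F // ∃ i, orderOf f = q ^ i}, f.1 ∈ N := by
        rintro ⟨f, i, hi⟩
        rcases Nat.eq_zero_or_pos i with rfl | hi0
        · rw [pow_zero, orderOf_eq_one_iff] at hi
          subst hi
          exact one_mem _
        by_contra hfN
        rcases orderOf_dvd_or hC hc f with h | h
        · have hfk : f ∉ frobeniusKernel C := by
            rwa [← CfsgLib.Solvable.kernel_eq_of_normal_complement hc hC]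
          obtain ⟨-, g, x, hx, hx1, rfl⟩ := CfsgLib.FrobComp.exists_conj_of_notMem_kernel hfk
          rw [← MulAut.conj_apply, MulEquiv.orderOf_eq] at hi
          have h2 : q ∣ c := (hi ▸ dvd_pow_self q hi0.ne').trans (Subgroup.orderOf_dvd_natCard C hx)
          exact hq.ne_one (Nat.eq_one_of_dvd_coprimes hcop h2 hqk)
        · rw [hi] at h
          exact hq.ne_one (Nat.eq_one_of_dvd_coprimes hcop ((dvd_pow_self q hi0.ne').trans h) hqk)
      have hR : ∀ f, (⟨f.1, hmem f⟩ : ↥N) ∈ (R : Subgroup ↥N) := by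
        intro f
        obtain ⟨i, hi⟩ := f.2
        have hp : IsPGroup q ↥(Subgroup.zpowers (⟨f.1, hmem f⟩ : ↥N)) :=
          IsPGroup.of_card (n := i) (by rw [Nat.card_zpowers, Subgroup.orderOf_mk, hi])
        obtain ⟨R', hR'⟩ := hp.exists_le_sylow
        haveI := Sylow.unique_of_normal R hRn
        rw [Subsingleton.elim R R']
        exact hR' (Subgroup.mem_zpowers _)
      refine Nat.card_le_card_of_injective (fun f => (⟨⟨f.1, hmem f⟩, hR f⟩ : ↥(R : Subgroup ↥N)))
        fun a b h => ?_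
      exact Subtype.ext (congrArg (fun t : ↥(R : Subgroup ↥N) => ((t : ↥N) : F)) h)
    have hRG : Nat.card ↥(R : Subgroup ↥N) ≤ Nat.card ↥(Q : Subgroup G) := by
      refine Nat.le_of_dvd Nat.card_pos ?_
      obtain ⟨j, hj⟩ := IsPGroup.iff_card.1 R.isPGroup'
      rw [hj]
      refine Q.pow_dvd_card_of_pow_dvd_card ?_
      rw [← hj, hG]
      exact dvd_mul_of_dvd_left (Subgroup.card_subgroup_dvd_card _) _
    let j : ↥(Q : Subgroup G) → {g : G // ∃ i, orderOf g = q ^ i} := fun x =>
      ⟨x.1, by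
        obtain ⟨i, hi⟩ := IsPGroup.iff_orderOf.1 Q.isPGroup' x
        exact ⟨i, by rw [Subgroup.orderOf_coe, hi]⟩⟩
    have hj : Function.Injective j := fun x y h => Subtype.ext (congrArg Subtype.val h :)
    have hbij := (Nat.bijective_iff_injective_and_card j).2 ⟨hj, le_antisymm
      (Nat.card_le_card_of_injective j hj) (by
        rw [Nat.card_congr (e.subtypeEquiv (q := fun f => ∃ i, orderOf f = q ^ i) fun g => by rw [he g])]
        exact hFq.trans hRG)⟩
    refine ⟨fun x hx g => ?_⟩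
    obtain ⟨i, hi⟩ := (j ⟨x, hx⟩).2
    obtain ⟨y, hy⟩ := hbij.2 ⟨g * x * g⁻¹, i, by
      rw [← MulAut.conj_apply, MulEquiv.orderOf_eq]; exact hi⟩
    have h2 : (y : G) = g * x * g⁻¹ := congrArg Subtype.val hy
    exact h2 ▸ y.2
  set M := Cfsg.fittingSubgroup G with hM
  haveI hMn : M.Normal := CfsgLib.Solvable.fittingSubgroup_normal
  haveI hMnil : Group.IsNilpotent ↥M := CfsgLib.Solvable.fittingSubgroup_isNilpotent
  have hMprimes : ∀ r : ℕ, r.Prime → r ∣ Nat.card ↥M → r ∣ k := by
    intro r hr hrM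
    haveI := Fact.mk hr
    by_contra hrk
    have hrc : r ∣ c := (hr.dvd_mul.1 (hG ▸ hrM.trans (Subgroup.card_subgroup_dvd_card M))).resolve_left hrk
    obtain ⟨q, hq, hqk⟩ := Nat.exists_prime_and_dvd hk1
    haveI := Fact.mk hq
    obtain ⟨Q⟩ : Nonempty (Sylow q G) := inferInstance
    haveI := hsyl q hq hqk Q
    obtain ⟨S⟩ : Nonempty (Sylow r ↥M) := inferInstance
    have hSn : (S : Subgroup ↥M).Normal :=
      Group.isNilpotent_of_finite_tfae.out 0 3 rfl rfl |>.mp hMnil r inferInstance S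
    haveI := Sylow.characteristic_of_normal S hSn
    haveI : ((S : Subgroup ↥M).map M.subtype).Normal := CfsgLib.PLocal.normal_map_subtype M _
    obtain ⟨u, hu⟩ := exists_prime_orderOf_dvd_card' (G := ↥(Q : Subgroup G)) q
      (Q.dvd_card_of_dvd_card (hG ▸ dvd_mul_of_dvd_left hqk _))
    obtain ⟨v, hv⟩ := exists_prime_orderOf_dvd_card' (G := ↥(S : Subgroup ↥M)) r
      (S.dvd_card_of_dvd_card hrM)
    refine hmix q r hq hr hqk hrc (u : G) ((v : ↥M) : G) (by rw [Subgroup.orderOf_coe]; exact hu)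
      (by rw [Subgroup.orderOf_coe, Subgroup.orderOf_coe]; exact hv) ?_
    refine Subgroup.commute_of_normal_of_disjoint (Q : Subgroup G) ((S : Subgroup ↥M).map M.subtype)
      inferInstance inferInstance ?_ _ _ u.2 ⟨_, v.2, rfl⟩
    have hqr : q ≠ r := by
      rintro rfl
      exact hrk hqk
    exact IsPGroup.disjoint_of_ne _ _ hqr _ _ Q.isPGroup' (S.isPGroup'.map _)
  have hMk : Nat.card ↥M = k := by
    refine Nat.dvd_antisymm ?_ ?_
    · refine Nat.Coprime.dvd_of_dvd_mul_right ?_ (hG ▸ Subgroup.card_subgroup_dvd_card M)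
      refine Nat.coprime_of_dvd fun r hr hrM hrc => ?_
      exact hr.ne_one (Nat.eq_one_of_dvd_coprimes hcop hrc (hMprimes r hr hrM))
    · rw [Nat.dvd_iff_prime_pow_dvd_dvd]
      intro q i hq hqi
      rcases Nat.eq_zero_or_pos i with rfl | hi0
      · exact one_dvd _
      haveI := Fact.mk hq
      obtain ⟨Q⟩ : Nonempty (Sylow q G) := inferInstance
      haveI := hsyl q hq ((dvd_pow_self q hi0.ne').trans hqi) Q
      have hQM : (Q : Subgroup G) ≤ M :=
        CfsgLib.Solvable.le_fittingSubgroup Q.isPGroup'.isNilpotent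
      exact (Q.pow_dvd_card_of_pow_dvd_card (hG ▸ dvd_mul_of_dvd_left hqi _)).trans
        (Subgroup.card_dvd_of_le hQM)
  have hMi : M.index = c := by
    have := Subgroup.card_mul_index M
    rw [hMk, hG] at this
    exact Nat.eq_of_mul_eq_mul_left (hMk ▸ Nat.card_pos) this
  obtain ⟨C', hC'⟩ := Subgroup.exists_right_complement'_of_coprime (N := M)
    (by rw [hMk, hMi]; exact hcop.symm)
  have hC'c : Nat.card ↥C' = c := by rw [← hMi]; exact hC'.symm.index_eq_card.symm
  have hMbot : M ≠ ⊥ := by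
    intro h
    rw [h, Subgroup.card_bot] at hMk
    exact hk1 hMk.symm
  have hC'bot : C' ≠ ⊥ := by
    intro h
    rw [h, Subgroup.card_bot] at hC'c
    omega
  have hfpf : ∀ h ∈ C', h ≠ 1 → M ⊓ Subgroup.centralizer {h} = ⊥ := by
    intro h hh h1
    rw [Subgroup.eq_bot_iff_forall]
    rintro x ⟨hx, hxh⟩
    by_contra hx1
    obtain ⟨q, hq, hqx⟩ := Nat.exists_prime_and_dvd (n := orderOf x) (by rwa [ne_eq, orderOf_eq_one_iff])
    obtain ⟨r, hr, hrh⟩ := Nat.exists_prime_and_dvd (n := orderOf h) (by rwa [ne_eq, orderOf_eq_one_iff])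
    refine hmix q r hq hr (hMk ▸ hqx.trans (Subgroup.orderOf_dvd_natCard M hx))
      (hC'c ▸ hrh.trans (Subgroup.orderOf_dvd_natCard C' hh)) (x ^ (orderOf x / q)) (h ^ (orderOf h / r))
      (orderOf_pow_orderOf_div (orderOf_pos x).ne' hqx)
      (orderOf_pow_orderOf_div (orderOf_pos h).ne' hrh) ?_
    exact Commute.pow_pow (show Commute x h from (Subgroup.mem_centralizer_iff.1 hxh h rfl).symm) _ _
  have hC'F : IsFrobeniusComplement C' :=
    (CfsgLib.Solvable.isFrobeniusComplement_iff_fpf hC' hMbot hC'bot).2 hfpf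
  refine ⟨M, C', hMn, hMnil, hC'F, hC', fun o => ?_⟩
  by_cases ho : o ∣ c
  · by_cases ho1 : o = 1
    · subst ho1
      simp [orderOf_eq_one_iff]
    · have h1 := card_orderOf_eq_index_mul hC hc ho ho1
      have h2 := card_orderOf_eq_index_mul hC'F hC' (hC'c.symm ▸ ho) ho1
      rw [hkC] at h1
      rw [hC'.index_eq_card, hMk,
        Nat.card_congr (e.subtypeEquiv (q := fun f => orderOf f = o) fun g => by rw [he g]), h1] at h2
      exact (Nat.eq_of_mul_eq_mul_left (hMk ▸ Nat.card_pos) h2).symm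
  · haveI : IsEmpty {x : ↥C' // orderOf x = o} :=
      ⟨fun x => ho (hC'c ▸ x.2 ▸ orderOf_dvd_natCard x.1)⟩
    haveI : IsEmpty {x : ↥C // orderOf x = o} := ⟨fun x => ho (x.2 ▸ orderOf_dvd_natCard x.1)⟩
    simp

/-- Frobenius complements with the same counts are solvable together. -/
theorem isSolvable_complement_of_same_type [N.Normal] (hC : IsFrobeniusComplement C)
    (hc : N.IsComplement' C) [Group.IsSolvable ↥C] {C' : Type*} [Group C'] [Finite C']
    (h : ∀ o, Nat.card {x : C' // orderOf x = o} = Nat.card {x : ↥C // orderOf x = o}) :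
    Group.IsSolvable C' := by
  have hN : N ≠ ⊥ := fun h0 => hC.2.1 (Subgroup.isComplement'_bot_left.1 (h0 ▸ hc))
  have hfpf := (CfsgLib.Solvable.isFrobeniusComplement_iff_fpf hc hN hC.1).1 hC
  obtain ⟨e, he⟩ := exists_orderOf_equiv h
  exact isSolvable_of_same_counts (cyclicOddUniqueTwo_of_fpf hN hfpf) e he

end CfsgLib.FgsSix
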