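import Mathlib
import Cfsg.Agent.Characters.Generalized
import Cfsg.Agent.S0944

/-!
# Counting products of two involutions against a TI subgroup

Let `t` be an involution with `C(t) = N` of order `4m` (`m ≥ 3` odd), `K ≤ N` a TI subgroup of order
`2m` inverted by `N \ K`. If all involutions are conjugate and every non-identity product of two
involutions is conjugate into `K`, we get a contradiction.
-/

set_option autoImplicit false

namespace CfsgLib.FgsSix

open CfsgLib.Characters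
open scoped ComplexConjugate

variable {G : Type*} [Group G] [Fintype G] [DecidableEq G]

/-- The pairs of elements of a normal subset `T` weighted by an irreducible character. -/
theorem sum_pairs_irr {χ : G → ℂ} (hχ : Cfsg.IsIrrCharacter G χ) (T : Finset G) (t : G)
    (hT : ∀ u ∈ T, ∀ g : G, g * u * g⁻¹ ∈ T) (ht : ∀ u ∈ T, IsConj t u) :
    (∑ u ∈ T, ∑ v ∈ T, χ (u * v)) * χ 1 = (T.card : ℂ) ^ 2 * χ t ^ 2 := by
  obtain ⟨n, ρ, hρ, rfl⟩ := hχ
  haveI := hρ
  set L : (Fin n → ℂ) →ₗ[ℂ] (Fin n → ℂ) := ∑ u ∈ T, ρ u with hL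
  obtain ⟨c, hc⟩ := schur_scalar ρ L fun g x => by
    simp only [hL, LinearMap.sum_apply, map_sum]
    refine Finset.sum_bij (fun u _ => g⁻¹ * u * g) ?_ ?_ ?_ ?_
    · intro u hu; simpa using hT u hu g⁻¹
    · intro a _ b _ h; simpa using h
    · intro b hb; exact ⟨g * b * g⁻¹, hT b hb g, by group⟩
    · intro u _
      rw [← Module.End.mul_apply, ← map_mul, ← Module.End.mul_apply, ← map_mul]
      congr 2; group
  have hn : ρ.character 1 = (n : ℂ) := by rw [Representation.char_one, Module.finrank_fin_fun]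
  have h1 : (T.card : ℂ) * ρ.character t = c * n := by
    have e := congrArg (LinearMap.trace ℂ (Fin n → ℂ)) hc
    rw [map_smul, LinearMap.trace_id, Module.finrank_fin_fun, smul_eq_mul, hL, map_sum] at e
    rw [← e, ← nsmul_eq_mul, ← Finset.sum_const]
    exact Finset.sum_congr rfl fun u hu =>
      classFunction_isConj (isClassFunction_of_isCharacter (isCharacter_character ρ)) (ht u hu)
  have h2 : ∑ u ∈ T, ∑ v ∈ T, ρ.character (u * v) = c ^ 2 * n := by
    have e1 : L * L = (c ^ 2) • LinearMap.id := by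
      rw [hc]; ext x; simp [sq, smul_smul]
    have e2 : L * L = ∑ u ∈ T, ∑ v ∈ T, ρ (u * v) := by
      simp only [hL, Finset.sum_mul_sum, map_mul]
    have e := congrArg (LinearMap.trace ℂ (Fin n → ℂ)) (e2.symm.trans e1)
    rw [map_smul, LinearMap.trace_id, Module.finrank_fin_fun, smul_eq_mul] at e
    rw [← e]
    simp only [map_sum]
    rfl
  rw [h2, hn, ← mul_pow, h1]
  ring

omit [Fintype G] [DecidableEq G] in
/-- A Diophantine equation without solutions. -/
theorem no_solution {m : ℕ} (hm3 : 3 ≤ m) (hodd : Odd m) (x y : ℤ) (hy : y ^ 2 ≤ 4 * m)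
    (hx : x ≠ 0) (hx1 : x + 1 ≠ 0)
    (h : (4 * (m : ℤ) ^ 2 - 2 * m + 1) * (x - y) ^ 2 = 8 * m ^ 2 * (x * (x + 1))) : False := by
  set M : ℤ := (m : ℤ) with hM
  have hM3 : 3 ≤ M := by omega
  set I : ℤ := 4 * M ^ 2 - 2 * M + 1 with hI
  have hcop : IsCoprime (8 * M ^ 2) I := by
    have h1 : IsCoprime M I := ⟨2 - 4 * M, 1, by rw [hI]; ring⟩
    have h2 : IsCoprime (2 : ℤ) I := ⟨M - 2 * M ^ 2, 1, by rw [hI]; ring⟩
    exact IsCoprime.mul_left (by simpa using (h2.pow_left (m := 3))) h1.pow_left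
  have hdvd : 8 * M ^ 2 ∣ (x - y) ^ 2 := hcop.dvd_of_dvd_mul_left ⟨x * (x + 1), h⟩
  obtain ⟨e, he⟩ : M ∣ x - y := by
    have h1 : M ^ 2 ∣ (x - y) ^ 2 := (Dvd.intro_left 8 rfl).trans hdvd
    exact (Int.pow_dvd_pow_iff two_ne_zero).1 h1
  have h8 : (8 : ℤ) ∣ e ^ 2 := by
    obtain ⟨w, hw⟩ := hdvd
    refine ⟨w, mul_left_cancel₀ (pow_ne_zero 2 (show M ≠ 0 by omega)) ?_⟩
    rw [← mul_pow, ← he, hw]; ring
  obtain ⟨j, rfl⟩ : (4 : ℤ) ∣ e := by
    have h2 : (2 : ℤ) ∣ e := Int.prime_two.dvd_of_dvd_pow (dvd_trans ⟨4, rfl⟩ h8)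
    obtain ⟨f, rfl⟩ := h2
    obtain ⟨w, hw⟩ := h8
    have h3 : (2 : ℤ) ∣ f ^ 2 := ⟨w, by linarith⟩
    obtain ⟨k, rfl⟩ := Int.prime_two.dvd_of_dvd_pow h3
    exact ⟨k, by ring⟩
  have hmain : x * (x + 1) = 2 * j ^ 2 * I := by
    refine mul_left_cancel₀ (show (8 : ℤ) * M ^ 2 ≠ 0 from mul_ne_zero (by norm_num)
      (pow_ne_zero 2 (by omega))) ?_
    rw [← h, he]; ring
  have hj : j ≠ 0 := by
    rintro rfl
    simp only [ne_eq, OfNat.ofNat_ne_zero, not_false_eq_true, zero_pow, mul_zero, zero_mul,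
      mul_eq_zero] at hmain
    tauto
  set s : ℤ := 2 * y + 1 with hs
  have hx' : x = 4 * M * j + y := by linarith
  have hkey : (s + 8 * M * j) ^ 2 = j ^ 2 * (32 * M ^ 2 - 16 * M + 8) + 1 := by
    have e := hmain
    rw [hI, hx'] at e
    rw [hs]
    linear_combination 4 * e
  have hk : (|s| - 1) ^ 2 ≤ 16 * M := by
    rcases abs_cases s with ⟨e, _⟩ | ⟨e, _⟩ <;> rw [e, hs] <;> nlinarith
  set k := |s| with hkdef
  have hk0 : 0 ≤ k := abs_nonneg s
  have hk8 : k ≤ 4 * M + 3 := by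
    by_contra hc
    push_neg at hc
    nlinarith
  have hbig : (8 * M - k) ^ 2 > 32 * M ^ 2 - 16 * M + 9 := by
    rcases eq_or_lt_of_le hM3 with h3 | h3
    · rw [← h3] at hk hk8 ⊢
      have : k ≤ 7 := by nlinarith
      nlinarith
    · rcases le_or_gt (2 * k) (4 * M + 2) with h4 | h4 <;> nlinarith
  have hlow : |j| * (8 * M - k) ≤ |s + 8 * M * j| := by
    have h1 : |8 * M * j| ≤ |s + 8 * M * j| + |s| := by
      calc |8 * M * j| = |(s + 8 * M * j) - s| := by ring_nf
        _ ≤ |s + 8 * M * j| + |s| := abs_sub _ _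
    rw [abs_mul, abs_of_nonneg (show (0 : ℤ) ≤ 8 * M by omega)] at h1
    have hj1 : 1 ≤ |j| := Int.one_le_abs hj
    nlinarith
  have h2 : (|j| * (8 * M - k)) ^ 2 ≤ (s + 8 * M * j) ^ 2 := by
    rw [← sq_abs (s + 8 * M * j)]
    exact pow_le_pow_left₀ (mul_nonneg (abs_nonneg j) (by omega)) hlow 2
  rw [hkey, mul_pow, sq_abs] at h2
  have hj2 : 1 ≤ j ^ 2 := by
    have := Int.one_le_abs hj
    nlinarith [sq_abs j]
  nlinarith

/-- The main counting argument. -/
theorem ti_count_false (t : G) (K : Subgroup G) (m : ℕ) (hm3 : 3 ≤ m) (hodd : Odd m)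
    (htK : t ∈ K) (ht : orderOf t = 2) (hKcomm : IsMulCommutative ↥K)
    (hcardK : Nat.card ↥K = 2 * m)
    (hcardN : Nat.card ↥(Subgroup.centralizer ({t} : Set G)) = 4 * m)
    (hcent : ∀ g ∈ Subgroup.centralizer ({t} : Set G), ∀ k ∈ K,
      (g ∈ K → g * k * g⁻¹ = k) ∧ (g ∉ K → g * k * g⁻¹ = k⁻¹))
    (hTI : ∀ k ∈ K, k ≠ 1 → ∀ g : G, g * k * g⁻¹ ∈ K → g ∈ Subgroup.centralizer ({t} : Set G))
    (hconj : ∀ u : G, orderOf u = 2 → IsConj t u)
    (hfK : ∀ k ∈ K, k ≠ 1 →
      (Finset.univ.filter fun u : G => orderOf u = 2 ∧ orderOf (u * k) = 2).card = 2 * m)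
    (hsupp : ∀ z : G, z ≠ 1 → (∃ u : G, orderOf u = 2 ∧ orderOf (u * z) = 2) →
      ∃ g : G, g * z * g⁻¹ ∈ K) : False := by
  classical
  haveI := hKcomm
  set N := Subgroup.centralizer ({t} : Set G) with hN
  have hKN : K ≤ N := fun k hk => Subgroup.mem_centralizer_singleton_iff.2
    (congrArg Subtype.val (hKcomm.is_comm.comm ⟨k, hk⟩ ⟨t, htK⟩))
  set T := Finset.univ.filter (fun u : G => orderOf u = 2) with hTdef
  set I := T.card with hIdef
  have htT : t ∈ T := by simp [hTdef, ht]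
  have hTinv : ∀ u ∈ T, ∀ g : G, g * u * g⁻¹ ∈ T := by
    intro u hu g
    simp only [hTdef, Finset.mem_filter, Finset.mem_univ, true_and] at hu ⊢
    rwa [← MulAut.conj_apply, MulEquiv.orderOf_eq]
  have hTconj : ∀ u ∈ T, IsConj t u := fun u hu => hconj u (by simpa [hTdef] using hu)
  have hG : Nat.card G = 4 * m * I := by
    have h1 := MulAction.index_stabilizer (ConjAct G) t
    rw [ConjAct.stabilizer_eq_centralizer, ConjAct.orbit_eq_carrier_conjClasses] at h1
    have h2 : (ConjClasses.mk t).carrier.toFinset = T := by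
      ext u
      simp only [Set.mem_toFinset, ConjClasses.mem_carrier_iff_mk_eq, ConjClasses.mk_eq_mk_iff_isConj,
        hTdef, Finset.mem_filter, Finset.mem_univ, true_and]
      refine ⟨fun h => ?_, fun h => (hconj u h).symm⟩
      obtain ⟨g, rfl⟩ := isConj_iff.1 h.symm
      rwa [← MulAut.conj_apply, MulEquiv.orderOf_eq]
    have h3 : N.index = I := by
      refine Eq.trans ?_ (h1.trans ?_)
      · rfl
      rw [← Nat.card_coe_set_eq, Nat.card_eq_fintype_card, ← Set.toFinset_card, hIdef, ← h2]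
    rw [← h3, ← hcardN, Subgroup.card_mul_index]
  set S := Finset.univ.filter (fun z : G => z ≠ 1 ∧ ∃ g : G, g * z * g⁻¹ ∈ K) with hS
  -- weights of products of two involutions
  have hf : ∀ z ∈ S, (Finset.univ.filter fun u : G => orderOf u = 2 ∧ orderOf (u * z) = 2).card
      = 2 * m := by
    intro z hz
    simp only [hS, Finset.mem_filter, Finset.mem_univ, true_and] at hz
    obtain ⟨hz1, g, hg⟩ := hz
    rw [← hfK _ hg (by simpa using hz1)]
    refine Finset.card_equiv (MulAut.conj g).toEquiv fun u => ?_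
    simp only [Finset.mem_filter, Finset.mem_univ, true_and, MulEquiv.toEquiv_eq_coe,
      MulEquiv.coe_toEquiv]
    rw [← MulAut.conj_apply g z, ← map_mul, MulEquiv.orderOf_eq, MulEquiv.orderOf_eq]
  have hpairs : ∀ φ : G → ℂ, ∑ u ∈ T, ∑ v ∈ T, φ (u * v) =
      (I : ℂ) * φ 1 + 2 * m * ∑ z ∈ S, φ z := by
    intro φ
    have e1 : ∑ u ∈ T, ∑ v ∈ T, φ (u * v) =
        ∑ z : G, ((Finset.univ.filter fun u : G => orderOf u = 2 ∧ orderOf (u * z) = 2).card : ℂ) * φ z := by
      have : ∀ u ∈ T, ∑ v ∈ T, φ (u * v) = ∑ z : G, if orderOf (u * z) = 2 then φ z else 0 := by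
        intro u hu
        rw [← Finset.sum_filter]
        have huu : u * u = 1 := by
          simp only [hTdef, Finset.mem_filter, Finset.mem_univ, true_and] at hu
          rw [← pow_two, ← hu, pow_orderOf_eq_one]
        refine Finset.sum_bij (fun v _ => u * v) ?_ ?_ ?_ ?_
        · intro v hv
          simp only [hTdef, Finset.mem_filter, Finset.mem_univ, true_and] at hv ⊢
          rwa [← mul_assoc, huu, one_mul]
        · intro a _ b _ hab; exact mul_left_cancel hab
        · intro z hz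
          simp only [Finset.mem_filter, Finset.mem_univ, true_and] at hz
          refine ⟨u * z, by simpa [hTdef] using hz, ?_⟩
          rw [← mul_assoc, huu, one_mul]
        · intro v _; rfl
      rw [Finset.sum_congr rfl this, Finset.sum_comm]
      refine Finset.sum_congr rfl fun z _ => ?_
      rw [← Finset.sum_filter, Finset.sum_const, nsmul_eq_mul]
      congr 3
      ext u
      simp [hTdef]
    rw [e1, ← Finset.sum_erase_add _ _ (Finset.mem_univ (1 : G)), add_comm]
    congr 1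
    · congr 2
      rw [hIdef, hTdef]
      congr 1
      ext u
      simp
    · rw [Finset.mul_sum]
      refine Eq.trans ?_ (Finset.sum_congr rfl fun z hz => ?_ : ∑ z ∈ S,
        ((Finset.univ.filter fun u : G => orderOf u = 2 ∧ orderOf (u * z) = 2).card : ℂ) * φ z = _)
      · refine (Finset.sum_subset ?_ ?_).symm
        · intro z hz
          simp only [hS, Finset.mem_filter, Finset.mem_univ, true_and] at hz
          exact Finset.mem_erase.2 ⟨hz.1, Finset.mem_univ z⟩
        · intro z hz hzS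
          have hzero : (Finset.univ.filter fun u : G => orderOf u = 2 ∧ orderOf (u * z) = 2) = ∅ := by
            rw [Finset.filter_eq_empty_iff]
            intro u _ hu
            apply hzS
            simp only [hS, Finset.mem_filter, Finset.mem_univ, true_and]
            exact ⟨(Finset.mem_erase.1 hz).1, hsupp z (Finset.mem_erase.1 hz).1 ⟨u, hu⟩⟩
          rw [hzero]; simp
      · rw [hf z hz]; push_cast; ring
  -- functions induced from `K` and vanishing at the identity
  have hind : ∀ θ : ↥K → ℂ, θ 1 = 0 →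
      (∀ z ∉ S, Cfsg.indFun K θ z = 0) ∧
      (∀ k : ↥K, Cfsg.indFun K θ (k : G) = θ k + θ k⁻¹) := by
    intro θ hθ
    refine ⟨fun z hz => ?_, fun k => ?_⟩
    · by_cases hz1 : z = 1
      · rw [hz1, indFun_one, hθ, mul_zero]
      · refine indFun_eq_zero_of_forall K θ z fun x hx => hz ?_
        simp only [hS, Finset.mem_filter, Finset.mem_univ, true_and]
        exact ⟨hz1, x⁻¹, by simpa using hx⟩
    · by_cases hk : k = 1
      · subst hk
        rw [Subgroup.coe_one, indFun_one, inv_one, hθ]; simp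
      have hk' : (k : G) ≠ 1 := fun h => hk (Subtype.ext h)
      simp only [Cfsg.indFun]
      rw [← Finset.sum_filter_add_sum_filter_not Finset.univ (fun x : G => x ∈ K),
        ← Finset.sum_filter_add_sum_filter_not
          (Finset.univ.filter fun x : G => x ∉ K) (fun x : G => x ∈ N)]
      have h3 : ∀ x ∈ (Finset.univ.filter fun x : G => x ∉ K).filter (fun x => ¬ x ∈ N),
          Cfsg.extendByZero K θ (x⁻¹ * k * x) = 0 := by
        intro x hx
        simp only [Finset.mem_filter, Finset.mem_univ, true_and] at hx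
        refine extendByZero_of_not_mem K θ fun h => hx.2 ?_
        have := hTI k k.2 hk' x⁻¹ (by rwa [inv_inv])
        simpa using N.inv_mem this
      rw [Finset.sum_eq_zero h3, add_zero]
      have h1 : ∀ x ∈ Finset.univ.filter (fun x : G => x ∈ K),
          Cfsg.extendByZero K θ (x⁻¹ * k * x) = θ k := by
        intro x hx
        simp only [Finset.mem_filter, Finset.mem_univ, true_and] at hx
        have e := (hcent x⁻¹ (N.inv_mem (hKN hx)) k k.2).1 (K.inv_mem hx)
        rw [inv_inv] at e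
        rw [e, extendByZero_of_mem K θ k.2]
      have h2 : ∀ x ∈ (Finset.univ.filter fun x : G => x ∉ K).filter (fun x => x ∈ N),
          Cfsg.extendByZero K θ (x⁻¹ * k * x) = θ k⁻¹ := by
        intro x hx
        simp only [Finset.mem_filter, Finset.mem_univ, true_and] at hx
        have e := (hcent x⁻¹ (N.inv_mem hx.2) k k.2).2 (fun h => hx.1 (by simpa using K.inv_mem h))
        rw [inv_inv] at e
        rw [e, extendByZero_of_mem K θ (K.inv_mem k.2)]
        rfl
      rw [Finset.sum_congr rfl h1, Finset.sum_congr rfl h2, Finset.sum_const, Finset.sum_const]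
      have c1 : (Finset.univ.filter fun x : G => x ∈ K).card = 2 * m := by
        rw [← hcardK, Nat.card_eq_fintype_card, Fintype.card_subtype]
      have c2 : ((Finset.univ.filter fun x : G => x ∉ K).filter (fun x => x ∈ N)).card = 2 * m := by
        have c3 : (Finset.univ.filter fun x : G => x ∈ N).card = 4 * m := by
          rw [← hcardN, Nat.card_eq_fintype_card, Fintype.card_subtype]
        have c4 := Finset.card_filter_add_card_filter_not
          (s := Finset.univ.filter fun x : G => x ∈ N) (fun x => x ∈ K)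
        rw [c3, Finset.filter_filter, Finset.filter_filter] at c4
        have c5 : (Finset.univ.filter fun x : G => x ∈ N ∧ x ∈ K).card = 2 * m := by
          rw [← c1]; congr 1; ext x
          simp only [Finset.mem_filter, Finset.mem_univ, true_and]
          exact ⟨And.right, fun h => ⟨hKN h, h⟩⟩
        rw [Finset.filter_filter]
        have c6 : (Finset.univ.filter fun x : G => ¬x ∈ K ∧ x ∈ N) =
            Finset.univ.filter fun x : G => x ∈ N ∧ ¬x ∈ K := by
          ext x; simp [and_comm]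
        rw [c6]; omega
      rw [c1, c2, hcardK, nsmul_eq_mul, nsmul_eq_mul, ← mul_add, ← mul_assoc,
        inv_mul_cancel₀ (by exact_mod_cast (by omega : 2 * m ≠ 0)), one_mul]
  have hsum : ∀ θ : ↥K → ℂ, θ 1 = 0 →
      (∑ z ∈ S, Cfsg.indFun K θ z) * (2 * m) = (Nat.card G : ℂ) * ∑ k : ↥K, θ k := by
    intro θ hθ
    have e := classInner_indFun K θ (χ := fun _ : G => (1 : ℂ)) (fun _ _ => rfl)
    simp only [Cfsg.classInner, map_one, mul_one, hcardK] at e
    have e2 : ∑ g : G, Cfsg.indFun K θ g = ∑ z ∈ S, Cfsg.indFun K θ z :=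
      (Finset.sum_subset (Finset.subset_univ S) fun z _ hz => (hind θ hθ).1 z hz).symm
    rw [e2] at e
    push_cast at e
    have hG0 : (Nat.card G : ℂ) ≠ 0 := natCard_ne_zero
    have hm0 : (2 * (m : ℂ)) ≠ 0 := by exact_mod_cast (by omega : 2 * m ≠ 0)
    calc (∑ z ∈ S, Cfsg.indFun K θ z) * (2 * m)
        = (Nat.card G : ℂ) * ((Nat.card G : ℂ)⁻¹ * ∑ z ∈ S, Cfsg.indFun K θ z) * (2 * m) := by
          rw [← mul_assoc (Nat.card G : ℂ), mul_inv_cancel₀ hG0, one_mul]
      _ = (Nat.card G : ℂ) * ((2 * (m : ℂ))⁻¹ * ∑ k : ↥K, θ k) * (2 * m) := by rw [e]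
      _ = (Nat.card G : ℂ) * ∑ k : ↥K, θ k := by
          rw [mul_assoc, mul_comm ((2 * (m : ℂ))⁻¹ * _) (2 * (m : ℂ)), ← mul_assoc (2 * (m : ℂ)),
            mul_inv_cancel₀ hm0, one_mul]
  -- the number of involutions
  have hmC : (m : ℂ) ≠ 0 := by exact_mod_cast (by omega : m ≠ 0)
  have hI : (I : ℂ) = 4 * (m : ℂ) ^ 2 - 2 * m + 1 := by
    have hI0 : (I : ℂ) ≠ 0 := by exact_mod_cast (Finset.card_pos.2 ⟨t, htT⟩).ne'
    let δ : ↥K → ℂ := fun k => if k = 1 then 0 else 1
    have e1 := hsum δ (if_pos rfl)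
    have e2 : ∑ k : ↥K, δ k = 2 * m - 1 := by
      have : ∀ k : ↥K, δ k = 1 - if k = 1 then 1 else 0 := fun k => by
        by_cases h : k = 1 <;> simp [δ, h]
      rw [Finset.sum_congr rfl fun k _ => this k, Finset.sum_sub_distrib, Finset.sum_const,
        Finset.card_univ, ← Nat.card_eq_fintype_card, hcardK, Finset.sum_ite_eq']
      simp
    have e3 : ∑ z ∈ S, Cfsg.indFun K δ z = 2 * S.card := by
      rw [mul_comm, ← nsmul_eq_mul, ← Finset.sum_const]
      refine Finset.sum_congr rfl fun z hz => ?_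
      simp only [hS, Finset.mem_filter, Finset.mem_univ, true_and] at hz
      obtain ⟨hz1, g, hg⟩ := hz
      have hcl := classFunction_isConj (isClassFunction_indFun K δ)
        (x := z) (y := g * z * g⁻¹) (isConj_iff.2 ⟨g, rfl⟩)
      have hne : (⟨g * z * g⁻¹, hg⟩ : ↥K) ≠ 1 := fun h => hz1 (by simpa using congrArg Subtype.val h)
      have := (hind δ (if_pos rfl)).2 ⟨g * z * g⁻¹, hg⟩
      rw [show δ ⟨g * z * g⁻¹, hg⟩ = 1 from if_neg hne,
        show δ (⟨g * z * g⁻¹, hg⟩⁻¹) = 1 from if_neg (fun h => hne (inv_eq_one.1 h))] at this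
      rw [hcl, this]; norm_num
    have e4 := hpairs (fun _ => 1)
    simp only [Finset.sum_const, nsmul_eq_mul, mul_one] at e4
    rw [e2, e3, hG] at e1
    push_cast at e1
    rw [← hIdef] at e4
    have hS' : (S.card : ℂ) = (2 * m - 1) * I := by
      apply mul_left_cancel₀ (show (4 * (m : ℂ)) ≠ 0 from mul_ne_zero (by norm_num) hmC)
      linear_combination e1
    rw [hS'] at e4
    apply mul_left_cancel₀ hI0
    linear_combination e4
  -- the test function
  let Zt : Subgroup ↥K := (Subgroup.zpowers t).subgroupOf K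
  letI : CommGroup ↥K := { (inferInstance : Group ↥K) with mul_comm := hKcomm.is_comm.comm }
  have hZt : Zt.index = m := by
    have e := Subgroup.card_mul_index Zt
    rw [hcardK, Nat.card_congr (Subgroup.subgroupOfEquivOfLe (Subgroup.zpowers_le.2 htK)).toEquiv,
      Nat.card_zpowers, ht] at e
    omega
  obtain ⟨lam, hlamt, k₀, hk₀⟩ : ∃ lam : ↥K →* ℂˣ, lam ⟨t, htK⟩ = 1 ∧ ∃ k, lam k * lam k ≠ 1 := by
    haveI : Nontrivial (↥K ⧸ Zt) :=
      Finite.one_lt_card_iff_nontrivial.1 (by rw [← Subgroup.index_eq_card, hZt]; omega)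
    obtain ⟨q, hq⟩ := exists_ne (1 : ↥K ⧸ Zt)
    haveI : NeZero (Monoid.exponent (↥K ⧸ Zt) : ℂ) :=
      ⟨Nat.cast_ne_zero.2 Monoid.exponent_ne_zero_of_finite⟩
    obtain ⟨φ, hφ⟩ := CommGroup.exists_apply_ne_one_of_hasEnoughRootsOfUnity (↥K ⧸ Zt) ℂ hq
    obtain ⟨k, rfl⟩ := QuotientGroup.mk'_surjective Zt q
    refine ⟨φ.comp (QuotientGroup.mk' Zt), ?_, k, fun h => hφ ?_⟩
    · rw [MonoidHom.comp_apply]
      have : QuotientGroup.mk' Zt ⟨t, htK⟩ = 1 :=
        (QuotientGroup.eq_one_iff _).2 (Subgroup.mem_subgroupOf.2 (Subgroup.mem_zpowers t))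
      rw [this, map_one]
    · rw [MonoidHom.comp_apply] at h
      rw [← orderOf_eq_one_iff]
      refine Nat.eq_one_of_dvd_coprimes (Nat.coprime_two_left.2 hodd) ?_ ?_
      · rw [orderOf_dvd_iff_pow_eq_one, pow_two]; exact h
      · refine (orderOf_map_dvd φ _).trans (hZt ▸ ?_)
        rw [Subgroup.index_eq_card]
        exact orderOf_dvd_natCard _
  let L : ↥K → ℂ := fun k => ((lam k : ℂˣ) : ℂ)
  let β : ↥K → ℂ := fun k => 1 - L k
  have hL1 : L 1 = 1 := by simp [L]
  have hβ1 : β 1 = 0 := by simp [β, hL1]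
  set θ := Cfsg.indFun K β with hθ
  have hLirr : Cfsg.IsIrrCharacter ↥K L := isIrr_linChar lam
  have hone : Cfsg.IsIrrCharacter ↥K (fun _ => 1) := isIrr_one
  have hLinv : Cfsg.IsIrrCharacter ↥K (fun k => L k⁻¹) := by
    have := isIrr_linChar lam⁻¹
    simpa [L, Units.val_inv_eq_inv_val] using this
  have hne1 : L ≠ (fun _ => 1) := fun h => hk₀ (by
    have h1 : lam k₀ = 1 := Units.ext (congrFun h k₀)
    rw [h1, one_mul])
  have hne2 : L ≠ (fun k => L k⁻¹) := fun h => hk₀ (by
    have h1 : lam k₀ = lam k₀⁻¹ := Units.ext (congrFun h k₀)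
    nth_rw 2 [h1]
    rw [map_inv, mul_inv_cancel])
  have hne3 : (fun k => L k⁻¹) ≠ (fun _ : ↥K => (1 : ℂ)) := fun h => hne1 (funext fun k => by
    simpa using congrFun h k⁻¹)
  have hβgen : Cfsg.IsGeneralizedCharacter ↥K β :=
    isGen_sub (isGen_of_isIrr hone) (isGen_of_isIrr hLirr)
  have hθgen : Cfsg.IsGeneralizedCharacter G θ := isGen_indFun K hβgen
  have hθnorm : Cfsg.classInner θ θ = 3 := by
    rw [hθ, classInner_indFun K β (isClassFunction_indFun K β)]
    have e : (fun k : ↥K => Cfsg.indFun K β (k : G)) = β + fun k => β k⁻¹ :=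
      funext fun k => (hind β hβ1).2 k
    rw [e, show β = (fun _ => (1 : ℂ)) - L from rfl,
      show (fun k => ((fun _ : ↥K => (1 : ℂ)) - L) k⁻¹) = (fun _ => (1 : ℂ)) - fun k => L k⁻¹ from rfl]
    simp only [classInner_add_right, classInner_sub_left, classInner_sub_right,
      classInner_isIrr_self hone, classInner_isIrr_self hLirr,
      classInner_isIrr_ne hone hLirr hne1.symm, classInner_isIrr_ne hLirr hone hne1,
      classInner_isIrr_ne hone hLinv hne3.symm, classInner_isIrr_ne hLirr hLinv hne2]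
    norm_num
  have hθone : Cfsg.classInner θ (fun _ => 1) = 1 := by
    rw [hθ, classInner_indFun K β (fun _ _ => rfl), show β = (fun _ => (1 : ℂ)) - L from rfl,
      classInner_sub_left, classInner_isIrr_self hone, classInner_isIrr_ne hLirr hone hne1, sub_zero]
  obtain ⟨c, hexp, hc⟩ := exists_int_coeff hθgen
  let χ₁ : Cfsg.IrrCharacter G := ⟨fun _ => 1, isIrr_one⟩
  have hc1 : c χ₁ = 1 := by
    have := hc χ₁
    rw [hθone] at this
    exact_mod_cast this.symm
  have hsq : ∑ χ, c χ ^ 2 = 3 := by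
    have := (classInner_self_eq_sum_sq (isClassFunction_of_isGen hθgen) c hc).symm.trans hθnorm
    exact_mod_cast this
  -- two more constituents, with multiplicities `±1`
  have hrest : ∑ χ ∈ Finset.univ.erase χ₁, c χ ^ 2 = 2 := by
    have := Finset.sum_erase_add Finset.univ (fun χ => c χ ^ 2) (Finset.mem_univ χ₁)
    simp only [hsq, hc1] at this
    linarith
  set U := (Finset.univ.erase χ₁).filter (fun χ => c χ ≠ 0) with hU
  have hUsum : ∑ χ ∈ U, c χ ^ 2 = 2 := by
    rw [hU, ← hrest]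
    refine Finset.sum_subset (Finset.filter_subset _ _) fun χ hχ hχ' => ?_
    simp only [Finset.mem_filter, hχ, true_and, not_not] at hχ'
    simp [hχ']
  have hUone : ∀ χ ∈ U, c χ ^ 2 = 1 := by
    intro χ hχ
    have h0 : c χ ≠ 0 := (Finset.mem_filter.1 hχ).2
    have hle : c χ ^ 2 ≤ 2 := hUsum ▸
      Finset.single_le_sum (f := fun χ => c χ ^ 2) (fun _ _ => sq_nonneg _) hχ
    have hb : -1 ≤ c χ ∧ c χ ≤ 1 := by constructor <;> nlinarith
    have : c χ = 1 ∨ c χ = -1 := by omega
    rcases this with h | h <;> simp [h]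
  have hUcard : U.card = 2 := by
    rw [Finset.sum_congr rfl hUone, Finset.sum_const, nsmul_eq_mul, mul_one] at hUsum
    exact_mod_cast hUsum
  obtain ⟨A, B, hAB, hUeq⟩ := Finset.card_eq_two.1 hUcard
  have hdec : ∀ F : Cfsg.IrrCharacter G → ℂ,
      ∑ χ, (c χ : ℂ) * F χ = F χ₁ + ((c A : ℂ) * F A + (c B : ℂ) * F B) := by
    intro F
    rw [← Finset.sum_erase_add Finset.univ _ (Finset.mem_univ χ₁), add_comm, hc1, Int.cast_one,
      one_mul, ← Finset.sum_pair hAB (f := fun χ => (c χ : ℂ) * F χ), ← hUeq, hU]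
    congr 1
    refine (Finset.sum_subset (Finset.filter_subset _ _) fun χ hχ hχ' => ?_).symm
    simp only [Finset.mem_filter, hχ, true_and, not_not] at hχ'
    simp [hχ']
  have hval : ∀ g : G, θ g = 1 + ((c A : ℂ) * (A : G → ℂ) g + (c B : ℂ) * (B : G → ℂ) g) := by
    intro g
    have e := congrFun hexp g
    rw [Finset.sum_apply] at e
    simp only [Pi.smul_apply, smul_eq_mul] at e
    rw [e, hdec (fun χ => (χ : G → ℂ) g)]
  obtain ⟨a, ha0, ha⟩ := exists_degree_pos A.2
  obtain ⟨b, hb0, hb⟩ := exists_degree_pos B.2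
  obtain ⟨A', hA', -⟩ := Cfsg.Agent.S0944.result A t ht
  obtain ⟨B', hB', -⟩ := Cfsg.Agent.S0944.result B t ht
  have eq1 : (0 : ℤ) = 1 + (c A * a + c B * b) := by
    have := hval 1
    rw [hθ, indFun_one, hβ1, mul_zero, ha, hb] at this
    exact_mod_cast this
  have eq2 : (0 : ℤ) = 1 + (c A * A' + c B * B') := by
    have h1 := (hind β hβ1).2 ⟨t, htK⟩
    have h2 : (⟨t, htK⟩ : ↥K)⁻¹ = ⟨t, htK⟩ := Subtype.ext (by
      push_cast
      rw [inv_eq_iff_mul_eq_one, ← pow_two, ← ht, pow_orderOf_eq_one])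
    have h3 : β ⟨t, htK⟩ = 0 := by simp [β, L, hlamt]
    rw [h2, h3, add_zero] at h1
    have := hval t
    rw [hθ, h1, hA', hB'] at this
    exact_mod_cast this
  have eq3 : (I : ℂ) * (1 + ((c A : ℂ) * A' ^ 2 / a + (c B : ℂ) * B' ^ 2 / b)) = 8 * (m : ℂ) ^ 2 := by
    have hI0 : (I : ℂ) ≠ 0 := by exact_mod_cast (Finset.card_pos.2 ⟨t, htT⟩).ne'
    have e1 := hpairs θ
    have e2 := hsum β hβ1
    rw [← hθ] at e2
    have e3 : ∑ k : ↥K, β k = 2 * m := by
      have h1 := classInner_isIrr_ne hLirr hone hne1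
      simp only [Cfsg.classInner, map_one, mul_one] at h1
      have h2 : ∑ k : ↥K, L k = 0 := (mul_eq_zero.1 h1).resolve_left (inv_ne_zero natCard_ne_zero)
      simp only [β, Finset.sum_sub_distrib, h2, sub_zero, Finset.sum_const, Finset.card_univ,
        ← Nat.card_eq_fintype_card, hcardK, nsmul_eq_mul, mul_one]
      push_cast
      ring
    have e4 : θ 1 = 0 := by rw [hθ, indFun_one, hβ1, mul_zero]
    have e5 : ∑ u ∈ T, ∑ v ∈ T, θ (u * v) =
        ∑ χ, (c χ : ℂ) * ((I : ℂ) ^ 2 * (χ : G → ℂ) t ^ 2 / (χ : G → ℂ) 1) := by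
      conv_lhs => rw [hexp]
      simp only [Finset.sum_apply, Pi.smul_apply, smul_eq_mul]
      rw [Finset.sum_congr rfl fun u _ => Finset.sum_comm, Finset.sum_comm]
      refine Finset.sum_congr rfl fun χ _ => ?_
      simp only [← Finset.mul_sum]
      congr 1
      rw [eq_div_iff (irr_one_ne_zero χ.2), hIdef]
      exact sum_pairs_irr χ.2 T t hTinv hTconj
    rw [e5, hdec] at e1
    simp only [show (χ₁ : G → ℂ) t = 1 from rfl, show (χ₁ : G → ℂ) 1 = 1 from rfl, one_pow,
      mul_one, div_one, ha, hb, hA', hB', e4, mul_zero, zero_add] at e1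
    rw [e3, hG] at e2
    push_cast at e2
    have e2' : ∑ z ∈ S, θ z = 4 * m * I := by
      apply mul_right_cancel₀ (show (2 * (m : ℂ)) ≠ 0 from mul_ne_zero two_ne_zero hmC)
      linear_combination e2
    rw [e2'] at e1
    apply mul_left_cancel₀ hI0
    linear_combination e1
  have hyb : (A' : ℤ) ^ 2 ≤ 4 * m := by
    have h1 := sum_irr_mul_conj_of_isConj (IsConj.refl t)
    rw [← hN, hcardN] at h1
    have h1' : ∑ χ : Cfsg.IrrCharacter G, Complex.normSq ((χ : G → ℂ) t) = ((4 * m : ℕ) : ℝ) := by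
      have h3 : ((∑ χ : Cfsg.IrrCharacter G, Complex.normSq ((χ : G → ℂ) t) : ℝ) : ℂ) =
          (((4 * m : ℕ) : ℝ) : ℂ) := by
        push_cast
        rw [Finset.sum_congr rfl fun χ _ => Complex.normSq_eq_conj_mul_self]
        push_cast at h1
        rw [← h1]
        exact Finset.sum_congr rfl fun χ _ => mul_comm _ _
      exact_mod_cast h3
    have h4 : Complex.normSq ((A : G → ℂ) t) ≤ ((4 * m : ℕ) : ℝ) := h1' ▸
      Finset.single_le_sum (f := fun χ : Cfsg.IrrCharacter G => Complex.normSq ((χ : G → ℂ) t))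
        (fun _ _ => Complex.normSq_nonneg _) (Finset.mem_univ A)
    rw [hA', Complex.normSq_intCast] at h4
    rw [sq]
    exact_mod_cast h4
  -- the Diophantine equation
  have hAU : c A ^ 2 = 1 := hUone A (by rw [hUeq]; simp)
  have hBU : c B ^ 2 = 1 := hUone B (by rw [hUeq]; simp)
  refine no_solution hm3 hodd (c A * a) (c A * A') ?_ ?_ ?_ ?_
  · rw [mul_pow, hAU, one_mul]; exact hyb
  · intro h0
    rcases mul_eq_zero.1 h0 with h0 | h0
    · rw [h0] at hAU; simp at hAU
    · omega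
  · intro h0
    have : c B * (b : ℤ) = 0 := by linarith
    rcases mul_eq_zero.1 this with h1 | h1
    · rw [h1] at hBU; simp at hBU
    · omega
  · have ha' : (a : ℂ) ≠ 0 := Nat.cast_ne_zero.2 ha0.ne'
    have hb' : (b : ℂ) ≠ 0 := Nat.cast_ne_zero.2 hb0.ne'
    have f1 : (c B : ℂ) * b = -(1 + (c A : ℂ) * a) := by
      have : ((0 : ℤ) : ℂ) = ((1 + (c A * a + c B * b) : ℤ) : ℂ) := congrArg _ eq1
      push_cast at this; linear_combination -this
    have f2 : (c B : ℂ) * B' = -(1 + (c A : ℂ) * A') := by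
      have : ((0 : ℤ) : ℂ) = ((1 + (c A * A' + c B * B') : ℤ) : ℂ) := congrArg _ eq2
      push_cast at this; linear_combination -this
    have g1 : (c A : ℂ) ^ 2 = 1 := by exact_mod_cast hAU
    have g2 : (c B : ℂ) ^ 2 = 1 := by exact_mod_cast hBU
    set X : ℂ := (c A : ℂ) * a with hX
    set Y : ℂ := (c A : ℂ) * A' with hY
    have hA0 : (c A : ℂ) ≠ 0 := fun h0 => by simp [h0] at g1
    have hB0 : (c B : ℂ) ≠ 0 := fun h0 => by simp [h0] at g2
    have hX0 : X ≠ 0 := mul_ne_zero hA0 ha'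
    have hX1 : 1 + X ≠ 0 := by
      intro h0
      rw [h0, neg_zero] at f1
      exact mul_ne_zero hB0 hb' f1
    have d1 : (c A : ℂ) * (A' : ℂ) ^ 2 / a = Y ^ 2 / X := by
      rw [hX, hY]; field_simp
    have d2 : (c B : ℂ) * (B' : ℂ) ^ 2 / b = -((1 + Y) ^ 2 / (1 + X)) := by
      rw [← div_neg, ← f1, ← neg_sq (1 + Y), ← f2]; field_simp
    rw [d1, d2, hI] at eq3
    field_simp at eq3
    have goal : ((4 * (m : ℂ) ^ 2 - 2 * m + 1)) * (X - Y) ^ 2 =
        8 * (m : ℂ) ^ 2 * (X * (X + 1)) := by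
      linear_combination eq3
    rw [hX, hY] at goal
    exact_mod_cast goal

end CfsgLib.FgsSix
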