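import Mathlib
import Cfsg.Agent.FgsSix.DerivedLength
import Cfsg.Agent.NilpotentLinear.DerivedLength
import Cfsg.Agent.Transfer.RankTwoNormal
import Cfsg.Agent.Linear.Basic
import Cfsg.Agent.Solvable.Nilpotent

/-!
# Derived length of `p`-subgroups of linear groups over finite fields
-/

namespace CfsgLib.FgsSix

open Module
open scoped commutatorElement

universe u

variable {F : Type u} [Field F] [Fintype F] {p : ℕ} [Fact p.Prime]

/-- When the prime `p` divides the order of a general linear group. -/
theorem dvd_card_units_end (hpq : ¬ p ∣ Fintype.card F) {V : Type*}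
    [AddCommGroup V] [Module F V] [FiniteDimensional F V] :
    p ∣ Nat.card (End F V)ˣ ↔ orderOf ((Fintype.card F : ℕ) : ZMod p) ≤ finrank F V := by
  classical
  have hp : p.Prime := Fact.out
  let b := finBasis F V
  rw [Nat.card_congr (Units.mapEquiv (LinearMap.toMatrixAlgEquiv b).toMulEquiv).toEquiv,
    Matrix.card_GL_field, CfsgLib.Linear.prod_pow_sub_pow, hp.dvd_mul,
    or_iff_right (fun h => hpq (hp.dvd_of_dvd_pow h)), Prime.dvd_finsetProd_iff hp.prime]
  have key : ∀ i : ℕ, p ∣ Fintype.card F ^ i - 1 ↔ orderOf ((Fintype.card F : ℕ) : ZMod p) ∣ i := by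
    intro i
    rw [← ZMod.natCast_eq_zero_iff, Nat.cast_sub (Nat.one_le_pow _ _ Fintype.card_pos),
      Nat.cast_pow, Nat.cast_one, sub_eq_zero, orderOf_dvd_iff_pow_eq_one]
  constructor
  · rintro ⟨i, hi, h⟩
    have := Nat.le_of_dvd (Nat.succ_pos i) ((key _).1 h)
    rw [Finset.mem_range] at hi
    omega
  · intro h
    have hne : ((Fintype.card F : ℕ) : ZMod p) ≠ 0 := fun h0 => hpq ((ZMod.natCast_eq_zero_iff _ _).1 h0)
    have hpos : 0 < orderOf ((Fintype.card F : ℕ) : ZMod p) :=
      orderOf_pos_iff.2 (isOfFinOrder_iff_pow_eq_one.2 ⟨p - 1, by have := hp.two_le; omega,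
        ZMod.pow_card_sub_one_eq_one hne⟩)
    refine ⟨orderOf ((Fintype.card F : ℕ) : ZMod p) - 1, Finset.mem_range.2 (by omega), (key _).2 ?_⟩
    rw [Nat.sub_add_cancel hpos]

omit [Fintype F] [Fact p.Prime] in
/-- If the image of `x` has order dividing `p`, the norm of `x` maps into the fixed space. -/
theorem mul_norm {V : Type*} [AddCommGroup V] [Module F V] (u : End F V) (h : u ^ p = 1) :
    u * ∑ k ∈ Finset.range p, u ^ k = ∑ k ∈ Finset.range p, u ^ k := by
  have h1 : ∑ k ∈ Finset.range p, u ^ (k + 1) + u ^ 0 = ∑ k ∈ Finset.range p, u ^ k + u ^ p := by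
    rw [← Finset.sum_range_succ' (fun k => u ^ k), Finset.sum_range_succ]
  rw [h, pow_zero, add_right_cancel_iff] at h1
  rw [Finset.mul_sum]
  conv_rhs => rw [← h1]
  exact Finset.sum_congr rfl fun k _ => (pow_succ' u k).symm

/-- Derived length bound for representations of `p`-groups over a finite field. -/
theorem derivedSeries_le_ker_of_finrank_lt (hp2 : p ≠ 2) (hpq : ¬ p ∣ Fintype.card F)
    (hpF : (p : F) ≠ 0) (m : ℕ) :
    ∀ (P : Type u) [Group P] [Finite P], IsPGroup p P →
    ∀ (V : Type u) [AddCommGroup V] [Module F V] [FiniteDimensional F V] (ρ : P →* End F V),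
      finrank F V < p ^ m * orderOf ((Fintype.card F : ℕ) : ZMod p) → derivedSeries P m ≤ ρ.ker := by
  have hp : p.Prime := Fact.out
  induction m with
  | zero =>
    intro P _ _ hP V _ _ _ ρ hV g _
    rw [pow_zero, one_mul] at hV
    have hnd : ¬ p ∣ Nat.card (End F V)ˣ := fun h => absurd ((dvd_card_units_end hpq).1 h) (by omega)
    obtain ⟨j, hj⟩ := IsPGroup.iff_orderOf.1 hP g
    have hfin : Finite (End F V) := Module.finite_of_finite F
    have h1 : orderOf (ρ.toHomUnits g) ∣ p ^ j := hj ▸ orderOf_map_dvd _ g
    have h2 : orderOf (ρ.toHomUnits g) ∣ Nat.card (End F V)ˣ := orderOf_dvd_natCard _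
    have h3 : orderOf (ρ.toHomUnits g) = 1 :=
      Nat.eq_one_of_dvd_coprimes ((Nat.Coprime.pow_left j (hp.coprime_iff_not_dvd.2 hnd))) h1 h2
    exact congrArg Units.val (orderOf_eq_one_iff.1 h3)
  | succ m ihm =>
    intro P _ _ hP V _ _ _ ρ hV
    induction hd : finrank F V using Nat.strong_induction_on generalizing P V with
    | _ d ihd =>
    classical
    have := Fintype.ofFinite P
    have hPK : (Fintype.card P : F) ≠ 0 := by
      obtain ⟨j, hj⟩ := IsPGroup.iff_card.1 hP
      rw [← Nat.card_eq_fintype_card, hj, Nat.cast_pow]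
      exact pow_ne_zero j hpF
    by_cases hred : ∃ U : Submodule F V, U ≠ ⊥ ∧ U ≠ ⊤ ∧ ∀ g : P, ∀ v ∈ U, ρ g v ∈ U
    · obtain ⟨U, hU0, hU1, hU⟩ := hred
      obtain ⟨W, hUW, hW⟩ := CfsgLib.NilpotentLinear.exists_invariant_compl hPK ρ U hU
      have hWne : W ≠ ⊤ := fun h => hU0 (by
        have := hUW.disjoint
        rwa [h, disjoint_top] at this)
      have step : ∀ (X : Submodule F V) (hX : ∀ g : P, ∀ v ∈ X, ρ g v ∈ X), X ≠ ⊤ →
          derivedSeries P (m + 1) ≤ (CfsgLib.NilpotentLinear.restrictRep ρ X hX).ker := by
        intro X hX hne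
        exact ihd _ (hd ▸ Submodule.finrank_lt hne) P hP X _
          (lt_trans (Submodule.finrank_lt hne) hV) rfl
      exact fun x hx => CfsgLib.NilpotentLinear.mem_ker_of_restrict hUW.codisjoint.eq_top hU hW
        (step U hU hU1 hx) (step W hW hWne hx)
    push Not at hred
    -- pass to the image
    let ρ' := ρ.toHomUnits
    have hR : IsPGroup p ↥ρ'.range := hP.of_surjective ρ'.rangeRestrict ρ'.rangeRestrict_surjective
    have hfinR : Finite ↥ρ'.range := Finite.of_surjective _ ρ'.rangeRestrict_surjective
    suffices hbot : derivedSeries ↥ρ'.range (m + 1) = ⊥ by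
      intro g hg
      have h1 := map_derivedSeries_le_derivedSeries ρ'.rangeRestrict (m + 1) (Subgroup.mem_map_of_mem _ hg)
      rw [hbot, Subgroup.mem_bot] at h1
      exact congrArg (fun u : ↥ρ'.range => ((u : (End F V)ˣ) : End F V)) h1
    set R := ρ'.range
    let σ : ↥R →* End F V := (Units.coeHom _).comp R.subtype
    have hσ : Function.Injective σ := fun a b h => Subtype.ext (Units.ext h)
    have hirr : ∀ U : Submodule F V, (∀ x : ↥R, ∀ v ∈ U, σ x v ∈ U) → U = ⊥ ∨ U = ⊤ := by
      intro U hU
      by_contra hcon
      push Not at hcon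
      obtain ⟨g, v, hv, hgv⟩ := hred U hcon.1 hcon.2
      exact hgv (hU ⟨ρ' g, g, rfl⟩ v hv)
    by_cases hab : IsMulCommutative ↥R
    · rw [eq_bot_iff]
      refine (derivedSeries_antitone _ (Nat.succ_le_succ (Nat.zero_le m))).trans ?_
      rw [derivedSeries_one, commutator_def, Subgroup.commutator_le]
      intro x _ y _
      rw [Subgroup.mem_bot, commutatorElement_eq_one_iff_commute]
      exact hab.is_comm.comm x y
    have hnc : ¬ IsCyclic ↥R := fun h => hab IsCyclic.isMulCommutative
    obtain ⟨A, hAn, hAe, hAc⟩ := CfsgLib.Transfer.exists_normal_elem_card_sq hp2 hR hnc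
    have hAne : A ≠ ⊥ := fun h => by
      rw [h, Subgroup.card_bot] at hAc
      exact (Nat.one_lt_pow two_ne_zero hp.one_lt).ne hAc
    -- a central element of order p in A
    obtain ⟨z, hzA, hzZ, hz1⟩ : ∃ z, z ∈ A ∧ z ∈ Subgroup.center ↥R ∧ z ≠ 1 := by
      have h0 : A ⊓ Subgroup.center ↥R ≠ ⊥ := by
        have := hR.isNilpotent
        exact fun h => hAne (by
          by_contra hne
          exact (CfsgLib.Solvable.inf_center_ne_bot (N := A) hne) h)
      obtain ⟨z, hz, hz1⟩ := (Subgroup.bot_or_exists_ne_one _).resolve_left h0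
      exact ⟨z, hz.1, hz.2, hz1⟩
    have hzc : ∀ g, g * z = z * g := fun g => Subgroup.mem_center_iff.1 hzZ g
    obtain ⟨a, haA, haz⟩ : ∃ a ∈ A, a ∉ Subgroup.zpowers z := by
      by_contra hcon
      push Not at hcon
      have h := Subgroup.card_dvd_of_le (H := A) hcon
      rw [hAc, Nat.card_zpowers, orderOf_eq_prime (hAe.2 z hzA) hz1] at h
      have := Nat.le_of_dvd hp.pos h
      have := hp.two_le
      nlinarith
    have hcomm : ∀ x ∈ A, ∀ y ∈ A, Commute x y := fun x hx y hy =>
      congrArg (Subtype.val (p := fun t => t ∈ A)) (hAe.1.is_comm.comm ⟨x, hx⟩ ⟨y, hy⟩)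
    let x : ZMod p → ↥R := fun i => a * z ^ i.val
    have hxA : ∀ i, x i ∈ A := fun i => A.mul_mem haA (A.pow_mem hzA _)
    have hzpow : ∀ i j : ℕ, (i : ZMod p) = j → z ^ i = z ^ j := by
      intro i j h
      rw [pow_eq_pow_iff_modEq, orderOf_eq_prime (hAe.2 z hzA) hz1]
      exact (ZMod.natCast_eq_natCast_iff _ _ _).1 h
    let N : ZMod p → End F V := fun i => ∑ k ∈ Finset.range p, σ (x i) ^ k
    let Nz : End F V := ∑ k ∈ Finset.range p, σ z ^ k
    -- the fixed space of z is zero
    have hfixz : ∀ v, σ z v = v → v = 0 := by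
      let U : Submodule F V := LinearMap.ker (σ z - 1)
      have hmem : ∀ v, v ∈ U ↔ σ z v = v := fun v => by simp [U, sub_eq_zero]
      intro v hv
      rcases hirr U (fun g v hv => by
        rw [hmem] at hv ⊢
        rw [← End.mul_apply, ← map_mul, ← hzc g, map_mul, End.mul_apply, hv]) with h | h
      · exact (Submodule.mem_bot F).1 (h ▸ (hmem v).2 hv)
      · exfalso
        refine hz1 (hσ (LinearMap.ext fun w => ?_))
        rw [(hmem w).1 (h ▸ Submodule.mem_top), map_one, End.one_apply]
    have hzp : σ z ^ p = 1 := by rw [← map_pow, hAe.2 z hzA, map_one]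
    have hNz : ∀ v, Nz v = 0 := fun v => hfixz _ (LinearMap.congr_fun (mul_norm (σ z) hzp) v)
    let W : ZMod p → Submodule F V := fun i => LinearMap.ker (σ (x i) - 1)
    have hW : ∀ i v, v ∈ W i ↔ σ (x i) v = v := fun i v => by simp [W, sub_eq_zero]
    have hNW : ∀ i v, N i v ∈ W i := fun i v => (hW i _).2
      (LinearMap.congr_fun (mul_norm (σ (x i)) (by rw [← map_pow, hAe.2 _ (hxA i), map_one])) v)
    -- the sum over all lines
    have hpow : ∀ (i : ZMod p) (k : ℕ), x i ^ k = a ^ k * z ^ (i.val * k) := by
      intro i k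
      rw [(hcomm a haA (z ^ i.val) (A.pow_mem hzA _)).mul_pow, ← pow_mul]
    have hswap : ∀ v, ∑ i : ZMod p, N i v = (p : F) • v := by
      intro v
      have h1 : ∀ k ∈ Finset.range p, ∑ i : ZMod p, (σ (x i) ^ k) v = if k = 0 then (p : F) • v else 0 := by
        intro k hk
        rw [Finset.mem_range] at hk
        split_ifs with h0
        · subst h0
          simp [Finset.card_univ, ← Nat.cast_smul_eq_nsmul F]
        · have hkz : (k : ZMod p) ≠ 0 := by
            rw [Ne, ZMod.natCast_eq_zero_iff]
            exact fun hd => absurd (Nat.le_of_dvd (Nat.pos_of_ne_zero h0) hd) (by omega)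
          calc ∑ i : ZMod p, (σ (x i) ^ k) v
              = ∑ i : ZMod p, σ (a ^ k) (σ (z ^ (i * (k : ZMod p)).val) v) := by
                refine Finset.sum_congr rfl fun i _ => ?_
                rw [← map_pow, hpow, map_mul, End.mul_apply,
                  hzpow (i.val * k) (i * (k : ZMod p)).val (by simp)]
            _ = ∑ j : ZMod p, σ (a ^ k) (σ (z ^ j.val) v) :=
                Fintype.sum_equiv (Equiv.mulRight₀ (k : ZMod p) hkz) _ _ fun i => rfl
            _ = σ (a ^ k) (Nz v) := by
                rw [← map_sum, LinearMap.sum_apply]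
                congr 1
                refine Finset.sum_bij' (fun j _ => j.val) (fun k _ => (k : ZMod p))
                  (fun j _ => Finset.mem_range.2 (ZMod.val_lt j)) (fun k _ => Finset.mem_univ _)
                  (fun j _ => ZMod.natCast_zmod_val j)
                  (fun k hk => ZMod.val_cast_of_lt (Finset.mem_range.1 hk)) (fun j _ => by rw [map_pow])
            _ = 0 := by rw [hNz, map_zero]
      simp only [N, LinearMap.sum_apply]
      rw [Finset.sum_comm, Finset.sum_congr rfl h1, Finset.sum_ite_eq']
      simp [hp.pos]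
    -- projections annihilate the other components
    have horth : ∀ i j v, v ∈ W j → N i v = if i = j then (p : F) • v else 0 := by
      intro i j v hv
      rw [hW] at hv
      have hfix : ∀ (k : ℕ), (σ (x j) ^ k) v = v := fun k => by
        induction k with
        | zero => simp
        | succ k ih => rw [pow_succ, End.mul_apply, hv, ih]
      simp only [N, LinearMap.sum_apply]
      split_ifs with h
      · subst h
        rw [Finset.sum_congr rfl fun k _ => hfix k]
        simp [← Nat.cast_smul_eq_nsmul F]
      · have hne : i - j ≠ 0 := sub_ne_zero.2 h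
        calc ∑ k ∈ Finset.range p, (σ (x i) ^ k) v
            = ∑ k ∈ Finset.range p, σ (z ^ ((i - j) * (k : ZMod p)).val) v := by
              refine Finset.sum_congr rfl fun k _ => ?_
              have e : x i ^ k = z ^ ((i - j) * (k : ZMod p)).val * x j ^ k := by
                rw [hpow, hpow, ← mul_assoc, ← (hcomm _ (A.pow_mem haA k) _ (A.pow_mem hzA _)).eq, mul_assoc,
                  ← pow_add]
                congr 1
                refine hzpow _ _ ?_
                push_cast
                rw [ZMod.natCast_zmod_val, ZMod.natCast_zmod_val, ZMod.natCast_zmod_val]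
                ring
              rw [← map_pow σ (x i), e, map_mul, End.mul_apply, map_pow σ (x j), hfix]
          _ = ∑ t : ZMod p, σ (z ^ ((i - j) * t).val) v := by
              refine Finset.sum_bij' (fun k _ => (k : ZMod p)) (fun t _ => t.val)
                (fun k _ => Finset.mem_univ _) (fun t _ => Finset.mem_range.2 (ZMod.val_lt t))
                (fun k hk => ZMod.val_cast_of_lt (Finset.mem_range.1 hk))
                (fun t _ => ZMod.natCast_zmod_val t) (fun k _ => rfl)
          _ = ∑ t : ZMod p, σ (z ^ t.val) v :=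
              Fintype.sum_equiv (Equiv.mulLeft₀ (i - j) hne) _ _ fun t => rfl
          _ = Nz v := by
              rw [LinearMap.sum_apply]
              refine Finset.sum_bij' (fun j _ => j.val) (fun k _ => (k : ZMod p))
                (fun j _ => Finset.mem_range.2 (ZMod.val_lt j)) (fun k _ => Finset.mem_univ _)
                (fun j _ => ZMod.natCast_zmod_val j)
                (fun k hk => ZMod.val_cast_of_lt (Finset.mem_range.1 hk)) (fun j _ => by rw [map_pow])
          _ = 0 := hNz v
    let T : (∀ i : ZMod p, ↥(W i)) →ₗ[F] V := ∑ i, (W i).subtype ∘ₗ LinearMap.proj i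
    have hT : ∀ f, T f = ∑ i, (f i : V) := fun f => by simp [T]
    have hTinj : Function.Injective T := by
      rw [injective_iff_map_eq_zero]
      intro f hf
      funext i
      have h2 := congrArg (N i) hf
      rw [map_zero, hT, map_sum, Finset.sum_congr rfl fun j _ => horth i j _ (f j).2,
        Finset.sum_ite_eq, if_pos (Finset.mem_univ i)] at h2
      exact Subtype.ext ((smul_eq_zero.1 h2).resolve_left hpF)
    have hTsurj : Function.Surjective T := by
      intro v
      refine ⟨fun i => (p : F)⁻¹ • ⟨N i v, hNW i v⟩, ?_⟩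
      simp only [hT, Submodule.coe_smul, ← Finset.smul_sum, hswap, smul_smul, inv_mul_cancel₀ hpF, one_smul]
    have hdim : ∑ i : ZMod p, finrank F (W i) = finrank F V := by
      rw [← (LinearEquiv.ofBijective T ⟨hTinj, hTsurj⟩).finrank_eq, Module.finrank_pi_fintype]
    -- the action of R on the components
    have hshift : ∀ g : ↥R, ∃ j : ZMod p, ∀ i, g * x i * g⁻¹ = x (i + j) := by
      intro g
      have hmemA : g * a * g⁻¹ ∈ A := hAn.conj_mem a haA g
      have hcz : g * a * g⁻¹ * a⁻¹ ∈ Subgroup.zpowers z := by
        -- the quotient of A by the centre part has order p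
        have hZn : (Subgroup.zpowers z).Normal := Subgroup.Normal.mk fun n hn g => by
          obtain ⟨k, rfl⟩ := Subgroup.mem_zpowers_iff.1 hn
          rw [(Commute.zpow_right (show Commute g z from hzc g) k).eq, mul_inv_cancel_right]
          exact Subgroup.zpow_mem_zpowers z k
        set Z := Subgroup.zpowers z
        set A' := A.map (QuotientGroup.mk' Z)
        have hA'n : A'.Normal := hAn.map _ (QuotientGroup.mk'_surjective Z)
        have hA'c : Nat.card ↥A' = p := by
          have h1 : Nat.card ↥A' * Nat.card ↥Z = Nat.card ↥A := by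
            have h := Subgroup.card_mul_index (Z.subgroupOf A)
            rw [Nat.card_congr (Subgroup.subgroupOfEquivOfLe (Subgroup.zpowers_le.2 hzA)).toEquiv] at h
            rw [← h, mul_comm]
            congr 1
            have hr := Subgroup.index_ker ((QuotientGroup.mk' Z).comp A.subtype)
            rw [← MonoidHom.comap_ker, QuotientGroup.ker_mk', MonoidHom.range_comp, Subgroup.range_subtype] at hr
            exact hr.symm
          rw [hAc, Nat.card_zpowers, orderOf_eq_prime (hAe.2 z hzA) hz1, pow_two] at h1
          exact Nat.eq_of_mul_eq_mul_right hp.pos h1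
        have hR' : IsPGroup p (↥R ⧸ Z) := hR.to_quotient Z
        have hle : A' ≤ Subgroup.center (↥R ⧸ Z) :=
          CfsgLib.OddOrder.BG4.le_center_of_normal_card_prime hR' hA'c
        have hc := Subgroup.mem_center_iff.1 (hle (Subgroup.mem_map_of_mem _ haA)) (QuotientGroup.mk' Z g)
        rw [← QuotientGroup.eq_one_iff (N := Z)]
        have hc' : (QuotientGroup.mk' Z g) * (QuotientGroup.mk' Z a) * (QuotientGroup.mk' Z g)⁻¹ *
            (QuotientGroup.mk' Z a)⁻¹ = 1 := by rw [hc]; simp
        simpa using hc'
      obtain ⟨k, hk⟩ : ∃ k : ℕ, z ^ k = g * a * g⁻¹ * a⁻¹ :=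
        (mem_powers_iff_mem_zpowers.2 hcz)
      refine ⟨k, fun i => ?_⟩
      have e : g * x i * g⁻¹ = (g * a * g⁻¹) * z ^ i.val := by
        have := (Commute.pow_right (show Commute g z from hzc g) i.val).eq
        calc g * (a * z ^ i.val) * g⁻¹ = g * a * (z ^ i.val * g⁻¹) := by group
          _ = g * a * (g⁻¹ * z ^ i.val) := by
              rw [((Commute.pow_right (show Commute g z from hzc g) i.val).inv_left).eq]
          _ = _ := by group
      have e2 : g * a * g⁻¹ = a * z ^ k := by
        rw [(hcomm a haA _ (A.pow_mem hzA k)).eq, hk, inv_mul_cancel_right]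
      show g * x i * g⁻¹ = a * z ^ (i + (k : ZMod p)).val
      rw [e, e2, mul_assoc, ← pow_add]
      congr 1
      exact hzpow _ _ (by push_cast; rw [ZMod.natCast_zmod_val, ZMod.natCast_zmod_val]; ring)
    choose sh hsh using hshift
    have hmapW : ∀ g i, ∀ v ∈ W i, σ g v ∈ W (i + sh g) := by
      intro g i v hv
      rw [hW] at hv ⊢
      rw [← hsh g i, ← End.mul_apply, ← map_mul, inv_mul_cancel_right, map_mul, End.mul_apply, hv]
    -- some element moves the components
    obtain ⟨g₀, hg₀⟩ : ∃ g, sh g ≠ 0 := by
      by_contra hcon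
      push Not at hcon
      have hWi : ∀ i, W i = ⊥ := by
        intro i
        refine (hirr (W i) fun g v hv => ?_).resolve_right fun htop => ?_
        · simpa [hcon g] using hmapW g i v hv
        · have hx1 : x i = 1 := hσ (LinearMap.ext fun w => by
            rw [(hW i w).1 (htop ▸ Submodule.mem_top), map_one, End.one_apply])
          exact haz ⟨-(i.val : ℤ), by
            show z ^ (-(i.val : ℤ)) = a
            rw [zpow_neg, zpow_natCast, eq_comm, eq_inv_iff_mul_eq_one]
            exact hx1⟩
      refine hz1 (hσ (LinearMap.ext fun w => ?_))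
      obtain ⟨f, rfl⟩ := hTsurj w
      have h0 : f = 0 := funext fun i => Subtype.ext ((Submodule.mem_bot F).1 (hWi i ▸ (f i).2))
      simp [h0]
    have hle : ∀ i, finrank F (W i) ≤ finrank F (W (i + sh g₀)) := by
      intro i
      refine LinearMap.finrank_le_finrank_of_injective
        (f := (σ g₀).restrict (hmapW g₀ i)) fun u w h => Subtype.ext ?_
      have := congrArg (σ g₀⁻¹) (congrArg Subtype.val h)
      simpa [← End.mul_apply, ← map_mul] using this
    have hall : ∀ i j, finrank F (W i) ≤ finrank F (W j) := by
      intro i j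
      have hk : ∀ k : ℕ, finrank F (W i) ≤ finrank F (W (i + k * sh g₀)) := by
        intro k
        induction k with
        | zero => rw [Nat.cast_zero, zero_mul, add_zero]
        | succ k ih =>
          refine ih.trans ((hle _).trans (le_of_eq ?_))
          rw [Nat.cast_succ, add_mul, one_mul, add_assoc]
      have := hk ((j - i) / sh g₀).val
      rwa [ZMod.natCast_zmod_val, div_mul_cancel₀ _ hg₀, add_sub_cancel] at this
    have hlt : ∀ i, finrank F (W i) < p ^ m * orderOf ((Fintype.card F : ℕ) : ZMod p) := by
      intro i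
      have h1 : p * finrank F (W i) ≤ finrank F V := by
        rw [← hdim]
        calc p * finrank F (W i) = ∑ _j : ZMod p, finrank F (W i) := by simp
          _ ≤ _ := Finset.sum_le_sum fun j _ => hall i j
      have h2 : p * finrank F (W i) < p * (p ^ m * orderOf ((Fintype.card F : ℕ) : ZMod p)) := by
        rw [← mul_assoc, ← pow_succ']; omega
      exact lt_of_mul_lt_mul_left h2 (Nat.zero_le _)
    let C : Subgroup ↥R := Subgroup.centralizer {a}
    have hCc : commutator ↥R ≤ C := by
      rw [commutator_def, Subgroup.commutator_le]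
      intro g _ h _
      rw [Subgroup.mem_centralizer_singleton_iff]
      have hj : ∀ g i, x (i + sh g) = g * x i * g⁻¹ := fun g i => (hsh g i).symm
      have hxinj : Function.Injective x := by
        intro i j hij
        have h1 : z ^ i.val = z ^ j.val := mul_left_cancel hij
        rw [pow_eq_pow_iff_modEq, orderOf_eq_prime (hAe.2 z hzA) hz1, ← ZMod.natCast_eq_natCast_iff,
          ZMod.natCast_zmod_val, ZMod.natCast_zmod_val] at h1
        exact h1
      have hadd : ∀ g h, sh (g * h) = sh g + sh h := fun g h => by
        have h1 : x (0 + sh (g * h)) = x (0 + sh h + sh g) := by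
          rw [hj, hj g, hj h]; group
        have := hxinj h1
        rw [zero_add, zero_add] at this
        rw [this, add_comm]
      have hinv : ∀ g, sh g⁻¹ = - sh g := fun g => by
        have h1 : x (0 + sh g⁻¹ + sh g) = x 0 := by rw [hj, hj g⁻¹]; group
        have := hxinj h1
        rw [zero_add] at this
        exact eq_neg_of_add_eq_zero_left this
      have h0 : sh ⁅g, h⁆ = 0 := by
        rw [commutatorElement_def, hadd, hadd, hadd, hinv, hinv]; ring
      have h1 := hsh ⁅g, h⁆ 0
      rw [h0, add_zero] at h1
      have hx0 : x 0 = a := by simp [x]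
      rw [hx0, mul_inv_eq_iff_eq_mul] at h1
      exact h1
    have hCinv : ∀ i, ∀ c : ↥C, ∀ v ∈ W i, (σ.comp C.subtype) c v ∈ W i := by
      intro i c v hv
      rw [hW] at hv ⊢
      have hc : Commute (x i) (c : ↥R) :=
        ((show Commute a (c : ↥R) from (Subgroup.mem_centralizer_singleton_iff.1 c.2).symm)).mul_left
          ((show Commute z (c : ↥R) from (hzc c).symm).pow_left i.val)
      show σ (x i) (σ (c : ↥R) v) = σ (c : ↥R) v
      rw [← End.mul_apply, ← map_mul, hc.eq, map_mul, End.mul_apply, hv]
    rw [eq_bot_iff]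
    intro g hg
    obtain ⟨c, hc, rfl⟩ := derivedSeries_succ_le_map hCc m hg
    refine Subgroup.mem_bot.2 (hσ (LinearMap.ext fun w => ?_))
    obtain ⟨f, rfl⟩ := hTsurj w
    rw [map_one, End.one_apply, hT, map_sum]
    refine Finset.sum_congr rfl fun i _ => ?_
    have := ihm ↥C (hR.to_subgroup C) ↥(W i) (CfsgLib.NilpotentLinear.restrictRep (σ.comp C.subtype) (W i) (hCinv i))
      (hlt i) hc
    exact congrArg Subtype.val (LinearMap.congr_fun this (f i))

/-- The natural representation of a wreath product on functions. -/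
def wreathRep {D Q V : Type*} [Group D] [Group Q] [AddCommGroup V] [Module F V] (σ : D →* End F V) :
    D ≀ᵣ Q →* End F (Q → V) where
  toFun w :=
    { toFun := fun v x => σ (w.left x) (v (w.right⁻¹ * x))
      map_add' := fun u v => by funext x; simp
      map_smul' := fun c v => by funext x; simp }
  map_one' := by
    refine LinearMap.ext fun v => funext fun x => ?_
    simp
  map_mul' a b := by
    refine LinearMap.ext fun v => funext fun x => ?_
    simp [mul_assoc]

omit [Fintype F] in
theorem wreathRep_injective {D Q V : Type*} [Group D] [Group Q] [AddCommGroup V] [Module F V]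
    [Nontrivial V] {σ : D →* End F V} (hσ : Function.Injective σ) :
    Function.Injective (wreathRep (Q := Q) σ) := by
  classical
  rw [injective_iff_map_eq_one]
  intro w hw
  have h : ∀ (v : Q → V) x, σ (w.left x) (v (w.right⁻¹ * x)) = v x := fun v x =>
    congrFun (LinearMap.congr_fun hw v) x
  obtain ⟨u, hu⟩ := exists_ne (0 : V)
  have hr : w.right = 1 := by
    by_contra hne
    have := h (Pi.single 1 u) 1
    rw [Pi.single_eq_same, Pi.single_eq_of_ne (by simpa using hne), map_zero] at this
    exact hu this.symm
  refine RegularWreathProduct.ext (funext fun x => hσ (LinearMap.ext fun v => ?_)) hr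
  simpa [hr] using h (fun _ => v) x

omit [Fintype F] in
/-- Extending endomorphisms by the identity to a larger space. -/
theorem exists_injective_hom_units {W : Type*} [Group W] {V U : Type*} [AddCommGroup V] [Module F V]
    [FiniteDimensional F V] [AddCommGroup U] [Module F U] [FiniteDimensional F U]
    (hle : finrank F V ≤ finrank F U) (σ : W →* End F V) (hσ : Function.Injective σ) :
    ∃ f : W →* (End F U)ˣ, Function.Injective f := by
  let X := Fin (finrank F U - finrank F V) → F
  have hd : finrank F (V × X) = finrank F U := by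
    rw [Module.finrank_prod, Module.finrank_fin_fun]; omega
  let e : (V × X) ≃ₗ[F] U := LinearEquiv.ofFinrankEq _ _ hd
  let τ : W →* End F U :=
    { toFun := fun w => e.conj ((σ w).prodMap LinearMap.id)
      map_one' := by
        refine LinearMap.ext fun u => ?_
        simp [LinearEquiv.conj_apply]
      map_mul' := fun a b => by
        refine LinearMap.ext fun u => ?_
        simp [LinearEquiv.conj_apply] }
  refine ⟨τ.toHomUnits, fun a b h => hσ (LinearMap.ext fun v => ?_)⟩
  have h1 : τ a = τ b := congrArg Units.val h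
  have := congrArg Prod.fst (congrArg e.symm (LinearMap.congr_fun h1 (e (v, 0))))
  simpa [τ, LinearEquiv.conj_apply] using this

end CfsgLib.FgsSix
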