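import Mathlib
import Cfsg.Agent.S0126
import Cfsg.Agent.FgsSix.Frobenius

/-!
# Elements of order `p ^ s` in groups with noncyclic Sylow `p`-subgroup (Miller, Kulakoff)

For an odd prime `p` and `s ≥ 2` their number is divisible by `p ^ s`.
-/

namespace CfsgLib.FgsSix

open scoped Pointwise commutatorElement

variable {G : Type*} [Group G] [Finite G]

/-- Counting elements of a given order by the cyclic subgroup they generate. -/
theorem card_orderOf_eq_mul (d : ℕ) (P : Subgroup G → Prop) :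
    Nat.card {x : G // orderOf x = d ∧ P (Subgroup.zpowers x)} =
      Nat.totient d * Nat.card {C : Subgroup G // (IsCyclic ↥C ∧ Nat.card ↥C = d) ∧ P C} := by
  classical
  let f : {x : G // orderOf x = d ∧ P (Subgroup.zpowers x)} →
      {C : Subgroup G // (IsCyclic ↥C ∧ Nat.card ↥C = d) ∧ P C} :=
    fun x => ⟨Subgroup.zpowers x.1, ⟨Subgroup.isCyclic_zpowers x.1, by rw [Nat.card_zpowers, x.2.1]⟩, x.2.2⟩
  haveI := Fintype.ofFinite G
  haveI : Fintype {C : Subgroup G // (IsCyclic ↥C ∧ Nat.card ↥C = d) ∧ P C} := Fintype.ofFinite _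
  rw [← Nat.card_congr (Equiv.sigmaFiberEquiv f), Nat.card_sigma, mul_comm,
    Finset.sum_const_nat (m := Nat.totient d), Nat.card_eq_fintype_card, Finset.card_univ]
  rintro ⟨C, ⟨hC, hCd⟩, hPC⟩ -
  haveI := hC
  have h : Nat.card {y : ↥C // orderOf y = d} = Nat.totient d := by
    rw [Nat.card_eq_fintype_card, Fintype.card_subtype]
    exact IsCyclic.card_orderOf_eq_totient (by rw [← Nat.card_eq_fintype_card, hCd])
  rw [← h]
  refine Nat.card_congr (Equiv.ofBijective (fun x => ⟨⟨x.1.1, ?_⟩, ?_⟩) ⟨?_, ?_⟩)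
  · have h1 : Subgroup.zpowers x.1.1 = C := congrArg Subtype.val x.2
    exact h1.le (Subgroup.mem_zpowers _)
  · rw [Subgroup.orderOf_mk]; exact x.1.2.1
  · intro a b hab
    exact Subtype.ext (Subtype.ext (congrArg (fun z : {y : ↥C // orderOf y = d} => (z.1 : G)) hab))
  · rintro ⟨⟨y, hy⟩, hyd⟩
    rw [Subgroup.orderOf_mk] at hyd
    have h1 : Subgroup.zpowers y = C :=
      Subgroup.eq_of_le_of_card_ge (Subgroup.zpowers_le.2 hy) (by rw [Nat.card_zpowers, hyd, hCd])
    exact ⟨⟨⟨y, hyd, h1.symm ▸ hPC⟩, Subtype.ext h1⟩, rfl⟩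

/-- `φ d` divides the number of elements of order `d` with a property of the generated subgroup. -/
theorem totient_dvd_card_orderOf_eq_and (d : ℕ) (P : Subgroup G → Prop) :
    Nat.totient d ∣ Nat.card {x : G // orderOf x = d ∧ P (Subgroup.zpowers x)} :=
  Dvd.intro _ (card_orderOf_eq_mul d P).symm

/-- The `p`-group case of the theorem of Miller and Kulakoff. -/
theorem pow_dvd_card_orderOf_of_pGroup {p : ℕ} [hp : Fact p.Prime] (hodd : p ≠ 2)
    (hG : IsPGroup p G) (hnc : ¬ IsCyclic G) {s : ℕ} (hs : 2 ≤ s) :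
    p ^ s ∣ Nat.card {x : G // orderOf x = p ^ s} := by
  classical
  obtain ⟨E, hE, hEa, hEc⟩ := Cfsg.Agent.S0126.result hodd hG hnc
  haveI := hE
  obtain ⟨Z, hZ, hZE, hZc⟩ := CfsgLib.OddOrder.BG4.exists_normal_card_le hG E 1
    (by rw [hEc]; exact Nat.pow_le_pow_right hp.out.pos one_le_two)
  haveI := hZ
  rw [pow_one] at hZc
  have hZcen := CfsgLib.OddOrder.BG4.le_center_of_normal_card_prime hG hZc
  -- the image of `E` modulo `Z` is central
  have hcomm : ∀ e ∈ E, ∀ x : G, ⁅e, x⁆ ∈ Z := by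
    haveI : (E.map (QuotientGroup.mk' Z)).Normal :=
      hE.map _ (QuotientGroup.mk'_surjective Z)
    have hc : Nat.card ↥(E.map (QuotientGroup.mk' Z)) = p := by
      have h2 : Nat.card ↥(Z.subgroupOf E) * (Z.subgroupOf E).index = Nat.card ↥E :=
        Subgroup.card_mul_index _
      have h3 : (Z.subgroupOf E).index = Nat.card ↥(E.map (QuotientGroup.mk' Z)) := by
        have e := Subgroup.index_ker ((QuotientGroup.mk' Z).comp E.subtype)
        rw [← MonoidHom.comap_ker, QuotientGroup.ker_mk'] at e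
        rw [MonoidHom.range_comp, Subgroup.range_subtype] at e
        exact e
      rw [Nat.card_congr (Subgroup.subgroupOfEquivOfLe hZE).toEquiv, hZc, hEc, h3, sq] at h2
      exact Nat.eq_of_mul_eq_mul_left hp.out.pos h2
    have hcen := CfsgLib.OddOrder.BG4.le_center_of_normal_card_prime (hG.to_quotient Z) hc
    intro e he x
    rw [← QuotientGroup.eq_one_iff]
    change QuotientGroup.mk' Z ⁅e, x⁆ = 1
    rw [map_commutatorElement, commutatorElement_eq_one_iff_mul_comm]
    exact (Subgroup.mem_center_iff.1 (hcen ⟨e, he, rfl⟩) _).symm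
  have hpow : ∀ e ∈ E, ∀ x : G, (x * e) ^ p = x ^ p := by
    intro e he x
    have hc : ∀ z, Commute ⁅e, x⁆ z := fun z =>
      (Subgroup.mem_center_iff.1 (hZcen (hcomm e he x)) z).symm
    rw [CfsgLib.OddOrder.Stab.mul_pow_of_commutator_central hc]
    obtain ⟨k, hk⟩ := hp.out.dvd_choose_self (k := 2) (by norm_num)
      (lt_of_le_of_ne hp.out.two_le (Ne.symm hodd))
    have hcp : ⁅e, x⁆ ^ p = 1 := by
      have := pow_card_eq_one' (x := (⟨_, hcomm e he x⟩ : ↥Z))
      rw [hZc] at this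
      exact congrArg Subtype.val this
    rw [hk, pow_mul, hcp, one_pow, mul_one, hEa.2 e he, mul_one]
  obtain ⟨s, rfl⟩ : ∃ t, s = t + 2 := ⟨s - 2, by omega⟩
  have hp1 := hp.out.one_lt
  have horder : ∀ x : G, orderOf x = p ^ (s + 2) ↔
      x ^ p ^ (s + 2) = 1 ∧ x ^ p ^ (s + 1) ≠ 1 := by
    intro x
    refine ⟨fun h => ⟨h ▸ pow_orderOf_eq_one x, fun h1 => ?_⟩, fun h => orderOf_eq_prime_pow h.2 h.1⟩
    have h2 := orderOf_dvd_iff_pow_eq_one.2 h1
    rw [h, Nat.pow_dvd_pow_iff_le_right hp1] at h2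
    omega
  have hEinv : ∀ e ∈ E, ∀ x : G, orderOf x = p ^ (s + 2) → orderOf (x * e) = p ^ (s + 2) := by
    intro e he x hx
    have key : ∀ j : ℕ, (x * e) ^ p ^ (j + 1) = x ^ p ^ (j + 1) := fun j => by
      rw [pow_succ' p j, pow_mul, pow_mul, hpow e he x]
    rw [horder] at hx ⊢
    rw [key, key]
    exact hx
  set X : Set G := {x | orderOf x = p ^ (s + 2)} with hX
  set Y : Set (G ⧸ E) := QuotientGroup.mk '' X with hY
  have hpre : QuotientGroup.mk ⁻¹' Y = X := by
    ext x
    refine ⟨?_, fun hx => ⟨x, hx, rfl⟩⟩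
    rintro ⟨w, hw, hwx⟩
    have := hEinv _ (QuotientGroup.eq.1 hwx) w hw
    rwa [mul_inv_cancel_left] at this
  have hcard : Nat.card {x : G // orderOf x = p ^ (s + 2)} = p ^ 2 * Nat.card ↥Y := by
    have := QuotientGroup.card_preimage_mk E Y
    rw [hpre, hEc] at this
    exact this
  rw [hcard, show p ^ (s + 2) = p ^ 2 * p ^ s by ring]
  refine Nat.mul_dvd_mul_left _ ?_
  haveI := Fintype.ofFinite (G ⧸ E)
  rw [Nat.card_eq_fintype_card, ← Set.toFinset_card,
    Finset.card_eq_sum_card_image (fun y : G ⧸ E => orderOf y)]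
  refine Finset.dvd_sum fun d hd => ?_
  obtain ⟨y, hy, rfl⟩ := Finset.mem_image.1 hd
  rw [Set.mem_toFinset] at hy
  have hlow : ∀ y ∈ Y, p ^ (s + 1) ∣ orderOf y := by
    rintro _ ⟨x, hx, rfl⟩
    have h1 : x ^ orderOf (x : G ⧸ E) ∈ E := by
      rw [← QuotientGroup.eq_one_iff, QuotientGroup.mk_pow, pow_orderOf_eq_one]
    have h2 : orderOf x ∣ orderOf (x : G ⧸ E) * p := by
      rw [orderOf_dvd_iff_pow_eq_one, pow_mul]
      exact hEa.2 _ h1
    rw [show orderOf x = p ^ (s + 1) * p by rw [hx]; ring] at h2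
    exact Nat.dvd_of_mul_dvd_mul_right hp.out.pos h2
  let PP : Subgroup (G ⧸ E) → Prop := fun C => ∃ w ∈ Y, Subgroup.zpowers w = C
  have hiff : ∀ z : G ⧸ E, PP (Subgroup.zpowers z) ↔ z ∈ Y := by
    intro z
    refine ⟨?_, fun hz => ⟨z, hz, rfl⟩⟩
    rintro ⟨w, hw, hwz⟩
    obtain ⟨k, hk⟩ := Subgroup.mem_zpowers_iff.1 (hwz.symm ▸ Subgroup.mem_zpowers z)
    have how : orderOf w = orderOf z := by rw [← Nat.card_zpowers, hwz, Nat.card_zpowers]
    have hpw : p ∣ orderOf w := (dvd_pow_self p s.succ_ne_zero).trans (hlow w hw)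
    have hkcop : ¬ (p : ℤ) ∣ k := by
      rintro ⟨j, rfl⟩
      obtain ⟨t, ht⟩ := hpw
      have h3 : z ^ t = 1 := by
        rw [← hk, ← zpow_natCast, ← zpow_mul, show (p : ℤ) * j * t = ((p * t : ℕ) : ℤ) * j by push_cast; ring,
          ← ht, zpow_mul, zpow_natCast, pow_orderOf_eq_one, one_zpow]
      have h4 := orderOf_dvd_iff_pow_eq_one.2 h3
      rw [← how, ht] at h4
      have h5 : 0 < t := Nat.pos_of_ne_zero fun h => by
        rw [h, mul_zero] at ht; exact (orderOf_pos w).ne' ht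
      have h6 := Nat.le_of_dvd h5 h4
      have h7 : 2 * t ≤ p * t := Nat.mul_le_mul_right _ hp.out.two_le
      omega
    obtain ⟨x, hx, rfl⟩ := hw
    refine ⟨x ^ k, ?_, by rw [QuotientGroup.mk_zpow, hk]⟩
    have hgen : Subgroup.zpowers (x ^ k) = Subgroup.zpowers x := by
      refine le_antisymm (Subgroup.zpowers_le.2 ⟨k, rfl⟩) (Subgroup.zpowers_le.2 ?_)
      obtain ⟨a, b, hab⟩ : IsCoprime ((orderOf x : ℕ) : ℤ) k := by
        rw [show orderOf x = p ^ (s + 2) from hx]
        push_cast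
        exact ((Nat.prime_iff_prime_int.1 hp.out).coprime_iff_not_dvd.2 hkcop).pow_left
      refine ⟨b, ?_⟩
      change (x ^ k) ^ b = x
      conv_rhs => rw [← zpow_one x, ← hab, zpow_add, mul_comm a, zpow_mul, zpow_natCast,
        pow_orderOf_eq_one, one_zpow, one_mul, mul_comm b, zpow_mul]
    show orderOf (x ^ k) = _
    rw [← Nat.card_zpowers, hgen, Nat.card_zpowers]
    exact hx
  have h2 := totient_dvd_card_orderOf_eq_and (G := G ⧸ E) (orderOf y) PP
  simp only [hiff] at h2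
  have hfil : (Y.toFinset.filter fun z => orderOf z = orderOf y).card =
      Nat.card {z : G ⧸ E // orderOf z = orderOf y ∧ z ∈ Y} := by
    rw [Nat.card_eq_fintype_card, Fintype.card_subtype]
    congr 1
    ext z
    simp [and_comm]
  rw [hfil]
  refine dvd_trans ?_ h2
  refine dvd_trans ?_ (Nat.totient_dvd_of_dvd (hlow y hy))
  rw [Nat.totient_prime_pow_succ hp.out]
  exact dvd_mul_right _ _

/-- The theorem of Miller and Kulakoff for a finite group with noncyclic Sylow `p`-subgroup. -/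
theorem pow_dvd_card_orderOf_of_sylow {p : ℕ} [hp : Fact p.Prime] (hodd : p ≠ 2) (P : Sylow p G)
    (hP : ¬ IsCyclic ↥(P : Subgroup G)) {s : ℕ} (hs : 2 ≤ s) :
    p ^ s ∣ Nat.card {x : G // orderOf x = p ^ s} := by
  classical
  have hall : Nat.card {x : G // orderOf x = p ^ s} = Nat.totient (p ^ s) *
      Nat.card {C : Subgroup G // IsCyclic ↥C ∧ Nat.card ↥C = p ^ s} := by
    have h := card_orderOf_eq_mul (G := G) (p ^ s) (fun _ => True)
    simpa using h
  have hin : p ^ s ∣ Nat.totient (p ^ s) *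
      Nat.card {C : Subgroup G // (IsCyclic ↥C ∧ Nat.card ↥C = p ^ s) ∧ C ≤ (P : Subgroup G)} := by
    rw [← card_orderOf_eq_mul]
    refine dvd_trans (pow_dvd_card_orderOf_of_pGroup hodd P.isPGroup' hP hs) (dvd_of_eq ?_)
    refine Nat.card_congr
      ⟨fun x => ⟨x.1.1, by rw [Subgroup.orderOf_coe]; exact x.2, Subgroup.zpowers_le.2 x.1.2⟩,
       fun x => ⟨⟨x.1, x.2.2 (Subgroup.mem_zpowers _)⟩, by rw [← Subgroup.orderOf_coe]; exact x.2.1⟩,
       fun x => rfl, fun x => rfl⟩
  obtain ⟨t, rfl⟩ : ∃ t, s = t + 1 := ⟨s - 1, by omega⟩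
  have hq : p ∣ Nat.card {C : Subgroup G // (IsCyclic ↥C ∧ Nat.card ↥C = p ^ (t + 1)) ∧ C ≤ (P : Subgroup G)} := by
    rw [Nat.totient_prime_pow_succ hp.out, pow_succ, mul_assoc] at hin
    have h1 := (Nat.mul_dvd_mul_iff_left (pow_pos hp.out.pos t)).1 hin
    refine (Nat.Coprime.dvd_of_dvd_mul_left ?_ h1)
    rw [Nat.Prime.coprime_iff_not_dvd hp.out]
    intro hd
    have := Nat.le_of_dvd (by have := hp.out.two_le; omega) hd
    have := hp.out.two_le; omega
  -- the subgroups outside `P` fall into orbits of length divisible by `p`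
  let T := {C : Subgroup G // (IsCyclic ↥C ∧ Nat.card ↥C = p ^ (t + 1)) ∧ ¬ C ≤ (P : Subgroup G)}
  have hinv : ∀ (g : ↥(P : Subgroup G)) (C : T),
      (IsCyclic ↥(MulAut.conj (g : G) • C.1) ∧ Nat.card ↥(MulAut.conj (g : G) • C.1) = p ^ (t + 1)) ∧
        ¬ (MulAut.conj (g : G) • C.1) ≤ (P : Subgroup G) := by
    intro g C
    refine ⟨⟨(Subgroup.equivSMul (MulAut.conj (g : G)) C.1).isCyclic.1 C.2.1.1, ?_⟩, ?_⟩
    · rw [← Nat.card_congr (Subgroup.equivSMul (MulAut.conj (g : G)) C.1).toEquiv]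
      exact C.2.1.2
    · intro h
      apply C.2.2
      intro x hx
      have h1 : (g : G) * x * (g : G)⁻¹ ∈ (P : Subgroup G) :=
        h (Subgroup.smul_mem_pointwise_smul x (MulAut.conj (g : G)) C.1 hx)
      simpa [mul_assoc] using Subgroup.mul_mem _ (Subgroup.mul_mem _ (Subgroup.inv_mem _ g.2) h1) g.2
  letI : MulAction ↥(P : Subgroup G) T :=
    { smul := fun g C => ⟨MulAut.conj (g : G) • C.1, hinv g C⟩
      one_smul := fun C => Subtype.ext (by
        show MulAut.conj ((1 : ↥(P : Subgroup G)) : G) • C.1 = C.1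
        rw [Subgroup.coe_one, map_one, one_smul])
      mul_smul := fun g h C => Subtype.ext (by
        show MulAut.conj ((g * h : ↥(P : Subgroup G)) : G) • C.1 =
          MulAut.conj (g : G) • (MulAut.conj (h : G) • C.1)
        rw [Subgroup.coe_mul, map_mul, mul_smul]) }
  have hT : p ∣ Nat.card T := by
    have h1 := P.isPGroup'.card_modEq_card_fixedPoints (α := T)
    have h2 : IsEmpty (MulAction.fixedPoints ↥(P : Subgroup G) T) := by
      refine ⟨fun C => ?_⟩
      obtain ⟨C, hC⟩ := C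
      apply C.2.2
      have hle : (P : Subgroup G) ≤ Subgroup.normalizer (C.1 : Set G) := by
        intro g hg
        have h3 : MulAut.conj g • C.1 = C.1 := congrArg Subtype.val (hC ⟨g, hg⟩)
        rw [Subgroup.mem_normalizer_iff]
        intro x
        conv_rhs => rw [← h3]
        exact (Subgroup.smul_mem_pointwise_smul_iff (a := MulAut.conj g)).symm
      have hCp : IsPGroup p ↥C.1 := IsPGroup.of_card C.2.1.2
      have h4 := P.isPGroup'.to_sup_of_normal_right' hCp hle
      exact le_sup_right.trans (P.is_maximal' h4 le_sup_left).le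
    rw [@Nat.card_of_isEmpty _ h2] at h1
    exact Nat.modEq_zero_iff_dvd.1 h1
  have hsum : p ∣ Nat.card {C : Subgroup G // IsCyclic ↥C ∧ Nat.card ↥C = p ^ (t + 1)} := by
    haveI : Fintype (Subgroup G) := Fintype.ofFinite _
    have h := Finset.card_filter_add_card_filter_not
      (s := Finset.univ.filter fun C : Subgroup G => IsCyclic ↥C ∧ Nat.card ↥C = p ^ (t + 1))
      (fun C => C ≤ (P : Subgroup G))
    simp only [Finset.filter_filter, ← Fintype.card_subtype, ← Nat.card_eq_fintype_card] at h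
    rw [← h]
    exact Nat.dvd_add hq hT
  rw [hall, Nat.totient_prime_pow_succ hp.out, pow_succ, mul_assoc]
  exact Nat.mul_dvd_mul_left _ (dvd_mul_of_dvd_right hsum _)

/-- Splitting an element of order `a * b`, `a` and `b` coprime, into its parts of orders `a`, `b`. -/
theorem card_orderOf_mul_eq_sum [Fintype G] [DecidableEq G] {a b : ℕ} (hab : a.Coprime b) :
    Nat.card {x : G // orderOf x = a * b} =
      ∑ u ∈ Finset.univ.filter (fun u : G => orderOf u = a),
        Nat.card {v : G // Commute u v ∧ orderOf v = b} := by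
  classical
  obtain ⟨e, he1, he0⟩ := Nat.chineseRemainder hab 1 0
  obtain ⟨f, hf0, hf1⟩ := Nat.chineseRemainder hab 0 1
  have hef : ∀ x : G, orderOf x = a * b → x ^ e * x ^ f = x := by
    intro x hx
    have h1 : e + f ≡ 1 [MOD a * b] :=
      (Nat.modEq_and_modEq_iff_modEq_mul hab).1
        ⟨by simpa using he1.add hf0, by simpa using he0.add hf1⟩
    rw [← pow_add]
    conv_rhs => rw [← pow_one x]
    exact pow_eq_pow_iff_modEq.2 (hx.symm ▸ h1)
  have key1 : ∀ u v : G, Commute u v → orderOf u = a → orderOf v = b → (u * v) ^ e = u := by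
    intro u v huv hu hv
    rw [huv.mul_pow, pow_eq_one_iff_modEq.2 (show e ≡ 0 [MOD orderOf v] by rw [hv]; exact he0), mul_one]
    conv_rhs => rw [← pow_one u]
    exact pow_eq_pow_iff_modEq.2 (show e ≡ 1 [MOD orderOf u] by rw [hu]; exact he1)
  have key2 : ∀ u v : G, Commute u v → orderOf u = a → orderOf v = b → (u * v) ^ f = v := by
    intro u v huv hu hv
    rw [huv.mul_pow, pow_eq_one_iff_modEq.2 (show f ≡ 0 [MOD orderOf u] by rw [hu]; exact hf0), one_mul]
    conv_rhs => rw [← pow_one v]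
    exact pow_eq_pow_iff_modEq.2 (show f ≡ 1 [MOD orderOf v] by rw [hv]; exact hf1)
  have hparts : ∀ x : G, orderOf x = a * b → orderOf (x ^ e) = a ∧ orderOf (x ^ f) = b := by
    intro x hx
    have ha : orderOf (x ^ e) ∣ a := by
      rw [orderOf_dvd_iff_pow_eq_one, ← pow_mul, ← orderOf_dvd_iff_pow_eq_one, hx, mul_comm e a]
      exact Nat.mul_dvd_mul_left a (Nat.modEq_zero_iff_dvd.1 he0)
    have hb : orderOf (x ^ f) ∣ b := by
      rw [orderOf_dvd_iff_pow_eq_one, ← pow_mul, ← orderOf_dvd_iff_pow_eq_one, hx]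
      exact mul_dvd_mul (Nat.modEq_zero_iff_dvd.1 hf0) dvd_rfl
    have hm := (Commute.pow_pow_self x e f).orderOf_mul_eq_mul_orderOf_of_coprime
      ((hab.coprime_dvd_left ha).coprime_dvd_right hb)
    rw [hef x hx, hx] at hm
    have hpos : 0 < a * b := hx ▸ orderOf_pos x
    have ha0 : 0 < a := Nat.pos_of_ne_zero fun h => by simp [h] at hpos
    have hb0 : 0 < b := Nat.pos_of_ne_zero fun h => by simp [h] at hpos
    exact ⟨((mul_eq_mul_iff_eq_and_eq_of_pos (Nat.le_of_dvd ha0 ha) (Nat.le_of_dvd hb0 hb)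
      (orderOf_pos _) hb0).1 hm.symm).1,
      ((mul_eq_mul_iff_eq_and_eq_of_pos (Nat.le_of_dvd ha0 ha) (Nat.le_of_dvd hb0 hb)
      (orderOf_pos _) hb0).1 hm.symm).2⟩
  have hrhs : ∀ u : G, Nat.card {v : G // Commute u v ∧ orderOf v = b} =
      (Finset.univ.filter fun v : G => Commute u v ∧ orderOf v = b).card := fun u => by
    rw [Nat.card_eq_fintype_card, Fintype.card_subtype]
  simp only [hrhs]
  rw [Nat.card_eq_fintype_card, Fintype.card_subtype, ← Finset.card_sigma]
  refine Finset.card_bij' (fun x _ => ⟨x ^ e, x ^ f⟩) (fun y _ => y.1 * y.2) ?_ ?_ ?_ ?_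
  · intro x hx
    simp only [Finset.mem_filter, Finset.mem_univ, true_and] at hx
    simp only [Finset.mem_sigma, Finset.mem_filter, Finset.mem_univ, true_and]
    exact ⟨(hparts x hx).1, Commute.pow_pow_self x e f, (hparts x hx).2⟩
  · intro y hy
    simp only [Finset.mem_sigma, Finset.mem_filter, Finset.mem_univ, true_and] at hy
    simp only [Finset.mem_filter, Finset.mem_univ, true_and]
    rw [hy.2.1.orderOf_mul_eq_mul_orderOf_of_coprime (by rw [hy.1, hy.2.2]; exact hab), hy.1, hy.2.2]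
  · intro x hx
    simp only [Finset.mem_filter, Finset.mem_univ, true_and] at hx
    exact hef x hx
  · intro y hy
    simp only [Finset.mem_sigma, Finset.mem_filter, Finset.mem_univ, true_and] at hy
    obtain ⟨u, v⟩ := y
    simp only [key1 u v hy.2.1 hy.1 hy.2.2, key2 u v hy.2.1 hy.1 hy.2.2]

end CfsgLib.FgsSix
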