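import Mathlib

/-! Elementary facts on Sylow subgroups meeting their conjugates trivially. -/

namespace CfsgLib.FgsSix

open scoped Pointwise

variable {G : Type*} [Group G] [Finite G] {p : ℕ} [Fact p.Prime]

/-- If one Sylow `p`-subgroup is TI, two Sylow `p`-subgroups sharing a non-identity element coincide. -/
theorem sylow_eq_of_ti (P : Sylow p G)
    (hTI : ∀ g : G, g ∉ Subgroup.normalizer ((P : Subgroup G) : Set G) →
      (P : Subgroup G) ⊓ (MulAut.conj g • (P : Subgroup G)) = ⊥)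
    (P₁ P₂ : Sylow p G) {x : G} (h1 : x ∈ P₁) (h2 : x ∈ P₂) (hx : x ≠ 1) : P₁ = P₂ := by
  obtain ⟨a, rfl⟩ := MulAction.exists_smul_eq G P P₁
  obtain ⟨b, rfl⟩ := MulAction.exists_smul_eq G P P₂
  by_contra hne
  have hab : a⁻¹ * b ∉ Subgroup.normalizer ((P : Subgroup G) : Set G) := by
    intro h
    apply hne
    have := (Sylow.smul_eq_iff_mem_normalizer).2 h
    rw [mul_smul] at this
    exact (inv_smul_eq_iff.1 this).symm
  have h1' : a⁻¹ * x * a ∈ (P : Subgroup G) := by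
    have h1'' : x ∈ MulAut.conj a • (P : Subgroup G) := h1
    rw [Subgroup.mem_pointwise_smul_iff_inv_smul_mem] at h1''
    simpa [mul_assoc] using h1''
  have h2' : a⁻¹ * x * a ∈ MulAut.conj (a⁻¹ * b) • (P : Subgroup G) := by
    rw [Subgroup.mem_pointwise_smul_iff_inv_smul_mem]
    have h2'' : x ∈ MulAut.conj b • (P : Subgroup G) := h2
    rw [Subgroup.mem_pointwise_smul_iff_inv_smul_mem] at h2''
    simpa [mul_assoc] using h2''
  have := hTI _ hab
  have hm : a⁻¹ * x * a ∈ (⊥ : Subgroup G) := this ▸ Subgroup.mem_inf.2 ⟨h1', h2'⟩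
  rw [Subgroup.mem_bot] at hm
  apply hx
  calc x = a * (a⁻¹ * x * a) * a⁻¹ := by group
    _ = 1 := by rw [hm]; group

/-- The converse: if distinct Sylow `p`-subgroups meet trivially, each is TI. -/
theorem ti_of_sylow_eq (P : Sylow p G)
    (h : ∀ P' : Sylow p G, ∀ x : G, x ∈ P → x ∈ P' → x ≠ 1 → P = P') (g : G)
    (hg : g ∉ Subgroup.normalizer ((P : Subgroup G) : Set G)) :
    (P : Subgroup G) ⊓ (MulAut.conj g • (P : Subgroup G)) = ⊥ := by
  rw [Subgroup.eq_bot_iff_forall]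
  intro x hx
  by_contra hx1
  exact hg (Sylow.smul_eq_iff_mem_normalizer.1 (h (g • P) x hx.1 hx.2 hx1).symm)

/-- `|HN : H|` divides `|N|` for a normal subgroup `N`. -/
theorem relIndex_sup_normal_dvd (H N : Subgroup G) [N.Normal] :
    H.relIndex (H ⊔ N) ∣ Nat.card ↥N := by
  have e1 : Nat.card ↥H * H.relIndex (H ⊔ N) = Nat.card ↥(H ⊔ N) := by
    rw [← Nat.card_congr (Subgroup.subgroupOfEquivOfLe (le_sup_left : H ≤ H ⊔ N)).toEquiv]
    exact Subgroup.card_mul_index _
  have e2 : Nat.card ↥N * N.relIndex H = Nat.card ↥(H ⊔ N) := by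
    rw [← Subgroup.relIndex_sup_right H N,
      ← Nat.card_congr (Subgroup.subgroupOfEquivOfLe (le_sup_right : N ≤ H ⊔ N)).toEquiv]
    exact Subgroup.card_mul_index _
  have e3 : Nat.card ↥(N.subgroupOf H) * N.relIndex H = Nat.card ↥H := Subgroup.card_mul_index _
  rw [← e1, ← e3, mul_right_comm] at e2
  exact ⟨_, (Nat.eq_of_mul_eq_mul_right (Nat.pos_of_ne_zero Subgroup.index_ne_zero_of_finite) e2).trans
    (mul_comm _ _)⟩

end CfsgLib.FgsSix
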