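import Mathlib
import Cfsg.Agent.FgsSix.Frobenius
import Cfsg.Agent.TwoGroupsQ.UniqueInvolution
import Cfsg.Agent.Characters.Burnside
import Cfsg.Agent.FgsSix.SolvableLinear.Basic

/-!
# Groups in which the numbers of elements of each order take three values

With `n(m)` the number of elements of order `m`: if the values are `1, a, b` then two odd primes
`p`, `q` dividing the order never have `n(p) = n(q)`, so there are at most two of them, and the
group is solvable.
-/

set_option autoImplicit false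

namespace CfsgLib.FgsSix.ThreeCounts

variable {G : Type*} [Group G] [Finite G]

/-- The number of elements of order `m`. -/
noncomputable def cnt (G : Type*) [Group G] (m : ℕ) : ℕ := Nat.card {g : G // orderOf g = m}

/-- The counts other than `1` are `a` or `b`. -/
def TwoValued (G : Type*) [Group G] (a b : ℕ) : Prop :=
  a ≠ b ∧ ∀ m, cnt G m ≠ 0 → cnt G m = 1 ∨ cnt G m = a ∨ cnt G m = b

omit [Finite G] in
theorem TwoValued.symm {a b : ℕ} (h : TwoValued G a b) : TwoValued G b a :=
  ⟨h.1.symm, fun m hm => (h.2 m hm).imp id Or.symm⟩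

theorem exists_twoValued
    (h : ((fun m : ℕ => Nat.card {g : G // orderOf g = m}) '' Set.range (orderOf : G → ℕ)).ncard = 3) :
    ∃ a b, TwoValued G a b := by
  have h1 : cnt G 1 = 1 := Nat.card_eq_one_iff_unique.2
    ⟨⟨fun a b => Subtype.ext ((orderOf_eq_one_iff.1 a.2).trans (orderOf_eq_one_iff.1 b.2).symm)⟩,
      ⟨⟨1, orderOf_one⟩⟩⟩
  obtain ⟨x, y, z, hxy, hxz, hyz, hS⟩ := Set.ncard_eq_three.1 h
  have hmem : ∀ m, cnt G m ≠ 0 → cnt G m = x ∨ cnt G m = y ∨ cnt G m = z := by
    intro m hm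
    obtain ⟨⟨g, hg⟩, -⟩ := Nat.card_ne_zero.1 hm
    have h' : cnt G m ∈ ({x, y, z} : Set ℕ) := hS ▸ ⟨m, ⟨g, hg⟩, rfl⟩
    simpa using h'
  rcases hmem 1 (by rw [h1]; exact one_ne_zero) with e | e | e <;> rw [h1] at e
  · refine ⟨y, z, hyz, fun m hm => ?_⟩
    rw [e]; exact hmem m hm
  · refine ⟨x, z, hxz, fun m hm => ?_⟩
    rw [e]
    rcases hmem m hm with h | h | h <;> simp [h]
  · refine ⟨x, y, hxy, fun m hm => ?_⟩
    rw [e]
    rcases hmem m hm with h | h | h <;> simp [h]

theorem cnt_pos {g : G} {m : ℕ} (h : orderOf g = m) : 0 < cnt G m := by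
  haveI : Nonempty {g : G // orderOf g = m} := ⟨⟨g, h⟩⟩
  exact Nat.card_pos

theorem cnt_prime_pos {p : ℕ} (hp : p.Prime) (hpG : p ∣ Nat.card G) : 0 < cnt G p := by
  haveI := Fact.mk hp
  obtain ⟨g, hg⟩ := exists_prime_orderOf_dvd_card' p hpG
  exact cnt_pos hg

theorem dvd_card_of_cnt_pos {m : ℕ} (h : cnt G m ≠ 0) : m ∣ Nat.card G := by
  obtain ⟨⟨g, hg⟩, -⟩ := Nat.card_ne_zero.1 h
  exact hg ▸ orderOf_dvd_natCard g

theorem even_cnt {m : ℕ} (hm : 3 ≤ m) : 2 ∣ cnt G m :=
  (even_iff_two_dvd.1 (Nat.totient_even hm)).trans (totient_dvd_card_orderOf_eq m)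

theorem TwoValued.eq_or_eq {a b : ℕ} (h : TwoValued G a b) {m : ℕ} (hm : 3 ≤ m) (h0 : cnt G m ≠ 0) :
    cnt G m = a ∨ cnt G m = b := by
  refine (h.2 m h0).resolve_left fun h1 => ?_
  have := even_cnt (G := G) hm
  omega

/-- The solutions of `g ^ m = 1` sorted by order. -/
theorem card_pow_eq_sum {m : ℕ} (hm : m ≠ 0) :
    Nat.card {g : G // g ^ m = 1} = ∑ d ∈ m.divisors, cnt G d := by
  classical
  haveI := Fintype.ofFinite G
  simp only [cnt, Nat.card_eq_fintype_card, Fintype.card_subtype]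
  rw [Finset.card_eq_sum_card_fiberwise (f := orderOf) (t := m.divisors) fun g hg => by
    rw [Finset.mem_coe, Finset.mem_filter] at hg
    exact Nat.mem_divisors.2 ⟨orderOf_dvd_of_pow_eq_one hg.2, hm⟩]
  refine Finset.sum_congr rfl fun d hd => ?_
  rw [Finset.filter_filter]
  congr 1
  ext g
  simp only [Finset.mem_filter, Finset.mem_univ, true_and]
  exact ⟨And.right, fun h => ⟨orderOf_dvd_iff_pow_eq_one.1 (h ▸ (Nat.mem_divisors.1 hd).1), h⟩⟩

/-- The elements of the listed orders are no more than all of them. -/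
theorem sum_le_card (s : Finset ℕ) : ∑ d ∈ s, cnt G d ≤ Nat.card G := by
  classical
  haveI := Fintype.ofFinite G
  simp only [cnt, Nat.card_eq_fintype_card, Fintype.card_subtype]
  rw [← Finset.card_biUnion fun i _ j _ hij => by
    simp only [Function.onFun, Finset.disjoint_filter]
    exact fun g _ hi hj => hij (hi.symm.trans hj)]
  exact Finset.card_le_univ _

theorem dvd_sum_divisors {m : ℕ} (hm : m ≠ 0) (h : m ∣ Nat.card G) :
    m ∣ ∑ d ∈ m.divisors, cnt G d :=
  card_pow_eq_sum (G := G) hm ▸ dvd_card_pow_eq_one m h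

theorem cnt_one : cnt G 1 = 1 := Nat.card_eq_one_iff_unique.2
  ⟨⟨fun a b => Subtype.ext ((orderOf_eq_one_iff.1 a.2).trans (orderOf_eq_one_iff.1 b.2).symm)⟩,
    ⟨⟨1, orderOf_one⟩⟩⟩

theorem prime_dvd_succ {p : ℕ} (hp : p.Prime) (hpG : p ∣ Nat.card G) : p ∣ 1 + cnt G p := by
  have h := dvd_sum_divisors (G := G) hp.ne_zero hpG
  rwa [hp.divisors, Finset.sum_pair hp.one_lt.ne, cnt_one] at h

theorem not_dvd_cnt_self {p : ℕ} (hp : p.Prime) (hpG : p ∣ Nat.card G) : ¬ p ∣ cnt G p := fun h =>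
  hp.not_dvd_one ((Nat.dvd_add_left h).1 (prime_dvd_succ hp hpG))

/-- If `p` does not divide `n(m)` then every element of order `p` commutes with an element of order
`m`, so there are many elements of order `p * m`. -/
theorem mul_le_cnt_mul {p m : ℕ} (hp : p.Prime) (hpm : ¬ p ∣ m) (hn : ¬ p ∣ cnt G m) :
    Nat.totient m * cnt G p ≤ cnt G (p * m) := by
  classical
  haveI := Fact.mk hp
  have hm0 : m ≠ 0 := fun h => hpm (h ▸ dvd_zero p)
  -- every element of order `p` commutes with an element of order `m`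
  have hcomm : ∀ x : {g : G // orderOf g = p}, ∃ y : G, orderOf y = m ∧ Commute (x : G) y := by
    rintro ⟨x, hx⟩
    by_contra hno
    push Not at hno
    refine hn ?_
    let f : {g : G // orderOf g = m} → {g : G // orderOf g = m} := fun g => ⟨x * g * x⁻¹, by
      rw [← MulAut.conj_apply, MulEquiv.orderOf_eq]; exact g.2⟩
    have hiter : ∀ k g, ((f^[k] g : {g : G // orderOf g = m}) : G) = x ^ k * g * (x ^ k)⁻¹ := by
      intro k
      induction k with
      | zero => intro g; simp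
      | succ k ih =>
        intro g
        rw [Function.iterate_succ_apply', pow_succ']
        show x * _ * x⁻¹ = _
        rw [ih g]
        group
    have h : Nat.card {g : G // orderOf g = m} ≡ Nat.card {g : {g : G // orderOf g = m} // f g = g} [MOD p] :=
      SolvableLinear.card_modEq_fixed f hp (funext fun g => Subtype.ext (by
        rw [hiter, ← hx, pow_orderOf_eq_one]; simp))
    haveI : IsEmpty {g : {g : G // orderOf g = m} // f g = g} := ⟨fun ⟨⟨g, hgm⟩, hg⟩ => hno g hgm
      (show x * g = g * x from mul_inv_eq_iff_eq_mul.1 (congrArg Subtype.val hg))⟩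
    rw [Nat.card_of_isEmpty (α := {g : {g : G // orderOf g = m} // f g = g})] at h
    exact Nat.modEq_zero_iff_dvd.1 h
  choose y hy hxy using hcomm
  have hcard : Nat.card {k : Fin m // (k : ℕ).Coprime m} = Nat.totient m := by
    rw [Nat.totient_eq_card_coprime, Nat.card_eq_fintype_card, Fintype.card_subtype]
    refine Finset.card_bij (fun k _ => (k : ℕ)) (fun k hk => ?_) (fun _ _ _ _ h => Fin.ext h)
      (fun k hk => ?_)
    · simp only [Finset.mem_filter, Finset.mem_univ, true_and] at hk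
      simpa using Nat.coprime_comm.1 hk
    · simp only [Finset.mem_filter, Finset.mem_range] at hk
      exact ⟨⟨k, hk.1⟩, by simpa using Nat.coprime_comm.1 hk.2, rfl⟩
  let F : {k : Fin m // (k : ℕ).Coprime m} × {g : G // orderOf g = p} → {g : G // orderOf g = p * m} :=
    fun t => ⟨(t.2 : G) * y t.2 ^ (t.1.1 : ℕ), by
      rw [((hxy t.2).pow_right _).orderOf_mul_eq_mul_orderOf_of_coprime, t.2.2,
        Nat.Coprime.orderOf_pow (by rw [hy]; exact Nat.coprime_comm.1 t.1.2), hy]
      rw [t.2.2, Nat.Coprime.orderOf_pow (by rw [hy]; exact Nat.coprime_comm.1 t.1.2), hy]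
      exact hp.coprime_iff_not_dvd.2 hpm⟩
  have hF : Function.Injective F := by
    rintro ⟨k, x⟩ ⟨k', x'⟩ h
    have h' : (x : G) * y x ^ (k.1 : ℕ) = (x' : G) * y x' ^ (k'.1 : ℕ) := congrArg Subtype.val h
    have hcop : m.Coprime p := (hp.coprime_iff_not_dvd.2 hpm).symm
    have hpow : ∀ (z : {g : G // orderOf g = p}) (i : ℕ), ((z : G) * y z ^ i) ^ m = (z : G) ^ m := by
      intro z i
      rw [((hxy z).pow_right i).mul_pow, ← pow_mul, mul_comm i m, pow_mul, ← hy z, pow_orderOf_eq_one,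
        one_pow, mul_one]
    have h2 : (x : G) ^ m = (x' : G) ^ m := by rw [← hpow x k.1, h', hpow x' k'.1]
    obtain ⟨l, hl⟩ : ∃ l, ∀ z : {g : G // orderOf g = p}, ((z : G) ^ m) ^ l = z := by
      obtain ⟨l, -, hl⟩ := Nat.exists_mul_mod_eq_one_of_coprime hcop hp.one_lt
      refine ⟨l, fun z => ?_⟩
      rw [← pow_mul, ← pow_mod_orderOf, z.2, hl, pow_one]
    have hxx : x = x' := Subtype.ext (by rw [← hl x, h2, hl x'])
    subst hxx
    have hk := pow_injOn_Iio_orderOf (x := y x) (by rw [hy]; exact k.1.2) (by rw [hy]; exact k'.1.2)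
      (mul_left_cancel h')
    exact Prod.ext (Subtype.ext (Fin.ext hk)) rfl
  have h := Nat.card_le_card_of_injective F hF
  rwa [Nat.card_prod, hcard] at h

variable {a b : ℕ}

/-- `1 + n(p) + n(q) + n(pq) ≡ 0` modulo `p q`. -/
theorem dvd_pair {p q : ℕ} (hp : p.Prime) (hq : q.Prime) (hpq : p ≠ q) (hpG : p ∣ Nat.card G)
    (hqG : q ∣ Nat.card G) : p ∣ 1 + cnt G p + cnt G q + cnt G (p * q) := by
  have hd : (p * q).divisors = {1, p, q, p * q} := by
    ext d
    rw [Nat.mem_divisors, Finset.mem_insert, Finset.mem_insert, Finset.mem_insert, Finset.mem_singleton]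
    constructor
    · rintro ⟨h, -⟩
      obtain ⟨u, v, hu, hv, rfl⟩ := Nat.dvd_mul.1 h
      rcases (Nat.dvd_prime hp).1 hu with rfl | rfl <;> rcases (Nat.dvd_prime hq).1 hv with rfl | rfl <;>
        simp
    · rintro (rfl | rfl | rfl | rfl) <;>
        simp [hp.ne_zero, hq.ne_zero]
  have h := dvd_sum_divisors (G := G) (mul_ne_zero hp.ne_zero hq.ne_zero)
    (((Nat.coprime_primes hp hq).2 hpq).mul_dvd_of_dvd_of_dvd hpG hqG)
  have h2 := hp.one_lt
  have h3 := hq.one_lt
  have h4 : p < p * q := lt_mul_of_one_lt_right hp.pos h3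
  have h5 : q < p * q := lt_mul_of_one_lt_left hq.pos h2
  rw [hd, Finset.sum_insert (by simp; omega), Finset.sum_insert (by simp; omega),
    Finset.sum_insert (by simp; omega), Finset.sum_singleton, cnt_one] at h
  have := (Dvd.intro q rfl).trans h
  simpa [add_assoc] using this

theorem not_dvd_two_mul {p x : ℕ} (hp : p.Prime) (hodd : p ≠ 2) (h : ¬ p ∣ x) : ¬ p ∣ 2 * x :=
  fun hd => (hp.dvd_mul.1 hd).elim
    (fun h2 => hodd ((Nat.prime_dvd_prime_iff_eq hp Nat.prime_two).1 h2)) h

/-- Odd primes with different counts: each divides the count of the other, and no element has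
order their product. -/
theorem TwoValued.cross (h : TwoValued G a b) {p q : ℕ} (hp : p.Prime) (hq : q.Prime) (hp2 : p ≠ 2)
    (hq2 : q ≠ 2) (hpG : p ∣ Nat.card G) (hqG : q ∣ Nat.card G) (ha : cnt G p = a) (hb : cnt G q = b) :
    p ∣ b ∧ cnt G (p * q) = 0 := by
  have hne : p ≠ q := fun e => h.1 (by rw [← ha, ← hb, e])
  have hp3 : 3 ≤ p := by have := hp.two_le; omega
  have hq3 : 3 ≤ q := by have := hq.two_le; omega
  -- the half statement
  have key : ∀ {a b : ℕ}, TwoValued G a b → ∀ {p q : ℕ}, p.Prime → q.Prime → p ≠ q → 3 ≤ p → 3 ≤ q →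
      p ∣ Nat.card G → q ∣ Nat.card G → cnt G p = a → cnt G q = b → p ∣ b := by
    intro a b h p q hp hq hne hp3 hq3 hpG hqG ha hb
    by_contra hpb
    have hnd : ¬ p ∣ q := fun e => hne ((Nat.prime_dvd_prime_iff_eq hp hq).1 e)
    have hle := mul_le_cnt_mul (G := G) hp hnd (hb ▸ hpb)
    rw [Nat.totient_prime hq, ha] at hle
    have hapos : 0 < a := ha ▸ cnt_prime_pos hp hpG
    have hgt : a < (q - 1) * a := lt_mul_of_one_lt_left hapos (by omega)
    have h3 : 3 ≤ p * q := le_trans hp3 (Nat.le_mul_of_pos_right p hq.pos)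
    rcases h.eq_or_eq h3 (by omega) with e | e
    · omega
    · have hd := dvd_pair hp hq hne hpG hqG
      rw [ha, hb, e] at hd
      have h1 : p ∣ 1 + a := ha ▸ prime_dvd_succ hp hpG
      rw [show 1 + a + b + b = (1 + a) + 2 * b by ring, Nat.dvd_add_right h1] at hd
      exact not_dvd_two_mul hp (by omega) hpb hd
  have hpb := key h hp hq hne hp3 hq3 hpG hqG ha hb
  refine ⟨hpb, ?_⟩
  have hqa := key h.symm hq hp hne.symm hq3 hp3 hqG hpG hb ha
  by_contra hc
  have hd := dvd_pair hp hq hne hpG hqG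
  have hd' := dvd_pair hq hp hne.symm hqG hpG
  rw [mul_comm q p] at hd'
  rcases h.eq_or_eq (le_trans hp3 (Nat.le_mul_of_pos_right p hq.pos)) hc with e | e <;>
    rw [ha, hb, e] at hd <;> rw [ha, hb, e] at hd'
  · refine not_dvd_cnt_self hp hpG (ha ▸ ?_)
    rw [show 1 + a + b + a = (1 + a + b) + a by ring] at hd
    exact (Nat.dvd_add_right ((ha ▸ prime_dvd_succ hp hpG : p ∣ 1 + a).add hpb)).1 hd
  · refine not_dvd_cnt_self hq hqG (hb ▸ ?_)
    rw [show 1 + b + a + b = (1 + b + a) + b by ring] at hd'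
    exact (Nat.dvd_add_right ((hb ▸ prime_dvd_succ hq hqG : q ∣ 1 + b).add hqa)).1 hd'

/-- Odd primes with the same count `a`: their product has count `b ≥ (q - 1) a`, prime to both. -/
theorem TwoValued.same (h : TwoValued G a b) {p q : ℕ} (hp : p.Prime) (hq : q.Prime) (hne : p ≠ q)
    (hp2 : p ≠ 2) (hq2 : q ≠ 2) (hpG : p ∣ Nat.card G) (hqG : q ∣ Nat.card G) (ha : cnt G p = a)
    (ha' : cnt G q = a) : cnt G (p * q) = b ∧ ¬ p ∣ b ∧ (q - 1) * a ≤ b := by
  have hp3 : 3 ≤ p := by have := hp.two_le; omega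
  have hq3 : 3 ≤ q := by have := hq.two_le; omega
  have hnd : ¬ p ∣ q := fun e => hne ((Nat.prime_dvd_prime_iff_eq hp hq).1 e)
  have hpa : ¬ p ∣ a := ha ▸ not_dvd_cnt_self hp hpG
  have hle := mul_le_cnt_mul (G := G) hp hnd (ha' ▸ hpa)
  rw [Nat.totient_prime hq, ha] at hle
  have hapos : 0 < a := ha ▸ cnt_prime_pos hp hpG
  have hgt : a < (q - 1) * a := lt_mul_of_one_lt_left hapos (by omega)
  rcases h.eq_or_eq (le_trans hp3 (Nat.le_mul_of_pos_right p hq.pos)) (by omega) with e | e
  · omega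
  · refine ⟨e, fun hpb => hpa ?_, e ▸ hle⟩
    have hd := dvd_pair hp hq hne hpG hqG
    rw [ha, ha', e, show 1 + a + a + b = (1 + a) + (a + b) by ring,
      Nat.dvd_add_right (ha ▸ prime_dvd_succ hp hpG : p ∣ 1 + a), Nat.dvd_add_left hpb] at hd
    exact hd

/-- The divisors of a prime square. -/
theorem dvd_sq {p : ℕ} (hp : p.Prime) (h : p ^ 2 ∣ Nat.card G) :
    p ^ 2 ∣ 1 + cnt G p + cnt G (p ^ 2) := by
  have hd := dvd_sum_divisors (G := G) (pow_ne_zero 2 hp.ne_zero) h
  rw [Nat.divisors_prime_pow hp, Finset.sum_map] at hd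
  simpa [Finset.sum_range_succ, cnt_one] using hd

/-- With a second prime of the same count there are no elements of order `p ^ 2`, so the Sylow
orders divide `a + 1`. -/
theorem TwoValued.pow_dvd_succ (h : TwoValued G a b) {p q : ℕ} (hp : p.Prime) (hq : q.Prime)
    (hne : p ≠ q) (hp2 : p ≠ 2) (hq2 : q ≠ 2) (hpG : p ∣ Nat.card G) (hqG : q ∣ Nat.card G)
    (ha : cnt G p = a) (ha' : cnt G q = a) {k : ℕ} (hk : p ^ k ∣ Nat.card G) : p ^ k ∣ a + 1 := by
  obtain ⟨-, hpb, -⟩ := h.same hp hq hne hp2 hq2 hpG hqG ha ha'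
  have hsq : cnt G (p ^ 2) = 0 := by
    by_contra hc
    have hd := (dvd_pow_self p two_ne_zero).trans (dvd_sq hp (dvd_card_of_cnt_pos hc))
    rw [ha, Nat.dvd_add_right (ha ▸ prime_dvd_succ hp hpG : p ∣ 1 + a)] at hd
    have hp3 : 3 ≤ p ^ 2 := by
      have := hp.two_le
      nlinarith
    rcases h.eq_or_eq hp3 hc with e | e <;> rw [e] at hd
    · exact not_dvd_cnt_self hp hpG (ha.symm ▸ hd)
    · exact hpb hd
  have hhigh : ∀ j, 2 ≤ j → cnt G (p ^ j) = 0 := by
    intro j hj
    by_contra hc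
    obtain ⟨⟨g, hg⟩, -⟩ := Nat.card_ne_zero.1 hc
    refine absurd hsq (cnt_pos (g := g ^ p ^ (j - 2)) ?_).ne'
    rw [orderOf_pow' _ (pow_ne_zero _ hp.ne_zero), hg,
      Nat.gcd_eq_right (pow_dvd_pow p (by omega)), Nat.pow_div (by omega) hp.pos]
    congr 1; omega
  rcases Nat.eq_zero_or_pos k with rfl | hk0
  · simp
  have hd := dvd_sum_divisors (G := G) (pow_ne_zero k hp.ne_zero) hk
  rw [Nat.divisors_prime_pow hp, Finset.sum_map, ← Finset.sum_subset
    (show ({0, 1} : Finset ℕ) ⊆ Finset.range (k + 1) by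
      intro j; simp only [Finset.mem_insert, Finset.mem_singleton, Finset.mem_range]; omega)
    fun j _ hj => by
      simp only [Finset.mem_insert, Finset.mem_singleton] at hj
      exact hhigh j (by omega)] at hd
  simpa [cnt_one, ha, add_comm] using hd

/-- No two odd primes of a group of odd order have the same count. -/
theorem TwoValued.ne_of_odd (h : TwoValued G a b) (hodd : Odd (Nat.card G)) {p q : ℕ} (hp : p.Prime)
    (hq : q.Prime) (hne : p ≠ q) (hpG : p ∣ Nat.card G) (hqG : q ∣ Nat.card G) (ha : cnt G p = a) :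
    cnt G q ≠ a := by
  intro ha'
  have ho : ∀ r, r ∣ Nat.card G → r ≠ 2 := fun r hr e =>
    (Nat.not_even_iff_odd.2 hodd) (even_iff_two_dvd.2 (e ▸ hr))
  have h2 := ho p hpG
  have h2' := ho q hqG
  obtain ⟨hb, -, hle⟩ := h.same hp hq hne h2 h2' hpG hqG ha ha'
  obtain ⟨-, hqb, -⟩ := h.same hq hp hne.symm h2' h2 hqG hpG ha' ha
  have hdvd : Nat.card G ∣ a + 1 := by
    rw [Nat.dvd_iff_prime_pow_dvd_dvd]
    intro r k hr hrk
    rcases Nat.eq_zero_or_pos k with rfl | hk
    · simp
    have hrG : r ∣ Nat.card G := (dvd_pow_self r hk.ne').trans hrk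
    have hr2 := ho r hrG
    by_cases hrp : r = p
    · subst hrp
      exact h.pow_dvd_succ hr hq hne hr2 h2' hrG hqG ha ha' hrk
    have hra : cnt G r = a := by
      rcases h.eq_or_eq (by have := hr.two_le; omega) (cnt_prime_pos hr hrG).ne' with e | e
      · exact e
      · exact absurd (h.cross hp hr h2 hr2 hpG hrG ha e).1 (h.same hp hq hne h2 h2' hpG hqG ha ha').2.1
    exact h.pow_dvd_succ hr hp hrp hr2 h2 hrG hpG hra ha hrk
  have hle2 := Nat.le_of_dvd (by omega) hdvd
  have hsum := sum_le_card (G := G) {p, q}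
  rw [Finset.sum_pair hne, ha, ha'] at hsum
  have := cnt_prime_pos hp hpG
  have hsum1 := sum_le_card (G := G) {1, p, q}
  rw [Finset.sum_insert (by simp [hp.one_lt.ne, hq.one_lt.ne]), Finset.sum_pair hne, cnt_one, ha, ha'] at hsum1
  omega

/-- A group of odd order with three counts has at most two prime divisors. -/
theorem primeFactors_card_le (hodd : Odd (Nat.card G)) (h : TwoValued G a b) :
    (Nat.card G).primeFactors.card ≤ 2 := by
  have hinj : Set.InjOn (cnt G) ((Nat.card G).primeFactors : Set ℕ) := by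
    intro p hp q hq he
    rw [Finset.mem_coe, Nat.mem_primeFactors] at hp hq
    by_contra hne
    have h3 : 3 ≤ p := by
      have := hp.1.two_le
      have : p ≠ 2 := fun e => (Nat.not_even_iff_odd.2 hodd) (even_iff_two_dvd.2 (e ▸ hp.2.1))
      omega
    rcases h.eq_or_eq h3 (cnt_prime_pos hp.1 hp.2.1).ne' with e | e
    · exact h.ne_of_odd hodd hp.1 hq.1 hne hp.2.1 hq.2.1 e (he ▸ e)
    · exact h.symm.ne_of_odd hodd hp.1 hq.1 hne hp.2.1 hq.2.1 e (he ▸ e)
  rw [← Finset.card_image_of_injOn hinj]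
  refine (Finset.card_le_card (t := {a, b}) fun x hx => ?_).trans Finset.card_le_two
  obtain ⟨p, hp, rfl⟩ := Finset.mem_image.1 hx
  rw [Nat.mem_primeFactors] at hp
  have h3 : 3 ≤ p := by
    have := hp.1.two_le
    have : p ≠ 2 := fun e => (Nat.not_even_iff_odd.2 hodd) (even_iff_two_dvd.2 (e ▸ hp.2.1))
    omega
  simpa using h.eq_or_eq h3 (cnt_prime_pos hp.1 hp.2.1).ne'

theorem isSolvable_of_primeFactors_le (h : (Nat.card G).primeFactors.card ≤ 2) :
    Group.IsSolvable G := by
  have hdec := Nat.prod_factorization_pow_eq_self (n := Nat.card G) Nat.card_pos.ne'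
  rw [Finsupp.prod, Nat.support_factorization] at hdec
  rcases Nat.lt_or_ge (Nat.card G).primeFactors.card 2 with hlt | hge
  · rcases Nat.lt_or_ge (Nat.card G).primeFactors.card 1 with h0 | h1
    · have h00 : (Nat.card G).primeFactors = ∅ := Finset.card_eq_zero.1 (by omega)
      rw [h00, Finset.prod_empty] at hdec
      exact Characters.isSolvable_of_card_eq_primePow_mul 2 2 0 0 Nat.prime_two Nat.prime_two
        (by rw [← hdec]; exact one_dvd _)
    · obtain ⟨p, hp⟩ := Finset.card_eq_one.1 (show (Nat.card G).primeFactors.card = 1 by omega)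
      rw [hp, Finset.prod_singleton] at hdec
      have hpp := (Nat.mem_primeFactors.1 (hp.symm ▸ Finset.mem_singleton_self p)).1
      exact Characters.isSolvable_of_card_eq_primePow_mul p p ((Nat.card G).factorization p) 0 hpp hpp
        (by rw [pow_zero, mul_one, hdec])
  · obtain ⟨p, q, hne, hpq⟩ := Finset.card_eq_two.1 (le_antisymm h hge)
    rw [hpq, Finset.prod_pair hne] at hdec
    exact Characters.isSolvable_of_card_eq_primePow_mul p q _ _
      (Nat.mem_primeFactors.1 (hpq.symm ▸ Finset.mem_insert_self p _)).1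
      (Nat.mem_primeFactors.1 (hpq.symm ▸ Finset.mem_insert_of_mem (Finset.mem_singleton_self q))).1
      (by rw [← hdec])

end CfsgLib.FgsSix.ThreeCounts
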