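import Mathlib
import Cfsg.Agent.FgsSix.ThreeCounts
import Cfsg.Agent.FgsSix.OrderCount
import Cfsg.Agent.Solvable.Hall

/-!
# Three counts in groups of even order
-/

set_option autoImplicit false

namespace CfsgLib.FgsSix.ThreeCounts

open scoped Pointwise

variable {G : Type*} [Group G] [Finite G] {a b : ℕ}

/-- A group with a cyclic Sylow `2`-subgroup has a normal subgroup of odd order containing all
elements of odd order. -/
theorem exists_odd_normal (S : Sylow 2 G) (hS : IsCyclic S) :
    ∃ M : Subgroup G, M.Normal ∧ Nat.card M * Nat.card (S : Subgroup G) = Nat.card G ∧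
      ∀ g : G, Odd (orderOf g) → g ∈ M := by
  rcases eq_or_ne (Nat.card (S : Subgroup G)) 1 with h1 | h1
  · exact ⟨⊤, inferInstance, by rw [h1, mul_one, Subgroup.card_top], fun g _ => Subgroup.mem_top g⟩
  have hp : (Nat.card G).minFac = 2 := by
    rw [Nat.minFac_eq_two_iff]
    obtain ⟨k, hk⟩ := IsPGroup.iff_card.1 S.2
    rcases k with _ | k
    · exact absurd (by rw [hk, pow_zero]) h1
    exact (Dvd.intro_left (2 ^ k) (by rw [hk, pow_succ])).trans (Subgroup.card_subgroup_dvd_card _)
  refine ⟨_, inferInstance, (IsCyclic.isComplement' hp hS).card_mul, fun g hg => ?_⟩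
  set M := (MonoidHom.transferSylow S (hS.normalizer_le_centralizer hp)).ker
  rw [← QuotientGroup.eq_one_iff, ← orderOf_eq_one_iff]
  obtain ⟨k, hk⟩ := IsPGroup.iff_card.1 S.2
  have h2 : orderOf (g : G ⧸ M) ∣ 2 ^ k := by
    rw [← hk, ← (IsCyclic.isComplement' hp hS).symm.index_eq_card]
    exact orderOf_dvd_natCard _
  have h3 : orderOf (g : G ⧸ M) ∣ orderOf g := orderOf_map_dvd (QuotientGroup.mk' M) g
  exact Nat.eq_one_of_dvd_coprimes (((Nat.coprime_two_right.2 hg).pow_right k)) h3 h2

theorem orderOf_unique_involution (hz : cnt G 2 = 1) :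
    ∃ z : G, orderOf z = 2 ∧ (∀ g, orderOf g = 2 → g = z) ∧ ∀ g, Commute g z := by
  obtain ⟨hs, ⟨⟨z, hz2⟩⟩⟩ := Nat.card_eq_one_iff_unique.1 hz
  have hu : ∀ g : G, orderOf g = 2 → g = z := fun g hg =>
    congrArg Subtype.val (@Subsingleton.elim _ hs ⟨g, hg⟩ ⟨z, hz2⟩)
  refine ⟨z, hz2, hu, fun g => ?_⟩
  have := hu (g * z * g⁻¹) (by rw [← MulAut.conj_apply, MulEquiv.orderOf_eq]; exact hz2)
  exact mul_inv_eq_iff_eq_mul.1 this

/-- Multiplication by the unique involution. -/
theorem cnt_two_mul (hz : cnt G 2 = 1) {m : ℕ} (hm : Odd m) : cnt G (2 * m) = cnt G m := by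
  obtain ⟨z, hz2, hu, hc⟩ := orderOf_unique_involution hz
  have hzz : z * z = 1 := by rw [← sq, ← hz2, pow_orderOf_eq_one]
  have hm0 : m ≠ 0 := fun h => by simp [h] at hm
  have h1 : ∀ g : G, orderOf g = m → orderOf (g * z) = 2 * m := fun g hg => by
    rw [(hc g).orderOf_mul_eq_mul_orderOf_of_coprime, hg, hz2, mul_comm]
    rw [hg, hz2]
    exact Nat.coprime_two_right.2 hm
  have h2 : ∀ g : G, orderOf g = 2 * m → orderOf (g * z) = m := fun g hg => by
    have hgm : g ^ m = z := hu _ (by rw [orderOf_pow' _ hm0, hg, Nat.gcd_mul_left_left,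
      Nat.mul_div_cancel _ (Nat.pos_of_ne_zero hm0)])
    have hgz : (g * z) ^ m = 1 := by
      rw [(hc g).mul_pow, hgm]
      obtain ⟨t, rfl⟩ := hm
      rw [pow_succ, pow_mul, sq, hzz, one_pow, one_mul, hzz]
    refine Nat.dvd_antisymm (orderOf_dvd_of_pow_eq_one hgz) ?_
    refine Nat.dvd_of_mul_dvd_mul_left two_pos ?_
    rw [← hg]
    refine orderOf_dvd_of_pow_eq_one ?_
    set t := orderOf (g * z) with ht
    have ht' : (g * z) ^ t = 1 := pow_orderOf_eq_one _
    have hgg : g ^ (2 * t) = (g * z) ^ (2 * t) * z ^ (2 * t) := by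
      rw [← ((hc g).mul_left (Commute.refl z)).mul_pow, mul_assoc, hzz, mul_one]
    rw [hgg, mul_comm 2 t, pow_mul, ht', one_pow, one_mul, mul_comm t 2, pow_mul, sq, hzz, one_pow]
  exact Nat.card_congr
    { toFun := fun g => ⟨g.1 * z, h2 g.1 g.2⟩
      invFun := fun g => ⟨g.1 * z, h1 g.1 g.2⟩
      left_inv := fun g => Subtype.ext (by simp [mul_assoc, hzz])
      right_inv := fun g => Subtype.ext (by simp [mul_assoc, hzz]) }

theorem odd_prime_cnt (h : TwoValued G a b) {p : ℕ} (hp : p.Prime) (hp2 : p ≠ 2) (hpG : p ∣ Nat.card G) :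
    cnt G p = a ∨ cnt G p = b :=
  h.eq_or_eq (by have := hp.two_le; omega) (cnt_prime_pos hp hpG).ne'

/-- With two odd prime divisors there is at most one involution. -/
theorem cnt_two_eq_one (h : TwoValued G a b) (h2G : 2 ∣ Nat.card G) {p q : ℕ} (hp : p.Prime)
    (hq : q.Prime) (hne : p ≠ q) (hp2 : p ≠ 2) (hq2 : q ≠ 2) (hpG : p ∣ Nat.card G)
    (hqG : q ∣ Nat.card G) : cnt G 2 = 1 := by
  have h1 := prime_dvd_succ Nat.prime_two h2G
  have hp3 : 3 ≤ p := by have := hp.two_le; omega
  have hpq3 : 3 ≤ p * q := le_trans hp3 (Nat.le_mul_of_pos_right p hq.pos)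
  have ep := even_cnt (G := G) hp3
  have eq' := even_cnt (G := G) (show 3 ≤ q by have := hq.two_le; omega)
  have epq := even_cnt (G := G) hpq3
  have hab : 2 ∣ a ∧ 2 ∣ b := by
    rcases odd_prime_cnt h hp hp2 hpG with e | e <;> rcases odd_prime_cnt h hq hq2 hqG with e' | e'
    · exact ⟨e ▸ ep, (h.same hp hq hne hp2 hq2 hpG hqG e e').1 ▸ epq⟩
    · exact ⟨e ▸ ep, e' ▸ eq'⟩
    · exact ⟨e' ▸ eq', e ▸ ep⟩
    · exact ⟨(h.symm.same hp hq hne hp2 hq2 hpG hqG e e').1 ▸ epq, e ▸ ep⟩
  refine (h.2 2 (fun h0 => by rw [h0] at h1; omega)).resolve_right fun he => ?_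
  rcases he with he | he <;> rw [he] at h1 <;> omega

/-- No two odd primes have the same count. -/
theorem TwoValued.not_same_even (h : TwoValued G a b) (h2G : 2 ∣ Nat.card G) {p q : ℕ} (hp : p.Prime)
    (hq : q.Prime) (hne : p ≠ q) (hp2 : p ≠ 2) (hq2 : q ≠ 2) (hpG : p ∣ Nat.card G)
    (hqG : q ∣ Nat.card G) (ha : cnt G p = a) : cnt G q ≠ a := by
  intro ha'
  wlog hlt : p < q generalizing p q
  · exact this hq hp hne.symm hq2 hp2 hqG hpG ha' ha (lt_of_le_of_ne (not_lt.1 hlt) hne.symm)
  have hp3 : 3 ≤ p := by have := hp.two_le; omega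
  have hq5 : 5 ≤ q := by
    have : q ≠ 4 := fun e => absurd (e ▸ hq) (by norm_num)
    omega
  obtain ⟨hb, hpb, hle⟩ := h.same hp hq hne hp2 hq2 hpG hqG ha ha'
  have hz := cnt_two_eq_one h h2G hp hq hne hp2 hq2 hpG hqG
  have hprime : ∀ r : ℕ, r.Prime → r ≠ 2 → r ∣ Nat.card G → ¬ r ∣ a ∧ ¬ r ∣ b ∧ cnt G r = a := by
    intro r hr hr2 hrG
    have hra : cnt G r = a := (odd_prime_cnt h hr hr2 hrG).resolve_right fun e =>
      hpb (h.cross hp hr hp2 hr2 hpG hrG ha e).1
    refine ⟨hra ▸ not_dvd_cnt_self hr hrG, ?_, hra⟩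
    rcases eq_or_ne r p with rfl | hrp
    · exact hpb
    · exact (h.same hr hp hrp hr2 hp2 hrG hpG hra ha).2.1
  obtain ⟨S⟩ := (inferInstance : Nonempty (Sylow 2 G))
  set Mo := Nat.card G / Nat.card (S : Subgroup G) with hMo
  have hMoG : Nat.card (S : Subgroup G) * Mo = Nat.card G :=
    Nat.mul_div_cancel' (Subgroup.card_subgroup_dvd_card _)
  have hMoodd : ¬ 2 ∣ Mo := by
    have : Mo = (S : Subgroup G).index := by
      rw [hMo, ← Subgroup.card_mul_index (S : Subgroup G), Nat.mul_div_cancel_left _ Nat.card_pos]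
    rw [this]
    exact S.not_dvd_index
  have hdvd : Mo ∣ a + 1 := by
    rw [Nat.dvd_iff_prime_pow_dvd_dvd]
    intro r k hr hrk
    rcases Nat.eq_zero_or_pos k with rfl | hk
    · simp
    have hr2 : r ≠ 2 := fun e => hMoodd (e ▸ (dvd_pow_self r hk.ne').trans hrk)
    have hrG' : r ^ k ∣ Nat.card G := hrk.trans (hMoG ▸ dvd_mul_left Mo _)
    have hrG := (dvd_pow_self r hk.ne').trans hrG'
    by_cases hrp : r = p
    · subst hrp
      exact h.pow_dvd_succ hr hq hne hr2 hq2 hrG hqG ha ha' hrG'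
    · exact h.pow_dvd_succ hr hp hrp hr2 hp2 hrG hpG (hprime r hr hr2 hrG).2.2 ha hrG'
  have hapos : 0 < a := ha ▸ cnt_prime_pos hp hpG
  have hMole : Mo ≤ a + 1 := Nat.le_of_dvd (by omega) hdvd
  -- no normal subgroup of order `Mo` contains all elements of odd order
  have hfin : ∀ M : Subgroup G, Nat.card M * Nat.card (S : Subgroup G) = Nat.card G →
      (∀ g : G, Odd (orderOf g) → g ∈ M) → False := by
    intro M hM hodd
    have hMM : Nat.card M = Mo := by
      rw [hMo, ← hM, Nat.mul_div_cancel _ Nat.card_pos]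
    classical
    haveI := Fintype.ofFinite G
    have hsub : cnt G 1 + (cnt G p + cnt G q) ≤ Nat.card M := by
      have e : ∀ d, Odd d → cnt G d = cnt ↥M d := fun d hd => Nat.card_congr
        { toFun := fun g => ⟨⟨g.1, hodd g.1 (g.2.symm ▸ hd)⟩, by rw [Subgroup.orderOf_mk]; exact g.2⟩
          invFun := fun g => ⟨g.1.1, by rw [Subgroup.orderOf_coe]; exact g.2⟩
          left_inv := fun _ => rfl
          right_inv := fun _ => rfl }
      rw [e 1 odd_one, e p (hp.odd_of_ne_two hp2), e q (hq.odd_of_ne_two hq2)]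
      have := sum_le_card (G := ↥M) {1, p, q}
      rwa [Finset.sum_insert (by simp [hp.one_lt.ne, hq.one_lt.ne]), Finset.sum_pair hne] at this
    rw [cnt_one, ha, ha', hMM] at hsub
    omega
  obtain ⟨z, hz2, hu, hzc⟩ := orderOf_unique_involution hz
  have huS : TwoGroupsQ.HasUniqueOrderP (S : Subgroup G) 2 :=
    TwoGroupsQ.hasUniqueOrderP_two fun x y hx hx1 hy hy1 => Subtype.ext (by
      rw [hu x (by rw [Subgroup.orderOf_coe]; exact orderOf_eq_prime hx hx1),
        hu y (by rw [Subgroup.orderOf_coe]; exact orderOf_eq_prime hy hy1)])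
  rcases TwoGroupsQ.isCyclic_or_quaternion S.2 huS with hcyc | ⟨-, m, hm1, ⟨eq⟩⟩
  · obtain ⟨M, -, hM, hodd⟩ := exists_odd_normal S hcyc
    exact hfin M hM hodd
  have hScard : Nat.card (S : Subgroup G) = 4 * 2 ^ m := by
    haveI : NeZero (2 ^ m) := ⟨by positivity⟩
    rw [Nat.card_congr eq.toEquiv, Nat.card_eq_fintype_card, QuaternionGroup.card]
  rcases eq_or_lt_of_le hm1 with rfl | hm2
  · -- the quaternion group of order 8: too many elements
    have e1 := cnt_two_mul hz (hp.odd_of_ne_two hp2)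
    have e2 := cnt_two_mul hz (hq.odd_of_ne_two hq2)
    have e3 := cnt_two_mul hz ((hp.odd_of_ne_two hp2).mul (hq.odd_of_ne_two hq2))
    have hsum := sum_le_card (G := G) {1, 2, p, q, 2 * p, 2 * q, p * q, 2 * (p * q)}
    have o1 : p * q ≠ p ∧ p * q ≠ q ∧ q < p * q ∧ p % 2 = 1 ∧ q % 2 = 1 ∧ (p * q) % 2 = 1 := by
      have := lt_mul_of_one_lt_left hq.pos hp.one_lt
      have := lt_mul_of_one_lt_right hp.pos hq.one_lt
      have := Nat.odd_iff.1 (hp.odd_of_ne_two hp2)
      have := Nat.odd_iff.1 (hq.odd_of_ne_two hq2)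
      have := Nat.odd_iff.1 ((hp.odd_of_ne_two hp2).mul (hq.odd_of_ne_two hq2))
      omega
    rw [Finset.sum_insert (by simp; omega), Finset.sum_insert (by simp; omega),
      Finset.sum_insert (by simp; omega), Finset.sum_insert (by simp; omega),
      Finset.sum_insert (by simp; omega), Finset.sum_insert (by simp; omega),
      Finset.sum_insert (by simp; omega), Finset.sum_singleton, e1, e2, e3, cnt_one, hz, ha, ha', hb,
      ← hMoG, hScard] at hsum
    have h4 : 4 * a ≤ b := le_trans (Nat.mul_le_mul_right a (by omega)) hle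
    have heven : 2 ∣ a := ha ▸ even_cnt hp3
    omega
  · -- the maximal cyclic subgroups form one class, hence one of them is normal
    haveI : NeZero (2 ^ m) := ⟨by positivity⟩
    have h8 : 4 < 2 * 2 ^ m := by
      have : 2 ^ 2 ≤ 2 ^ m := Nat.pow_le_pow_right two_pos hm2
      omega
    set u : (S : Subgroup G) := eq.symm (QuaternionGroup.a 1) with hu'
    have huo : orderOf (u : G) = 2 * 2 ^ m := by
      rw [Subgroup.orderOf_coe, hu', MulEquiv.orderOf_eq, QuaternionGroup.orderOf_a_one]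
    set U := Subgroup.zpowers (u : G) with hU
    have hinS : ∀ g ∈ (S : Subgroup G), orderOf g = 2 * 2 ^ m → Subgroup.zpowers g = U := by
      intro g hg hgo
      have hmem : g ∈ U := by
        have ho : orderOf (eq ⟨g, hg⟩) = 2 * 2 ^ m := by
          rw [MulEquiv.orderOf_eq, Subgroup.orderOf_mk, hgo]
        rcases hq' : eq ⟨g, hg⟩ with i | i
        · refine Subgroup.mem_zpowers_iff.2 ⟨(i.val : ℕ), ?_⟩
          have h1 : eq (u ^ i.val) = eq ⟨g, hg⟩ := by
            rw [hq', map_pow, hu', MulEquiv.apply_symm_apply, QuaternionGroup.a_one_pow,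
              ZMod.natCast_zmod_val]
          rw [zpow_natCast]
          exact congrArg Subtype.val (eq.injective h1)
        · rw [hq', QuaternionGroup.orderOf_xa] at ho
          omega
      exact Subgroup.eq_of_le_of_card_ge (Subgroup.zpowers_le.2 hmem)
        (by rw [Nat.card_zpowers, Nat.card_zpowers, hgo, huo])
    -- every cyclic subgroup of this order is conjugate to `U`
    let C := {V : Subgroup G // (IsCyclic ↥V ∧ Nat.card ↥V = 2 * 2 ^ m) ∧ True}
    have hCorb : ∀ V : Subgroup G, IsCyclic V ∧ Nat.card V = 2 * 2 ^ m →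
        ∃ g : G, MulAut.conj g • U = V := by
      rintro V ⟨hVc, hVcard⟩
      have hVp : IsPGroup 2 V := IsPGroup.of_card (n := m + 1) (by rw [hVcard, pow_succ'])
      obtain ⟨T, hT⟩ := hVp.exists_le_sylow
      obtain ⟨g, rfl⟩ := MulAction.exists_smul_eq G S T
      obtain ⟨v, rfl⟩ := (Subgroup.isCyclic_iff_exists_zpowers_eq_top V).1 hVc
      have hvmem : g⁻¹ * v * g ∈ (S : Subgroup G) := by
        have := hT (Subgroup.mem_zpowers v)
        rw [Sylow.coe_subgroup_smul, Subgroup.mem_pointwise_smul_iff_inv_smul_mem, ← map_inv,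
          MulAut.smul_def, MulAut.conj_apply, inv_inv] at this
        exact this
      have hvo : orderOf (g⁻¹ * v * g) = 2 * 2 ^ m := by
        rw [show g⁻¹ * v * g = MulAut.conj g⁻¹ v by simp, MulEquiv.orderOf_eq, ← Nat.card_zpowers, hVcard]
      refine ⟨g, ?_⟩
      rw [← hinS _ hvmem hvo]
      show Subgroup.map (MulAut.conj g).toMonoidHom (Subgroup.zpowers (g⁻¹ * v * g)) = _
      rw [MonoidHom.map_zpowers]
      congr 1
      show g * (g⁻¹ * v * g) * g⁻¹ = v
      group
    have hUN : (S : Subgroup G) ≤ Subgroup.normalizer (U : Set G) := by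
      intro s hs
      rw [Solvable.mem_normalizer_iff_conj_smul]
      show Subgroup.map (MulAut.conj s).toMonoidHom (Subgroup.zpowers (u : G)) = _
      rw [MonoidHom.map_zpowers]
      exact hinS _ (mul_mem (mul_mem hs u.2) (inv_mem hs))
        ((MulEquiv.orderOf_eq (MulAut.conj s) _).trans huo)
    have hk : Nat.card C = (Subgroup.normalizer (U : Set G)).index := by
      have horb : ∀ V, V ∈ MulAction.orbit (ConjAct G) U ↔ (IsCyclic ↥V ∧ Nat.card ↥V = 2 * 2 ^ m) ∧ True := by
        intro V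
        constructor
        · rintro ⟨g, rfl⟩
          refine ⟨⟨?_, ?_⟩, trivial⟩
          · haveI : IsCyclic U := Subgroup.isCyclic_zpowers _
            exact isCyclic_of_surjective (Subgroup.equivSMul g U).toMonoidHom (Subgroup.equivSMul g U).surjective
          · rw [← Nat.card_congr (Subgroup.equivSMul g U).toEquiv, Nat.card_zpowers, huo]
        · rintro ⟨hV, -⟩
          obtain ⟨g, rfl⟩ := hCorb V hV
          exact ⟨ConjAct.toConjAct g, rfl⟩
      rw [show C = {V : Subgroup G // _} from rfl, ← Nat.card_congr (Equiv.subtypeEquivRight horb),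
        Nat.card_congr (MulAction.orbitEquivQuotientStabilizer (ConjAct G) U), ← Subgroup.index]
      have hst : MulAction.stabilizer (ConjAct G) U =
          (Subgroup.normalizer (U : Set G)).comap (ConjAct.ofConjAct.toMonoidHom : ConjAct G →* G) := by
        ext g
        rw [MulAction.mem_stabilizer_iff, Subgroup.mem_comap, Solvable.mem_normalizer_iff_conj_smul]
        rfl
      rw [hst, Subgroup.index_comap_of_surjective _ (ConjAct.ofConjAct.surjective)]
    have hcount := card_orderOf_eq_mul (G := G) (2 * 2 ^ m) (fun _ => True)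
    have hcount' : cnt G (2 * 2 ^ m) = Nat.totient (2 * 2 ^ m) * Nat.card C := by
      rw [← hcount]
      exact Nat.card_congr (Equiv.subtypeEquivRight fun g => by simp)
    have hk1 : Nat.card C = 1 := by
      by_contra hne1
      obtain ⟨r, hr, hrk⟩ := Nat.exists_prime_and_dvd hne1
      have hrG : r ∣ Nat.card G := hrk.trans (hk ▸ Subgroup.index_dvd_card _)
      have hr2 : r ≠ 2 := fun e => S.not_dvd_index ((e ▸ hk ▸ hrk).trans (Subgroup.index_dvd_of_le hUN))
      obtain ⟨hra, hrb, -⟩ := hprime r hr hr2 hrG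
      have hd : r ∣ cnt G (2 * 2 ^ m) := hcount' ▸ hrk.mul_left _
      rcases h.eq_or_eq (by omega) (cnt_pos huo).ne' with e | e <;> rw [e] at hd
      · exact hra hd
      · exact hrb hd
    rw [hk, Subgroup.index_eq_one, Subgroup.normalizer_eq_top_iff] at hk1
    haveI := hk1
    -- the quotient by `U` has a Sylow subgroup of order 2
    have hUS : U ≤ (S : Subgroup G) := Subgroup.zpowers_le.2 u.2
    have hUcard : Nat.card U = 2 * 2 ^ m := (Nat.card_zpowers _).trans huo
    let T := S.mapSurjective (QuotientGroup.mk'_surjective U)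
    have hTcard : Nat.card (T : Subgroup (G ⧸ U)) = 2 := by
      rw [Sylow.coe_mapSurjective]
      have h1 := Subgroup.card_mul_index ((QuotientGroup.mk' U).comp (S : Subgroup G).subtype).ker
      rw [Subgroup.index_ker, MonoidHom.range_comp, Subgroup.range_subtype] at h1
      have h2 : ((QuotientGroup.mk' U).comp (S : Subgroup G).subtype).ker = U.subgroupOf S := by
        rw [← MonoidHom.comap_ker, QuotientGroup.ker_mk']; rfl
      rw [h2, Nat.card_congr (Subgroup.subgroupOfEquivOfLe hUS).toEquiv, hUcard,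
        hScard] at h1
      refine Nat.eq_of_mul_eq_mul_left (show 0 < 2 * 2 ^ m by omega) ?_
      rw [h1]; ring
    obtain ⟨M, hMn, hM, hMo'⟩ := exists_odd_normal T (isCyclic_of_prime_card (p := 2) hTcard)
    set W := M.comap (QuotientGroup.mk' U) with hW
    obtain ⟨R⟩ := (inferInstance : Nonempty (Sylow 2 W))
    have hWcard : Nat.card W = 2 * 2 ^ m * Mo := by
      have h1 : Nat.card W = Nat.card M * Nat.card U := Solvable.card_comap_mk' U M
      rw [hTcard] at hM
      have h2 := U.card_eq_card_quotient_mul_card_subgroup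
      rw [← hM, hUcard, ← hMoG, hScard] at h2
      rw [h1, hUcard, mul_comm (Nat.card M)]
      refine congrArg _ (Nat.eq_of_mul_eq_mul_left (show 0 < 4 * 2 ^ m by omega) ?_)
      rw [h2]; ring
    have hUW : U ≤ W := fun x hx => by
      show QuotientGroup.mk' U x ∈ M
      rw [show QuotientGroup.mk' U x = 1 from (QuotientGroup.eq_one_iff x).2 hx]
      exact one_mem M
    have hRU : (R : Subgroup W) = U.subgroupOf W := by
      have hUc : Nat.card (U.subgroupOf W) = 2 ^ (m + 1) := by
        rw [Nat.card_congr (Subgroup.subgroupOfEquivOfLe hUW).toEquiv, hUcard, pow_succ']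
      have hle : U.subgroupOf W ≤ (R : Subgroup W) := (IsPGroup.of_card hUc).le_sylow_of_normal R
      refine (Subgroup.eq_of_le_of_card_ge hle ?_).symm
      rw [hUc]
      refine Nat.le_of_dvd (by positivity) ?_
      obtain ⟨t, ht⟩ := IsPGroup.iff_card.1 R.2
      have hd : 2 ^ t ∣ 2 * 2 ^ m * Mo := by
        rw [← ht, ← hWcard]; exact Subgroup.card_subgroup_dvd_card _
      rw [ht, pow_succ']
      exact (Nat.Coprime.pow_left t ((Nat.prime_two.coprime_iff_not_dvd).2 hMoodd)).dvd_of_dvd_mul_right hd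
    have hRc : IsCyclic (R : Subgroup W) := by
      rw [hRU]
      haveI : IsCyclic U := Subgroup.isCyclic_zpowers _
      exact isCyclic_of_surjective (Subgroup.subgroupOfEquivOfLe hUW).symm.toMonoidHom (MulEquiv.surjective _)
    obtain ⟨M', -, hM', hM'o⟩ := exists_odd_normal R hRc
    refine hfin (M'.map W.subtype) ?_ fun g hg => ?_
    · rw [Subgroup.card_map_of_injective W.subtype_injective, ← hMoG, mul_comm]
      congr 1
      rw [hRU, Nat.card_congr (Subgroup.subgroupOfEquivOfLe hUW).toEquiv, hUcard,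
        hWcard, mul_comm (2 * 2 ^ m) Mo] at hM'
      exact Nat.eq_of_mul_eq_mul_right (by omega) hM'
    · have hgW : g ∈ W := hMo' _ (hg.of_dvd_nat (orderOf_map_dvd (QuotientGroup.mk' U) g))
      exact ⟨⟨g, hgW⟩, hM'o _ (by rwa [Subgroup.orderOf_mk]), rfl⟩

/-- Solvability. -/
theorem isSolvable_of_even (h : TwoValued G a b) (h2G : 2 ∣ Nat.card G) : Group.IsSolvable G := by
  classical
  by_cases hsmall : (Nat.card G).primeFactors.card ≤ 2
  · exact isSolvable_of_primeFactors_le hsmall
  push Not at hsmall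
  have h2m : 2 ∈ (Nat.card G).primeFactors :=
    Nat.mem_primeFactors.2 ⟨Nat.prime_two, h2G, Nat.card_pos.ne'⟩
  set Q := (Nat.card G).primeFactors.erase 2 with hQ
  have hmem : ∀ r ∈ Q, r.Prime ∧ r ≠ 2 ∧ r ∣ Nat.card G := fun r hr => by
    rw [hQ, Finset.mem_erase, Nat.mem_primeFactors] at hr
    exact ⟨hr.2.1, hr.1, hr.2.2.1⟩
  have hinj : Set.InjOn (cnt G) (Q : Set ℕ) := by
    intro r hr s hs he
    by_contra hne
    obtain ⟨hr', hr2, hrG⟩ := hmem r hr
    obtain ⟨hs', hs2, hsG⟩ := hmem s hs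
    rcases odd_prime_cnt h hr' hr2 hrG with e | e
    · exact h.not_same_even h2G hr' hs' hne hr2 hs2 hrG hsG e (he ▸ e)
    · exact h.symm.not_same_even h2G hr' hs' hne hr2 hs2 hrG hsG e (he ▸ e)
  have hQ2 : Q.card ≤ 2 := by
    rw [← Finset.card_image_of_injOn hinj]
    refine (Finset.card_le_card (t := {a, b}) fun x hx => ?_).trans Finset.card_le_two
    obtain ⟨r, hr, rfl⟩ := Finset.mem_image.1 hx
    obtain ⟨hr', hr2, hrG⟩ := hmem r hr
    simpa using odd_prime_cnt h hr' hr2 hrG
  have hQcard : Q.card + 1 = (Nat.card G).primeFactors.card := Finset.card_erase_add_one h2m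
  obtain ⟨p, q, hne, hpq⟩ := Finset.card_eq_two.1 (show Q.card = 2 by omega)
  obtain ⟨hp, hp2, hpG⟩ := hmem p (hpq ▸ Finset.mem_insert_self p _)
  obtain ⟨hq, hq2, hqG⟩ := hmem q (hpq ▸ Finset.mem_insert_of_mem (Finset.mem_singleton_self q))
  have hz := cnt_two_eq_one h h2G hp hq hne hp2 hq2 hpG hqG
  obtain ⟨z, hz2, hu, hzc⟩ := orderOf_unique_involution hz
  have hp' := fun e : cnt G p = cnt G q => hne (hinj (hpq ▸ Finset.mem_insert_self p _)
    (hpq ▸ Finset.mem_insert_of_mem (Finset.mem_singleton_self q)) e)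
  -- no element of order 4
  have hno4 : ∀ g : G, orderOf g ≠ 4 := by
    intro g hg
    have main : ∀ {a b p q : ℕ}, TwoValued G a b → p.Prime → q.Prime → p ≠ 2 → q ≠ 2 →
        p ∣ Nat.card G → q ∣ Nat.card G → cnt G p = a → cnt G q = b → cnt G 4 = a → False := by
      intro a b p q h hp hq hp2 hq2 hpG hqG ha hb h4
      have hpb := (h.cross hp hq hp2 hq2 hpG hqG ha hb).1
      have hnd : ¬ p ∣ 4 := fun e => hp2 ((Nat.prime_dvd_prime_iff_eq hp Nat.prime_two).1
        (hp.dvd_of_dvd_pow (show p ∣ 2 ^ 2 by norm_num; exact e)))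
      have hna : ¬ p ∣ cnt G 4 := by rw [h4, ← ha]; exact not_dvd_cnt_self hp hpG
      have hle := mul_le_cnt_mul (G := G) hp hnd hna
      rw [show Nat.totient 4 = 2 from rfl, ha] at hle
      have hapos : 0 < a := ha ▸ cnt_prime_pos hp hpG
      rcases h.eq_or_eq (show 3 ≤ p * 4 by have := hp.two_le; omega) (by omega) with e | e
      · omega
      have hd : (p * 4).divisors = {1, 2, 4, p, 2 * p, p * 4} := by
        ext d
        rw [Nat.mem_divisors]
        simp only [Finset.mem_insert, Finset.mem_singleton]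
        constructor
        · rintro ⟨h, -⟩
          obtain ⟨s, t, hs, ht, rfl⟩ := Nat.dvd_mul.1 h
          obtain ⟨j, hj, rfl⟩ := (Nat.dvd_prime_pow Nat.prime_two).1 (show t ∣ 2 ^ 2 by norm_num; exact ht)
          rcases (Nat.dvd_prime hp).1 hs with rfl | rfl <;> interval_cases j <;> norm_num [mul_comm]
        · intro hd
          refine ⟨?_, mul_ne_zero hp.ne_zero (by norm_num)⟩
          rcases hd with rfl | rfl | rfl | rfl | rfl | rfl
          · exact one_dvd _
          · exact ⟨p * 2, by ring⟩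
          · exact ⟨p, by ring⟩
          · exact ⟨4, rfl⟩
          · exact ⟨2, by ring⟩
          · exact dvd_rfl
      have h4G : 4 ∣ Nat.card G := hg ▸ orderOf_dvd_natCard g
      have hsum := dvd_sum_divisors (G := G) (mul_ne_zero hp.ne_zero (by norm_num : (4 : ℕ) ≠ 0))
        (Nat.Coprime.mul_dvd_of_dvd_of_dvd (hp.coprime_iff_not_dvd.2 hnd) hpG h4G)
      have hodd := Nat.odd_iff.1 (hp.odd_of_ne_two hp2)
      have h3p := hp.two_le
      rw [hd, Finset.sum_insert (by simp; omega), Finset.sum_insert (by simp; omega),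
        Finset.sum_insert (by simp; omega), Finset.sum_insert (by simp; omega),
        Finset.sum_insert (by simp; omega), Finset.sum_singleton, cnt_one, hz, h4, ha,
        cnt_two_mul hz (hp.odd_of_ne_two hp2), ha, e] at hsum
      have h5 : p ∣ 1 + a := ha ▸ prime_dvd_succ hp hpG
      have h6 := (Dvd.intro 4 rfl).trans hsum
      have h8 : p ∣ 3 * (1 + a) + b := (h5.mul_left 3).add hpb
      rw [show 3 * (1 + a) + b = 1 + (1 + (1 + (a + (a + (a + b))))) by ring] at h8
      rw [Nat.dvd_add_left (show p ∣ 1 + (1 + (a + (a + (a + b)))) from h6)] at h8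
      exact hp.not_dvd_one h8
    rcases h.eq_or_eq (show 3 ≤ 4 by norm_num) (cnt_pos hg).ne' with e4 | e4 <;>
      rcases odd_prime_cnt h hp hp2 hpG with e | e <;>
      rcases odd_prime_cnt h hq hq2 hqG with e' | e'
    all_goals first
      | exact hp' (e.trans e'.symm)
      | exact main h hp hq hp2 hq2 hpG hqG e e' e4
      | exact main h hq hp hq2 hp2 hqG hpG e' e e4
      | exact main h.symm hp hq hp2 hq2 hpG hqG e e' e4
      | exact main h.symm hq hp hq2 hp2 hqG hpG e' e e4
  -- so the quotient by the involution has odd order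
  set Z := Subgroup.zpowers z with hZ
  haveI : Z.Normal := by
    refine ⟨fun x hx g => ?_⟩
    obtain ⟨i, rfl⟩ := Subgroup.mem_zpowers_iff.1 hx
    rw [((hzc g).zpow_right i).eq, mul_inv_cancel_right]
    exact Subgroup.zpow_mem _ (Subgroup.mem_zpowers z) i
  have hodd : ¬ 2 ∣ Nat.card (G ⧸ Z) := by
    intro h2
    haveI := Fact.mk Nat.prime_two
    obtain ⟨w, hw⟩ := exists_prime_orderOf_dvd_card' (G := G ⧸ Z) 2 h2
    obtain ⟨g, rfl⟩ := QuotientGroup.mk_surjective w
    have hg2 : g ^ 2 ∈ Z := by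
      rw [← QuotientGroup.eq_one_iff, QuotientGroup.mk_pow, ← hw, pow_orderOf_eq_one]
    have hzz : z ^ 2 = 1 := hz2 ▸ pow_orderOf_eq_one z
    have hZ2 : ∀ x ∈ Z, x = 1 ∨ x = z := fun x hx => by
      obtain ⟨i, hi, rfl⟩ := (IsOfFinOrder.mem_zpowers_iff_mem_range_orderOf (isOfFinOrder_of_finite z)).1 hx |>
        Finset.mem_image.1
      rw [hz2] at hi
      rcases i with _ | _ | i
      · simp
      · simp
      · simp at hi
    have hgz : g ∉ Z := fun hgZ => by
      rw [(QuotientGroup.eq_one_iff g).2 hgZ, orderOf_one] at hw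
      exact absurd hw (by norm_num)
    rcases hZ2 _ hg2 with e | e
    · rcases (Nat.dvd_prime Nat.prime_two).1 (orderOf_dvd_of_pow_eq_one e) with o | o
      · exact hgz (orderOf_eq_one_iff.1 o ▸ one_mem Z)
      · exact hgz (hu g o ▸ Subgroup.mem_zpowers z)
    · refine hno4 g (orderOf_eq_prime_pow (p := 2) (n := 1) ?_ ?_)
      · rw [pow_one, e]
        intro h1
        rw [h1, orderOf_one] at hz2
        exact absurd hz2 (by norm_num)
      · rw [show 2 ^ (1 + 1) = 2 * 2 by norm_num, pow_mul, e, hzz]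
  haveI : Group.IsSolvable (G ⧸ Z) := by
    refine isSolvable_of_primeFactors_le ((Finset.card_le_card (t := Q) fun r hr => ?_).trans hQ2)
    rw [Nat.mem_primeFactors] at hr
    rw [hQ, Finset.mem_erase, Nat.mem_primeFactors]
    exact ⟨fun e => hodd (e ▸ hr.2.1), hr.1, hr.2.1.trans (Subgroup.card_quotient_dvd_card Z),
      Nat.card_pos.ne'⟩
  haveI : Group.IsSolvable Z := isSolvable_of_comm fun x y => mul_comm' x y
  exact solvable_of_ker_le_range Z.subtype (QuotientGroup.mk' Z)
    (by rw [QuotientGroup.ker_mk', Subgroup.range_subtype])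

end CfsgLib.FgsSix.ThreeCounts
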