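import Mathlib
import Cfsg.Prelude.Def_Solvable
import Cfsg.Agent.S0042
import Cfsg.Agent.FgsSix.FrobeniusType
import Cfsg.Agent.PrimeGraph.Lucido
import Cfsg.Agent.Solvable.Nilpotent

/-!
# The structure of 2-Frobenius groups
-/

namespace CfsgLib.FgsSix

open Cfsg

universe u

variable {G : Type u} [Group G] [Finite G]

/-- A 2-Frobenius group with the data of its two Frobenius sections. -/
structure TwoFrobData (H K : Subgroup G) [H.Normal] : Prop where
  lt : H < K
  lower : ∃ C : Subgroup ↥K, IsFrobeniusComplement C ∧ frobeniusKernel C = (H.subgroupOf K : Set ↥K)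
  upper : ∃ C : Subgroup (G ⧸ H), IsFrobeniusComplement C ∧
    frobeniusKernel C = (K.map (QuotientGroup.mk' H) : Set (G ⧸ H))

variable {H K : Subgroup G} [H.Normal] [K.Normal]

omit [Finite G] in
theorem mem_of_map_mk_mem (hle : H ≤ K) {g : G}
    (hg : (QuotientGroup.mk g : G ⧸ H) ∈ K.map (QuotientGroup.mk' H)) : g ∈ K := by
  obtain ⟨k, hk, hkg⟩ := hg
  have h1 : k⁻¹ * g ∈ H := QuotientGroup.eq.1 hkg
  have h2 := K.mul_mem hk (hle h1)
  rwa [mul_inv_cancel_left] at h2

/-- The lower section: an element of `H` commuting with an element of `K` outside `H` is trivial. -/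
theorem TwoFrobData.eq_one_lower (d : TwoFrobData H K) {x y : G} (hx : x ∈ H) (hy : y ∈ K)
    (hyH : y ∉ H) (hxy : Commute x y) : x = 1 := by
  obtain ⟨C, hC, hker⟩ := d.lower
  have h1 := CfsgLib.FrobComp.eq_one_of_commute hC (x := (⟨x, d.lt.le hx⟩ : ↥K)) (y := ⟨y, hy⟩)
    (by rw [hker]; exact hx) (by rw [hker]; exact hyH) (Subtype.ext hxy)
  exact congrArg Subtype.val h1

/-- The upper section. -/
theorem TwoFrobData.eq_one_upper (d : TwoFrobData H K) {x y : G ⧸ H}
    (hx : x ∈ K.map (QuotientGroup.mk' H)) (hy : y ∉ K.map (QuotientGroup.mk' H)) (hxy : Commute x y) :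
    x = 1 := by
  obtain ⟨C, hC, hker⟩ := d.upper
  exact CfsgLib.FrobComp.eq_one_of_commute hC (by rw [hker]; exact hx) (by rw [hker]; exact hy) hxy

theorem TwoFrobData.isNilpotent (d : TwoFrobData H K) : Group.IsNilpotent ↥H := by
  obtain ⟨C, hC, hker⟩ := d.lower
  obtain ⟨N, hN, -, hnil⟩ := Cfsg.Agent.S0042.result C hC
  obtain rfl : N = H.subgroupOf K := SetLike.coe_injective (hN.trans hker)
  exact Group.nilpotent_of_mulEquiv (Subgroup.subgroupOfEquivOfLe d.lt.le)

/-- The middle factor is isomorphic to the complement of the lower section. -/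
theorem TwoFrobData.exists_complement (d : TwoFrobData H K) :
    ∃ C : Subgroup ↥K, IsFrobeniusComplement C ∧ (H.subgroupOf K).IsComplement' C ∧
      Nonempty (↥C ≃* ↥(K.map (QuotientGroup.mk' H))) := by
  obtain ⟨C, hC, hker⟩ := d.lower
  obtain ⟨N, hN, hc, hNker⟩ := CfsgLib.FrobComp.exists_kernel hC
  obtain rfl : N = H.subgroupOf K := SetLike.coe_injective (hNker.trans hker)
  refine ⟨C, hC, hc, ⟨MulEquiv.ofBijective
    (((QuotientGroup.mk' H).subgroupMap K).comp C.subtype) ⟨?_, ?_⟩⟩⟩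
  · rw [injective_iff_map_eq_one]
    intro c hcm
    have h1 : ((c : ↥K) : G) ∈ H := (QuotientGroup.eq_one_iff _).1 (congrArg Subtype.val hcm)
    refine Subtype.ext ?_
    have h2 : (c : ↥K) ∈ H.subgroupOf K ⊓ C := ⟨h1, c.2⟩
    rwa [hc.disjoint.eq_bot, Subgroup.mem_bot] at h2
  · rintro ⟨_, k, hk, rfl⟩
    obtain ⟨⟨⟨n, hn⟩, ⟨c, hcC⟩⟩, hnc⟩ := hc.2 (⟨k, hk⟩ : ↥K)
    refine ⟨⟨c, hcC⟩, Subtype.ext ?_⟩
    have h1 : (n : G) * (c : G) = k := congrArg Subtype.val hnc
    show QuotientGroup.mk' H (c : G) = QuotientGroup.mk' H k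
    rw [← h1, map_mul, show QuotientGroup.mk' H (n : G) = 1 from (QuotientGroup.eq_one_iff _).2 hn,
      one_mul]

/-- The middle factor has no involution. -/
theorem TwoFrobData.not_two_dvd (d : TwoFrobData H K) :
    ¬ 2 ∣ Nat.card ↥(K.map (QuotientGroup.mk' H)) := by
  intro h2
  haveI := Fact.mk Nat.prime_two
  obtain ⟨D, hD, hDker⟩ := d.upper
  obtain ⟨N, hN, -, hnil⟩ := Cfsg.Agent.S0042.result D hD
  obtain rfl : N = K.map (QuotientGroup.mk' H) := SetLike.coe_injective (hN.trans hDker)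
  obtain ⟨C, hC, hc, ⟨f⟩⟩ := d.exists_complement
  haveI : Group.IsNilpotent ↥C := Group.nilpotent_of_mulEquiv f.symm
  have hHne : H.subgroupOf K ≠ ⊥ := fun h => hC.2.1 (Subgroup.isComplement'_bot_left.1 (h ▸ hc))
  have hfpf := (CfsgLib.Solvable.isFrobeniusComplement_iff_fpf hc hHne hC.1).1 hC
  have hcu := cyclicOddUniqueTwo_of_fpf hHne hfpf
  obtain ⟨Q⟩ : Nonempty (Sylow 2 ↥C) := inferInstance
  have hQn : (Q : Subgroup ↥C).Normal :=
    Group.isNilpotent_of_finite_tfae.out 0 3 rfl rfl |>.mp inferInstance 2 inferInstance Q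
  have hmem : ∀ x : ↥C, x ^ 2 = 1 → x ∈ (Q : Subgroup ↥C) := by
    intro x hx
    have hp : IsPGroup 2 ↥(Subgroup.zpowers x) := by
      rintro ⟨y, hy⟩
      obtain ⟨i, rfl⟩ := Subgroup.mem_zpowers_iff.1 hy
      refine ⟨1, Subtype.ext ?_⟩
      show (x ^ i) ^ (2 ^ 1) = 1
      rw [pow_one, ← zpow_natCast, ← zpow_mul, mul_comm, zpow_mul, zpow_natCast, hx, one_zpow]
    obtain ⟨R, hR⟩ := hp.exists_le_sylow
    haveI := Sylow.unique_of_normal Q hQn
    rw [Subsingleton.elim Q R]
    exact hR (Subgroup.mem_zpowers _)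
  obtain ⟨t, ht⟩ := exists_prime_orderOf_dvd_card' (G := ↥(K.map (QuotientGroup.mk' H))) 2 h2
  have ht1 : t ≠ 1 := fun h => by rw [h, orderOf_one] at ht; omega
  have huniq : ∀ u : ↥(K.map (QuotientGroup.mk' H)), u ^ 2 = 1 → u ≠ 1 → u = t := by
    intro u hu hu1
    apply f.symm.injective
    have e1 : f.symm u ^ 2 = 1 := by rw [← map_pow, hu, map_one]
    have e2 : f.symm t ^ 2 = 1 := by
      rw [← map_pow, orderOf_dvd_iff_pow_eq_one.1 (dvd_of_eq ht), map_one]
    have hne : f.symm t ≠ 1 := fun h => ht1 (f.symm.injective (h.trans (map_one _).symm))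
    obtain ⟨i, hi⟩ := hcu.2 Q ⟨_, hmem _ e1⟩ ⟨_, hmem _ e2⟩ (Subtype.ext e1) (Subtype.ext e2)
      (fun h => hne (congrArg Subtype.val h))
    have hi' : f.symm t ^ i = f.symm u := congrArg Subtype.val hi
    rcases Int.even_or_odd i with ⟨j, rfl⟩ | ⟨j, rfl⟩
    · exfalso
      rw [← two_mul, zpow_mul, zpow_ofNat, e2, one_zpow] at hi'
      exact hu1 (f.symm.injective (hi'.symm.trans (map_one _).symm))
    · rw [zpow_add, zpow_mul, zpow_ofNat, e2, one_zpow, one_mul, zpow_one] at hi'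
      exact hi'.symm
  haveI : (K.map (QuotientGroup.mk' H)).Normal :=
    (inferInstance : K.Normal).map _ (QuotientGroup.mk'_surjective H)
  obtain ⟨y, hy, hy1⟩ : ∃ y ∈ D, y ≠ 1 := D.bot_or_exists_ne_one.resolve_left hD.1
  have hyk : y ∉ K.map (QuotientGroup.mk' H) := fun h => hy1 (by
    have h' : y ∈ frobeniusKernel D := by rw [hDker]; exact h
    exact CfsgLib.FrobComp.eq_one_of_mem_kernel_of_mem h' hy)
  have hty : MulAut.conjNormal y t = t := by
    refine huniq _ ?_ (fun h => ht1 ((MulAut.conjNormal y).injective (h.trans (map_one _).symm)))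
    rw [← map_pow, orderOf_dvd_iff_pow_eq_one.1 (dvd_of_eq ht), map_one]
  have hty' := congrArg Subtype.val hty
  rw [MulAut.conjNormal_apply] at hty'
  exact ht1 (Subtype.ext (d.eq_one_upper t.2 hyk (mul_inv_eq_iff_eq_mul.1 hty').symm))

theorem TwoFrobData.isCyclic_middle (d : TwoFrobData H K) :
    IsCyclic ↥(K.map (QuotientGroup.mk' H)) := by
  obtain ⟨D, hD, hDker⟩ := d.upper
  obtain ⟨N, hN, -, hnil⟩ := Cfsg.Agent.S0042.result D hD
  obtain rfl : N = K.map (QuotientGroup.mk' H) := SetLike.coe_injective (hN.trans hDker)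
  obtain ⟨C, hC, hc, ⟨f⟩⟩ := d.exists_complement
  haveI : Group.IsNilpotent ↥C := Group.nilpotent_of_mulEquiv f.symm
  have hHne : H.subgroupOf K ≠ ⊥ := fun h => hC.2.1 (Subgroup.isComplement'_bot_left.1 (h ▸ hc))
  have hfpf := (CfsgLib.Solvable.isFrobeniusComplement_iff_fpf hc hHne hC.1).1 hC
  have hcu := cyclicOddUniqueTwo_of_fpf hHne hfpf
  haveI : IsZGroup ↥C := by
    rw [isZGroup_iff]
    intro q hq Q
    haveI := Fact.mk hq
    by_cases hq2 : q = 2
    · subst hq2
      have h2 : Nat.card ↥(Q : Subgroup ↥C) = 1 := by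
        obtain ⟨i, hi⟩ := IsPGroup.iff_card.1 Q.isPGroup'
        rcases Nat.eq_zero_or_pos i with rfl | hi0
        · rwa [pow_zero] at hi
        · exfalso
          refine d.not_two_dvd ?_
          rw [← Nat.card_congr f.toEquiv]
          exact (hi ▸ dvd_pow_self 2 hi0.ne').trans (Subgroup.card_subgroup_dvd_card _)
      haveI := (Nat.card_eq_one_iff_unique.1 h2).1
      exact isCyclic_of_subsingleton
    · exact hcu.1 q Q hq2
  exact isCyclic_of_surjective f f.surjective

theorem TwoFrobData.coprime_middle_lower (d : TwoFrobData H K) :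
    (Nat.card ↥(K.map (QuotientGroup.mk' H))).Coprime (Nat.card ↥H) := by
  obtain ⟨C, hC, hc, ⟨f⟩⟩ := d.exists_complement
  have h := CfsgLib.FrobComp.coprime_card_index hC
  rwa [hc.index_eq_card, Nat.card_congr f.toEquiv,
    Nat.card_congr (Subgroup.subgroupOfEquivOfLe d.lt.le).toEquiv] at h

theorem TwoFrobData.coprime_middle_upper (d : TwoFrobData H K) :
    (Nat.card ↥(K.map (QuotientGroup.mk' H))).Coprime (Nat.card (G ⧸ K)) := by
  obtain ⟨D, hD, hDker⟩ := d.upper
  obtain ⟨N, hN, hc, hNker⟩ := CfsgLib.FrobComp.exists_kernel hD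
  obtain rfl : N = K.map (QuotientGroup.mk' H) := SetLike.coe_injective (hNker.trans hDker)
  have h := CfsgLib.FrobComp.coprime_card_index hD
  rw [hc.index_eq_card] at h
  have hi : (K.map (QuotientGroup.mk' H)).index = Nat.card ↥D := hc.symm.index_eq_card
  rw [Subgroup.index_map_eq _ (QuotientGroup.mk'_surjective H)
    (by rw [QuotientGroup.ker_mk']; exact d.lt.le), Subgroup.index_eq_card] at hi
  rw [hi]
  exact h.symm

theorem TwoFrobData.isCyclic_upper (d : TwoFrobData H K) : IsCyclic (G ⧸ K) := by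
  obtain ⟨D, hD, hDker⟩ := d.upper
  obtain ⟨N, hN, hc, hNker⟩ := CfsgLib.FrobComp.exists_kernel hD
  obtain rfl : N = K.map (QuotientGroup.mk' H) := SetLike.coe_injective (hNker.trans hDker)
  haveI := hN
  haveI := d.isCyclic_middle
  have hNne : K.map (QuotientGroup.mk' H) ≠ ⊥ := fun h => hD.2.1
    (Subgroup.isComplement'_bot_left.1 (h ▸ hc))
  have hfpf := (CfsgLib.Solvable.isFrobeniusComplement_iff_fpf hc hNne hD.1).1 hD
  haveI : IsMulCommutative ↥D := by
    let φ : ↥D →* MulAut ↥(K.map (QuotientGroup.mk' H)) :=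
      (MulAut.conjNormal (H := K.map (QuotientGroup.mk' H))).comp D.subtype
    have hφ : Function.Injective φ := by
      rw [injective_iff_map_eq_one]
      intro y hy
      by_contra hy1
      obtain ⟨t, ht, ht1⟩ : ∃ t ∈ K.map (QuotientGroup.mk' H), t ≠ 1 :=
        (K.map (QuotientGroup.mk' H)).bot_or_exists_ne_one.resolve_left hNne
      apply ht1
      refine CfsgLib.Solvable.eq_one_of_commute_of_fpf hfpf y.2 (fun e => hy1 (Subtype.ext e)) ht ?_
      have h1 := congrArg Subtype.val (DFunLike.congr_fun hy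
        (⟨t, ht⟩ : ↥(K.map (QuotientGroup.mk' H))))
      simp only [φ, MonoidHom.comp_apply, Subgroup.coe_subtype, MulAut.conjNormal_apply,
        MulAut.one_apply] at h1
      exact mul_inv_eq_iff_eq_mul.1 h1
    have hAutc : ∀ a b : MulAut ↥(K.map (QuotientGroup.mk' H)), a * b = b * a := fun a b => by
      apply (IsCyclic.mulAutMulEquiv _).injective
      rw [map_mul, map_mul, mul_comm]
    exact ⟨⟨fun a b => hφ (by rw [map_mul, map_mul, hAutc])⟩⟩
  haveI : IsCyclic ↥D := CfsgLib.Solvable.isCyclic_of_fpf_comm hNne hfpf le_rfl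
  let e : (G ⧸ H) ⧸ K.map (QuotientGroup.mk' H) ≃* G ⧸ K :=
    QuotientGroup.quotientQuotientEquivQuotient H K d.lt.le
  let q := (Subgroup.IsComplement'.QuotientMulEquiv hc.symm).symm.trans e
  exact isCyclic_of_surjective q q.surjective

theorem TwoFrobData.isSolvable (d : TwoFrobData H K) : Group.IsSolvable G := by
  haveI := d.isNilpotent
  haveI := d.isCyclic_middle
  haveI := d.isCyclic_upper
  haveI : Group.IsSolvable ↥H := inferInstance
  haveI : (K.map (QuotientGroup.mk' H)).Normal :=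
    (inferInstance : K.Normal).map _ (QuotientGroup.mk'_surjective H)
  haveI : Group.IsSolvable ((G ⧸ H) ⧸ K.map (QuotientGroup.mk' H)) :=
    Group.isSolvable_of_surjective (f := (QuotientGroup.quotientQuotientEquivQuotient H K d.lt.le).symm.toMonoidHom)
      (MulEquiv.surjective _)
  haveI : Group.IsSolvable (G ⧸ H) :=
    Group.isSolvable_of_ker_le_range (K.map (QuotientGroup.mk' H)).subtype
      (QuotientGroup.mk' (K.map (QuotientGroup.mk' H)))
      (by rw [QuotientGroup.ker_mk', Subgroup.range_subtype])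
  exact Group.isSolvable_of_ker_le_range H.subtype (QuotientGroup.mk' H)
    (by rw [QuotientGroup.ker_mk', Subgroup.range_subtype])

/-- Elements of the two kinds of order do not commute. -/
theorem TwoFrobData.not_commute (d : TwoFrobData H K) {p q : ℕ} (hp : p.Prime) (hq : q.Prime)
    (hpa : p ∣ Nat.card ↥(K.map (QuotientGroup.mk' H)))
    (hqa : ¬ q ∣ Nat.card ↥(K.map (QuotientGroup.mk' H))) {u v : G} (hu : orderOf u = p)
    (hv : orderOf v = q) : ¬ Commute u v := by
  intro huv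
  have huK : u ∈ K := by
    rw [← QuotientGroup.eq_one_iff, ← orderOf_eq_one_iff]
    exact Nat.eq_one_of_dvd_coprimes (d.coprime_middle_upper.coprime_dvd_left hpa)
      (hu ▸ orderOf_map_dvd (QuotientGroup.mk' K) u) (orderOf_dvd_natCard _)
  have huH : u ∉ H := fun h => hp.ne_one (Nat.eq_one_of_dvd_coprimes
    (d.coprime_middle_lower) hpa (hu ▸ Subgroup.orderOf_dvd_natCard H h))
  have hvK : v ∈ K := by
    refine mem_of_map_mk_mem d.lt.le ?_
    by_contra hvk
    refine huH ((QuotientGroup.eq_one_iff u).1 (d.eq_one_upper ⟨u, huK, rfl⟩ hvk ?_))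
    exact huv.map (QuotientGroup.mk' H)
  have hvH : v ∈ H := by
    rw [← QuotientGroup.eq_one_iff, ← orderOf_eq_one_iff]
    have h1 : orderOf (QuotientGroup.mk' H v) ∣ q := hv ▸ orderOf_map_dvd _ v
    refine ((Nat.dvd_prime hq).1 h1).resolve_right fun h2 => hqa ?_
    rw [← h2]
    exact Subgroup.orderOf_dvd_natCard _ ⟨v, hvK, rfl⟩
  have := d.eq_one_lower hvH huK huH huv.symm
  rw [this, orderOf_one] at hv
  exact hq.ne_one hv.symm

/-- An element of order `p` outside `K` centralises an element of order `q` of `H`. -/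
theorem TwoFrobData.exists_commute_lower (d : TwoFrobData H K) {p q : ℕ} (hp : p.Prime)
    (hq : q.Prime) {x : G} (hx : orderOf x = p) (hxK : x ∉ K) (hqH : q ∣ Nat.card ↥H) :
    ∃ v : G, orderOf v = q ∧ Commute x v := by
  classical
  haveI := Fact.mk hp
  haveI := Fact.mk hq
  haveI := d.isNilpotent
  obtain ⟨Q⟩ : Nonempty (Sylow q ↥H) := inferInstance
  haveI : (Q : Subgroup ↥H).Normal :=
    Group.isNilpotent_of_finite_tfae.out 0 3 rfl rfl |>.mp inferInstance q inferInstance Q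
  have hQne : (Q : Subgroup ↥H) ≠ ⊥ := Q.ne_bot_of_dvd_card hqH
  have hz : (Q : Subgroup ↥H) ⊓ Subgroup.center ↥H ≠ ⊥ :=
    CfsgLib.Solvable.inf_center_ne_bot hQne
  obtain ⟨z, ⟨hzQ, hzc⟩, hz1⟩ := ((Q : Subgroup ↥H) ⊓ Subgroup.center ↥H).bot_or_exists_ne_one.resolve_left hz
  obtain ⟨i, hi⟩ := IsPGroup.iff_orderOf.1 Q.isPGroup' ⟨z, hzQ⟩
  replace hi : orderOf z = q ^ i := (Subgroup.orderOf_coe _).trans hi
  have hi0 : i ≠ 0 := fun h => hz1 (orderOf_eq_one_iff.1 (by rw [hi, h, pow_zero]))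
  obtain ⟨v₀, hv₀, hv₀c⟩ : ∃ v₀ : ↥H, orderOf v₀ = q ∧ v₀ ∈ Subgroup.center ↥H :=
    ⟨z ^ (orderOf z / q), orderOf_pow_orderOf_div (orderOf_pos z).ne' (hi ▸ dvd_pow_self q hi0),
      Subgroup.pow_mem _ hzc _⟩
  -- the `q`-part of the centre of `H`, with the action of `G ⧸ H`
  let V : Subgroup G := ((Subgroup.center ↥H).map H.subtype)
  haveI : IsMulCommutative ↥V := by
    refine ⟨⟨fun a b => Subtype.ext ?_⟩⟩
    obtain ⟨a', ha', ha⟩ := a.2
    obtain ⟨b', -, hb⟩ := b.2
    show (a : G) * b = b * a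
    rw [← ha, ← hb]
    exact congrArg Subtype.val (Subgroup.mem_center_iff.1 ha' b').symm
  haveI hVn : V.Normal := by
    haveI : (Subgroup.center ↥H).Characteristic := Subgroup.centerCharacteristic
    exact CfsgLib.PLocal.normal_map_subtype H _
  have hker : H ≤ (MulAut.conjNormal (H := V)).ker := by
    intro h hh
    refine MulEquiv.ext fun w => Subtype.ext ?_
    rw [MulAut.conjNormal_apply]
    obtain ⟨w', hw', hw⟩ := w.2
    show h * (w : G) * h⁻¹ = (w : G)
    rw [← hw]
    exact mul_inv_eq_iff_eq_mul.2 (congrArg Subtype.val (Subgroup.mem_center_iff.1 hw' ⟨h, hh⟩))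
  let φ : G ⧸ H →* MulAut ↥V := QuotientGroup.lift H (MulAut.conjNormal (H := V)) hker
  letI : CommGroup ↥V := { (inferInstance : Group ↥V) with mul_comm := fun a b => mul_comm' a b }
  haveI : (K.map (QuotientGroup.mk' H)).Normal :=
    (inferInstance : K.Normal).map _ (QuotientGroup.mk'_surjective H)
  have hxH : x ∉ H := fun h => hxK (d.lt.le h)
  have hxo : orderOf (QuotientGroup.mk x : G ⧸ H) = p := by
    have h1 : orderOf (QuotientGroup.mk' H x) ∣ p := hx ▸ orderOf_map_dvd _ x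
    exact ((Nat.dvd_prime hp).1 h1).resolve_left fun h2 =>
      hxH ((QuotientGroup.eq_one_iff x).1 (orderOf_eq_one_iff.1 h2))
  obtain ⟨y, hy, hy1⟩ : ∃ y ∈ K.map (QuotientGroup.mk' H), y ≠ 1 := by
    refine (K.map (QuotientGroup.mk' H)).bot_or_exists_ne_one.resolve_left fun h => ?_
    rw [Subgroup.map_eq_bot_iff, QuotientGroup.ker_mk'] at h
    exact d.lt.not_ge h
  by_contra hno
  push_neg at hno
  have hVy : ∀ w : ↥V, φ y w = w → w = 1 := by
    intro w hw
    obtain ⟨k, hk, rfl⟩ := hy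
    have h1 := congrArg Subtype.val hw
    simp only [φ, QuotientGroup.lift_mk', MulAut.conjNormal_apply] at h1
    refine Subtype.ext ?_
    obtain ⟨w', -, hw'⟩ := w.2
    refine d.eq_one_lower (hw' ▸ w'.2) hk (fun hkH => hy1 ((QuotientGroup.eq_one_iff k).2 hkH)) ?_
    exact (mul_inv_eq_iff_eq_mul.1 h1).symm
  have key : ∀ w : ↥V, φ (QuotientGroup.mk x) w = w → Commute x (w : G) := by
    intro w hw
    have h1 := congrArg Subtype.val hw
    simp only [φ, QuotientGroup.lift_mk, MulAut.conjNormal_apply] at h1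
    exact mul_inv_eq_iff_eq_mul.1 h1
  -- work in the subgroup of `V` of elements killed by `q`
  let W : Subgroup ↥V := (powMonoidHom q : ↥V →* ↥V).ker
  have hW : ∀ g : G ⧸ H, ∀ w : ↥V, w ∈ W → φ g w ∈ W := by
    intro g w hw
    rw [MonoidHom.mem_ker, powMonoidHom_apply] at hw ⊢
    rw [← map_pow, hw, map_one]
  let ψ : G ⧸ H →* MulAut ↥W :=
    { toFun := fun g =>
        { toFun := fun w => ⟨φ g w, hW g w w.2⟩
          invFun := fun w => ⟨φ g⁻¹ w, hW g⁻¹ w w.2⟩
          left_inv := fun w => Subtype.ext (by simp)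
          right_inv := fun w => Subtype.ext (by simp)
          map_mul' := fun a b => Subtype.ext (by simp) }
      map_one' := MulEquiv.ext fun w => Subtype.ext (by simp)
      map_mul' := fun a b => MulEquiv.ext fun w => Subtype.ext (by simp) }
  let w₀ : ↥W := ⟨⟨(v₀ : G), v₀, hv₀c, rfl⟩, by
    rw [MonoidHom.mem_ker, powMonoidHom_apply]
    refine Subtype.ext ?_
    show (v₀ : G) ^ q = 1
    rw [← Subgroup.coe_pow, orderOf_dvd_iff_pow_eq_one.1 (dvd_of_eq hv₀), Subgroup.coe_one]⟩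
  have hwq : ∀ w : ↥W, w ^ q = 1 := fun w => Subtype.ext (by
    rw [Subgroup.coe_pow]; exact MonoidHom.mem_ker.1 w.2)
  have hfixW : ∀ w : ↥W, ψ (QuotientGroup.mk x) w = w → w = 1 := by
    intro w hw
    by_contra hw1
    refine hno ((w : ↥V) : G) ?_ (key _ (congrArg Subtype.val hw))
    rw [Subgroup.orderOf_coe, Subgroup.orderOf_coe]
    exact orderOf_eq_prime (hwq w) hw1
  have hres := CfsgLib.PrimeGraph.pow_card_eq_one_of_fixedPointFree ψ (K.map (QuotientGroup.mk' H))
    hp hxo (Subgroup.mem_normalizer_iff.2 fun g => ⟨fun hg => (inferInstance : (K.map (QuotientGroup.mk' H)).Normal).conj_mem g hg _,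
      fun hg => by
        have := (inferInstance : (K.map (QuotientGroup.mk' H)).Normal).conj_mem _ hg (QuotientGroup.mk x : G ⧸ H)⁻¹
        simpa [mul_assoc] using this⟩)
    (fun a ha hax => d.eq_one_upper ha (fun h => hxK (mem_of_map_mk_mem d.lt.le h)) hax) hy
    (fun w hw => Subtype.ext (hVy _ (congrArg Subtype.val hw))) hfixW w₀
  have h1 := orderOf_dvd_of_pow_eq_one hres
  have h2 : orderOf w₀ = q := by
    refine orderOf_eq_prime (hwq w₀) fun h => ?_
    have h3 : (v₀ : G) = 1 := congrArg (fun w : ↥W => ((w : ↥V) : G)) h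
    rw [← Subgroup.orderOf_coe, h3, orderOf_one] at hv₀
    exact hq.ne_one hv₀.symm
  rw [h2] at h1
  exact hq.ne_one (Nat.eq_one_of_dvd_coprimes d.coprime_middle_lower h1 hqH)

/-- The prime graph of a 2-Frobenius group. -/
theorem TwoFrobData.exists_orderOf_mul_iff (d : TwoFrobData H K) {p q : ℕ} (hp : p.Prime)
    (hq : q.Prime) (hpq : p ≠ q) (hpG : p ∣ Nat.card G) (hqG : q ∣ Nat.card G) :
    (∃ g : G, orderOf g = p * q) ↔
      (p ∣ Nat.card ↥(K.map (QuotientGroup.mk' H)) ↔ q ∣ Nat.card ↥(K.map (QuotientGroup.mk' H))) := by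
  haveI := Fact.mk hp
  haveI := Fact.mk hq
  set a := Nat.card ↥(K.map (QuotientGroup.mk' H)) with ha
  have hG : Nat.card G = Nat.card ↥H * a * Nat.card (G ⧸ K) := by
    obtain ⟨C, hC, hc, ⟨f⟩⟩ := d.exists_complement
    rw [ha, ← Nat.card_congr f.toEquiv, Subgroup.card_eq_card_quotient_mul_card_subgroup K,
      ← hc.card_mul, Nat.card_congr (Subgroup.subgroupOfEquivOfLe d.lt.le).toEquiv, mul_comm]
  constructor
  · rintro ⟨g, hg⟩
    have e1 := orderOf_pow_orderOf_div (orderOf_pos g).ne' (hg ▸ dvd_mul_right p q)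
    have e2 := orderOf_pow_orderOf_div (orderOf_pos g).ne' (hg ▸ dvd_mul_left q p)
    have hc : Commute (g ^ (orderOf g / p)) (g ^ (orderOf g / q)) := Commute.pow_pow_self g _ _
    refine ⟨fun h => ?_, fun h => ?_⟩
    · by_contra hq'
      exact d.not_commute hp hq h hq' e1 e2 hc
    · by_contra hp'
      exact d.not_commute hq hp h hp' e2 e1 hc.symm
  · intro hiff
    by_cases hpa : p ∣ a
    · have hqa := hiff.1 hpa
      obtain ⟨C, hC, hc, ⟨f⟩⟩ := d.exists_complement
      haveI := d.isCyclic_middle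
      obtain ⟨g, hg⟩ := IsCyclic.exists_generator (α := ↥(K.map (QuotientGroup.mk' H)))
      have hgo : orderOf g = a := by
        rw [ha, orderOf_eq_card_of_forall_mem_zpowers hg]
      have hd : p * q ∣ orderOf g :=
        hgo ▸ ((Nat.coprime_primes hp hq).2 hpq).mul_dvd_of_dvd_of_dvd hpa hqa
      refine CfsgLib.PrimeGraph.exists_orderOf_eq_of_surjective (QuotientGroup.mk' H)
        (QuotientGroup.mk'_surjective H) ⟨((g ^ (orderOf g / (p * q)) : ↥(K.map (QuotientGroup.mk' H))) : G ⧸ H), ?_⟩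
      rw [Subgroup.orderOf_coe, orderOf_pow_orderOf_div (orderOf_pos g).ne' hd]
    have hqa : ¬ q ∣ a := fun h => hpa (hiff.2 h)
    rw [hG] at hpG hqG
    have hp' : p ∣ Nat.card ↥H ∨ p ∣ Nat.card (G ⧸ K) := by
      rcases hp.dvd_mul.1 hpG with h | h
      · exact Or.inl ((hp.dvd_mul.1 h).resolve_right hpa)
      · exact Or.inr h
    have hq' : q ∣ Nat.card ↥H ∨ q ∣ Nat.card (G ⧸ K) := by
      rcases hq.dvd_mul.1 hqG with h | h
      · exact Or.inl ((hq.dvd_mul.1 h).resolve_right hqa)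
      · exact Or.inr h
    haveI := d.isNilpotent
    have hKcard : Nat.card ↥K = Nat.card ↥H * a := by
      obtain ⟨C, hC, hc, ⟨f⟩⟩ := d.exists_complement
      rw [ha, ← Nat.card_congr f.toEquiv, ← hc.card_mul,
        Nat.card_congr (Subgroup.subgroupOfEquivOfLe d.lt.le).toEquiv]
    have hmixed : ∀ r s : ℕ, r.Prime → s.Prime → r ≠ s → ¬ r ∣ a → r ∣ Nat.card G →
        ¬ r ∣ Nat.card ↥H → s ∣ Nat.card ↥H → ∃ g : G, orderOf g = r * s := by
      intro r s hr hs hrs hra hrG hrH hsH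
      haveI := Fact.mk hr
      obtain ⟨x, hx⟩ := exists_prime_orderOf_dvd_card' (G := G) r hrG
      have hxK : x ∉ K := fun h => by
        have h1 := Subgroup.orderOf_dvd_natCard K h
        rw [hx, hKcard] at h1
        exact (hr.dvd_mul.1 h1).elim hrH hra
      obtain ⟨v, hv, hxv⟩ := d.exists_commute_lower hr hs hx hxK hsH
      exact CfsgLib.PrimeGraph.exists_orderOf_eq_mul_of_commute hr hs hrs hx hv hxv
    rw [← hG] at hpG hqG
    by_cases hph : p ∣ Nat.card ↥H <;> by_cases hqh : q ∣ Nat.card ↥H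
    · obtain ⟨P⟩ : Nonempty (Sylow p ↥H) := inferInstance
      obtain ⟨Q⟩ : Nonempty (Sylow q ↥H) := inferInstance
      have hPn : (P : Subgroup ↥H).Normal :=
        Group.isNilpotent_of_finite_tfae.out 0 3 rfl rfl |>.mp inferInstance p inferInstance P
      have hQn : (Q : Subgroup ↥H).Normal :=
        Group.isNilpotent_of_finite_tfae.out 0 3 rfl rfl |>.mp inferInstance q inferInstance Q
      obtain ⟨u, hu⟩ := exists_prime_orderOf_dvd_card' (G := ↥(P : Subgroup ↥H)) p (P.dvd_card_of_dvd_card hph)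
      obtain ⟨v, hv⟩ := exists_prime_orderOf_dvd_card' (G := ↥(Q : Subgroup ↥H)) q (Q.dvd_card_of_dvd_card hqh)
      have huv : Commute (u : ↥H) (v : ↥H) := Subgroup.commute_of_normal_of_disjoint _ _ hPn hQn
        (IsPGroup.disjoint_of_ne _ _ hpq _ _ P.isPGroup' Q.isPGroup') _ _ u.2 v.2
      exact CfsgLib.PrimeGraph.exists_orderOf_eq_mul_of_commute hp hq hpq
        (x := ((u : ↥H) : G)) (y := ((v : ↥H) : G))
        (by rw [Subgroup.orderOf_coe, Subgroup.orderOf_coe, hu])
        (by rw [Subgroup.orderOf_coe, Subgroup.orderOf_coe, hv]) (huv.map H.subtype)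
    · obtain ⟨g, hg⟩ := hmixed q p hq hp (Ne.symm hpq) hqa hqG hqh hph
      exact ⟨g, hg.trans (mul_comm q p)⟩
    · exact hmixed p q hp hq hpq hpa hpG hph hqh
    · have hd : p * q ∣ Nat.card (G ⧸ K) := ((Nat.coprime_primes hp hq).2 hpq).mul_dvd_of_dvd_of_dvd
        (hp'.resolve_left hph) (hq'.resolve_left hqh)
      haveI := d.isCyclic_upper
      obtain ⟨g, hg⟩ := IsCyclic.exists_generator (α := G ⧸ K)
      have hgo := orderOf_eq_card_of_forall_mem_zpowers hg
      exact CfsgLib.PrimeGraph.exists_orderOf_eq_of_surjective (QuotientGroup.mk' K)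
        (QuotientGroup.mk'_surjective K)
        ⟨g ^ (orderOf g / (p * q)), orderOf_pow_orderOf_div (orderOf_pos g).ne' (hgo.symm ▸ hd)⟩

omit [Finite G] in
theorem card_middle (hle : H ≤ K) :
    Nat.card ↥(K.map (QuotientGroup.mk' H)) = Nat.card (↥K ⧸ H.subgroupOf K) := by
  have h1 : ((QuotientGroup.mk' H).comp K.subtype).ker = H.subgroupOf K := by
    ext x
    simp [Subgroup.mem_subgroupOf]
  rw [Nat.card_congr (QuotientGroup.quotientMulEquivOfEq h1.symm).toEquiv,
    Nat.card_congr (QuotientGroup.quotientKerEquivRange ((QuotientGroup.mk' H).comp K.subtype)).toEquiv,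
    MonoidHom.range_comp, Subgroup.range_subtype]

end CfsgLib.FgsSix
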